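import Cfsg.Agent.Lib.CoOneType.Comm

/-!
Involutions of the radical of a pair: the two kinds with independent components.
-/

set_option autoImplicit false

namespace CfsgLib.CoOneType

open CfsgLib.Extraspecial CfsgLib.Extraspecial.Pair
open CfsgLib.ConwayFive (dec8 dec8_surj)

theorem dual_check : ∀ k i j : Bool, ∃ n : Fin 256, bf s0 (dec8 n) = false ∧ bf (a0 k) (dec8 n) = i ∧
    bf (b0 k) (dec8 n) = j := by
  decide +kernel

set_option synthInstance.maxSize 8192 in
theorem span_check : ∀ k : Bool, ∀ n : Fin 256, (∀ m : Fin 256, bf s0 (dec8 m) = false →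
    bf (a0 k) (dec8 m) = false → bf (b0 k) (dec8 m) = false → bf (dec8 n) (dec8 m) = false) →
    InSpan s0 (a0 k) (b0 k) (dec8 n) := by
  unfold InSpan
  decide +kernel

theorem Cfg.dual {k : Bool} {s a b : V8} (C : Cfg k s a b) (i j : Bool) :
    ∃ w, bf s w = false ∧ bf a w = i ∧ bf b w = j := by
  obtain ⟨L, hL, rfl, rfl, rfl⟩ := C.move_std
  obtain ⟨n, h1, h2, h3⟩ := dual_check k i j
  exact ⟨L (dec8 n), by rw [iso_bf hL.1]; exact h1, by rw [iso_bf hL.1]; exact h2,
    by rw [iso_bf hL.1]; exact h3⟩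

theorem Cfg.span {k : Bool} {s a b v : V8} (C : Cfg k s a b)
    (h : ∀ w, bf s w = false → bf a w = false → bf b w = false → bf v w = false) : InSpan s a b v := by
  obtain ⟨L, hL, rfl, rfl, rfl⟩ := C.move_std
  obtain ⟨v, rfl⟩ := L.surjective v
  obtain ⟨n, rfl⟩ := dec8_surj v
  refine (span_check k n fun m h1 h2 h3 => ?_).map L
  rw [← iso_bf hL.1]
  exact h _ (by rw [iso_bf hL.1]; exact h1) (by rw [iso_bf hL.1]; exact h2) (by rw [iso_bf hL.1]; exact h3)

theorem Cfg.shift {k : Bool} {s a b a' b' : V8} (C : Cfg k s a b) (ha : Eqm s a' a) (hb : Eqm s b' b) :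
    Cfg k s a' b' := by
  have sa' : bf s a' = false := by
    rcases ha with rfl | rfl
    · exact C.sa
    · rw [bf_xr_right, C.sa, bf_self]; rfl
  have sb' : bf s b' = false := by
    rcases hb with rfl | rfl
    · exact C.sb
    · rw [bf_xr_right, C.sb, bf_self]; rfl
  have hne : ∀ {x y : V8}, Eqm s x y → y ≠ 0 → y ≠ s → x ≠ 0 ∧ x ≠ s := fun {x y} h h0 hs => by
    have h1 : ¬ Eqm s x 0 := fun e => (eqm_zero.mp (h.symm.trans e)).elim h0 hs
    exact ⟨fun e => h1 (Or.inl e), fun e => h1 (eqm_zero.mpr (Or.inr e))⟩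
  obtain ⟨a0', as'⟩ := hne ha C.a0 C.as'
  obtain ⟨b0', bs'⟩ := hne hb C.b0 C.bs
  have hab : ¬ Eqm s b a := by
    rintro (e | e)
    · exact C.ba e
    · exact C.bas (e.trans (xr_comm a s))
  refine ⟨C.s0, C.qs, (ha.qf_eq C.qs (by rw [bf_comm]; exact C.sa)).trans C.qa,
    (hb.qf_eq C.qs (by rw [bf_comm]; exact C.sb)).trans C.qb, sa', sb', ?_, a0', as', b0', bs', ?_, ?_⟩
  · rw [hb.bf_eq (by rw [bf_comm]; exact sa'), bf_comm, ha.bf_eq (by rw [bf_comm]; exact C.sb), bf_comm]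
    exact C.ab
  · intro e
    exact hab (hb.symm.trans (e ▸ ha))
  · intro e
    refine hab (hb.symm.trans (Eqm.trans ?_ ha))
    exact Or.inr (e.trans (xr_comm s a'))

variable {G : Type*} [Group G] [Finite G]

/-- An involution of the radical of a pair with independent components, of a kind. -/
def Kd (k : Bool) (z : G) (Q : Subgroup G) (v : G → V8) (g u t : G) : Prop :=
  ∃ x ∈ P Q z g, ∃ y ∈ P' Q z g, t = x * y ∧ t * t = 1 ∧ Cfg k (v (g * z * g⁻¹)) (v x) (v (al u y))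

theorem mul_self_eq {x y k : G} (h : x * y = k * (y * x)) (hky : Commute k y) :
    x * y * (x * y) = k⁻¹ * (x * x) * (y * y) ∨ ¬ Commute k x := by
  by_cases hkx : Commute k x
  · left
    have h2 : y * x = k⁻¹ * (x * y) := by rw [h, inv_mul_cancel_left]
    calc x * y * (x * y) = x * (y * x) * y := by group
      _ = x * k⁻¹ * (x * y) * y := by rw [h2]; group
      _ = k⁻¹ * x * (x * y) * y := by rw [hkx.inv_left.eq]
      _ = _ := by group
  · exact Or.inr hkx

namespace Fr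

variable {z : G} {Q : Subgroup G} {v : G → V8} {g u : G} (F : Fr z Q v g u)
include F

local notation "z'" => g * z * g⁻¹
local notation "Q'" => Subgroup.map (MulEquiv.toMonoidHom (MulAut.conj g)) Q
local notation "sv" => v (g * z * g⁻¹)

theorem zz'_mem : z * z' ∈ V z g := F.pr.mem_V.mpr (by simp)

theorem z_mem_V : z ∈ V z g := F.pr.mem_V.mpr (by simp)

theorem z'_mem_V : z' ∈ V z g := F.pr.mem_V.mpr (by simp)

theorem al_V {e : G} (he : e ∈ V z g) : Eqm sv (v (al u e)) 0 :=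
  F.v_mem_V (mul_mem (F.conj_u' he) (inv_mem he))

theorem sq_mul {x y : G} (hx : x ∈ P Q z g) (hy : y ∈ P' Q z g) :
    x * y * (x * y) = cond (bf (v x) (v (al u y))) (z * z') 1 * (x * x) * (y * y) := by
  cases hb : bf (v x) (v (al u y))
  · have h := (F.comm_rel hx hy).1 hb
    simp only [cond_false, one_mul]
    calc x * y * (x * y) = x * (y * x) * y := by group
      _ = x * (x * y) * y := by rw [h]
      _ = _ := by group
  · have h := (F.comm_rel hx hy).2 hb
    rcases mul_self_eq h (F.V_central F.zz'_mem (Or.inr hy)) with e | e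
    · rw [e, inv_eq_of_mul_eq_one_right (F.V_sq F.zz'_mem)]; rfl
    · exact absurd (F.V_central F.zz'_mem (Or.inl hx)) e

/-- The shape of an involution in the radical. -/
theorem cases_of_sq {x y : G} (hx : x ∈ P Q z g) (hy : y ∈ P' Q z g) (h : x * y * (x * y) = 1) :
    (qf (v x) = false ∧ qf (v (al u y)) = false ∧ bf (v x) (v (al u y)) = false) ∨
      (qf (v x) = true ∧ qf (v (al u y)) = true ∧ bf (v x) (v (al u y)) = true) := by
  rw [F.sq_mul hx hy] at h
  have hxx : (qf (v x) = false → x * x = 1) ∧ (qf (v x) = true → x * x = z) :=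
    ⟨(F.co.sq x (F.mem_P.mp hx).1).mp, fun e => (F.pr.s.sq_cases (F.mem_P.mp hx).1).resolve_left
      fun e' => by rw [F.co.singular (F.mem_P.mp hx).1 e'] at e; exact Bool.false_ne_true e⟩
  obtain ⟨hy1, hy2⟩ := F.sq_rel hy
  have n1 := F.pr.s.ne_one
  have n2 := F.pr.ne_one'
  have n3 := F.pr.mul_ne_one
  have e1 : z' * z' = 1 := F.pr.s'.zz
  have e2 : z * z = 1 := F.pr.s.zz
  have e3 : z * z' * z = z' := by rw [mul_assoc, ← F.pr.comm, ← mul_assoc, e2, one_mul]
  have e4 : z * z' * z' = z := by rw [mul_assoc, e1, mul_one]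
  cases hq : qf (v x) <;> cases ha : qf (v (al u y)) <;> cases hb : bf (v x) (v (al u y)) <;>
    simp only [hq, ha, hb, and_self, Bool.false_eq_true, true_or, or_true, false_and, and_false,
      or_self, eq_self_iff_true, reduceCtorEq] <;>
    exfalso <;>
    (first | rw [hxx.1 hq] at h | rw [hxx.2 hq] at h) <;>
    (first | rw [hy1.mpr ha] at h | rw [hy2 ha] at h) <;>
    simp only [hb, cond_true, cond_false, one_mul, mul_one, e3, e4, e1] at h
  all_goals first
    | exact n1 h | exact n2 h | exact n3 h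

/-- Conjugation of an element of the radical by an element of `P`. -/
theorem conj_P {p x y : G} (hp : p ∈ P Q z g) (hx : x ∈ P Q z g) (hy : y ∈ P' Q z g) :
    p * (x * y) * p⁻¹ =
      cond (bf (v p) (v x)) z 1 * cond (bf (v p) (v (al u y))) (z * z') 1 * (x * y) := by
  have hpQ := (F.mem_P.mp hp).1
  have hxQ := (F.mem_P.mp hx).1
  have e1 : p * x * p⁻¹ = cond (bf (v p) (v x)) z 1 * x := by
    cases hb : bf (v p) (v x)
    · rw [(F.co.comm p hpQ x hxQ).mp hb]; simp
    · rcases F.pr.s.comm_cases hpQ hxQ with e | e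
      · rw [(F.co.comm p hpQ x hxQ).mpr (mul_inv_eq_iff_eq_mul.mp e)] at hb
        exact absurd hb Bool.false_ne_true
      · exact e
  have e2 : p * y * p⁻¹ = cond (bf (v p) (v (al u y))) (z * z') 1 * y := by
    cases hb : bf (v p) (v (al u y))
    · rw [(F.comm_rel hp hy).1 hb]; simp
    · rw [(F.comm_rel hp hy).2 hb]; simp [mul_assoc]
  have hV : ∀ i : Bool, cond i (z * z') 1 ∈ V z g := fun i => by
    cases i
    · exact one_mem _
    · exact F.zz'_mem
  rw [show p * (x * y) * p⁻¹ = (p * x * p⁻¹) * (p * y * p⁻¹) by group, e1, e2, mul_assoc, ← mul_assoc x,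
    ← (F.V_central (hV _) (Or.inl hx)).eq]
  simp only [mul_assoc]

theorem kd_mk {x y : G} (hx : x ∈ P Q z g) (hy : y ∈ P' Q z g) (h : x * y * (x * y) = 1)
    (ha : ¬ Eqm sv (v x) 0) (hb : ¬ Eqm sv (v (al u y)) 0) (hab : ¬ Eqm sv (v x) (v (al u y))) :
    Kd (qf (v x)) z Q v g u (x * y) := by
  obtain ⟨qa, bab⟩ : qf (v (al u y)) = qf (v x) ∧ bf (v x) (v (al u y)) = qf (v x) := by
    rcases F.cases_of_sq hx hy h with ⟨e1, e2, e3⟩ | ⟨e1, e2, e3⟩ <;> rw [e1, e2, e3] <;> exact ⟨rfl, rfl⟩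
  refine ⟨x, hx, y, hy, rfl, h, F.sv_ne, F.sv_qf, rfl, qa, (bf_comm _ _).trans (F.P_perp hx),
    (bf_comm _ _).trans (F.P_perp (F.al_mem hy)), bab, fun e => ha (Or.inl e),
    fun e => ha (eqm_zero.mpr (Or.inr e)), fun e => hb (Or.inl e), fun e => hb (eqm_zero.mpr (Or.inr e)),
    fun e => hab (Or.inl e.symm), fun e => hab (Eqm.symm (Or.inr (e.trans (xr_comm sv (v x)))))⟩

theorem kd_not_mem {k : Bool} {t : G} (h : Kd k z Q v g u t) : t ∉ Q := by
  obtain ⟨x, hx, y, hy, rfl, -, C⟩ := h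
  intro hQ
  have hyQ : y ∈ Q := by
    have := mul_mem (inv_mem (F.mem_P.mp hx).1) hQ
    rwa [inv_mul_cancel_left] at this
  rcases eqm_zero.mp (F.al_V (F.meet hyQ (F.mem_P'.mp hy).1)) with e | e
  · exact C.b0 e
  · exact C.bs e

theorem kd_commute {k : Bool} {t : G} (h : Kd k z Q v g u t) : t * z = z * t ∧ t * z' = z' * t := by
  obtain ⟨x, hx, y, hy, rfl, -, -⟩ := h
  exact ⟨(show Commute x z from F.co.commute_z (F.mem_P.mp hx).1).mul_left
      (show Commute y z from (F.mem_P'.mp hy).2),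
    (show Commute x z' from (F.mem_P.mp hx).2).mul_left (show Commute y z' from F.P'_comm hy)⟩

/-- Translations by the four-group, from inside `P`. -/
theorem translate {k : Bool} {t e : G} (h : Kd k z Q v g u t) (he : e ∈ V z g) :
    ∃ p ∈ P Q z g, p * t * p⁻¹ = e * t := by
  obtain ⟨x, hx, y, hy, rfl, -, C⟩ := h
  have key : ∀ i j : Bool, ∃ p ∈ P Q z g, p * (x * y) * p⁻¹ = cond i z 1 * cond j (z * z') 1 * (x * y) := by
    intro i j
    obtain ⟨w, w1, w2, w3⟩ := C.dual i j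
    obtain ⟨p, hp, rfl⟩ := F.co.surj w
    have hpP := F.mem_P_of hp (by rw [bf_comm]; exact w1)
    refine ⟨p, hpP, ?_⟩
    rw [F.conj_P hpP hx hy, bf_comm (v p), w2, bf_comm (v p), w3]
  rcases F.pr.mem_V.mp he with rfl | rfl | rfl | rfl
  · simpa using key false false
  · simpa using key true false
  · have := key true true
    simpa [← mul_assoc, F.pr.s.zz] using this
  · simpa using key false true

theorem comm_P {k : Bool} {t p : G} (hp : p ∈ P Q z g) (h : Kd k z Q v g u t) :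
    p * t * p⁻¹ * t⁻¹ ∈ V z g := by
  obtain ⟨x, hx, y, hy, rfl, -, -⟩ := h
  rw [F.conj_P hp hx hy, mul_inv_cancel_right]
  refine mul_mem ?_ ?_
  · cases bf (v p) (v x)
    · exact one_mem _
    · exact F.z_mem_V
  · cases bf (v p) (v (al u y))
    · exact one_mem _
    · exact F.zz'_mem

theorem u_not_perp : bf (v u) sv = true := by
  by_contra e
  rw [Bool.not_eq_true] at e
  have h' := F.us
  rw [(F.mem_P.mp (F.mem_P_of F.uQ e)).2, mul_inv_cancel_right] at h'
  exact F.pr.mul_ne_right h'.symm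

/-- The commutators of `Q` with an involution of the radical. -/
theorem comm_Q {x y q : G} (hx : x ∈ P Q z g) (hy : y ∈ P' Q z g) (hq : q ∈ Q)
    (hs : bf (v q) sv = true) :
    q * (x * y) * q⁻¹ * (x * y)⁻¹ ∈ Q ∧ Eqm sv (v (q * (x * y) * q⁻¹ * (x * y)⁻¹)) (v (al u y)) := by
  have hp : u⁻¹ * q ∈ P Q z g := by
    refine F.mem_P_of (mul_mem (inv_mem F.uQ) hq) ?_
    rw [F.co.mul _ (inv_mem F.uQ) _ hq, F.co.v_inv F.uQ, bf_xr_left, hs, F.u_not_perp]
    rfl
  set p := u⁻¹ * q with hpdef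
  have hqe : q = u * p := by rw [hpdef]; group
  have hal := F.al_mem hy
  have e1 : u * x * u⁻¹ * (al u y) * x⁻¹ = u * (x * y) * u⁻¹ * (x * y)⁻¹ := by rw [al]; group
  have hc : p * (x * y) * p⁻¹ * (x * y)⁻¹ ∈ V z g := by
    have h0 := F.radical_comm hp (one_mem _) hx hy
    rwa [mul_one] at h0
  set ε := p * (x * y) * p⁻¹ * (x * y)⁻¹ with hε
  have e2 : q * (x * y) * q⁻¹ * (x * y)⁻¹ = (u * ε * u⁻¹) * (u * x * u⁻¹ * al u y * x⁻¹) := by
    rw [e1, hqe, hε]; group
  have hxQ := (F.mem_P.mp hx).1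
  have halQ := (F.mem_P.mp hal).1
  have hux : u * x * u⁻¹ ∈ Q := mul_mem (mul_mem F.uQ hxQ) (inv_mem F.uQ)
  have hm : u * x * u⁻¹ * al u y * x⁻¹ ∈ Q := mul_mem (mul_mem hux halQ) (inv_mem hxQ)
  rw [e2]
  refine ⟨mul_mem (F.pr.V_le (F.conj_u' hc)) hm, ?_⟩
  have h1 : v (u * x * u⁻¹ * al u y * x⁻¹) = v (al u y) := by
    rw [F.co.mul _ (mul_mem hux halQ) _ (inv_mem hxQ), F.co.mul _ hux _ halQ, F.co.v_inner F.uQ hxQ,
      F.co.v_inv hxQ, xr_comm (v x) (v (al u y)), xr_assoc, xr_self, xr_zero]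
  rw [F.co.mul _ (F.pr.V_le (F.conj_u' hc)) _ hm, h1]
  have := Eqm.xr (F.v_mem_V (F.conj_u' hc)) (Eqm.refl sv (v (al u y)))
  rwa [zero_xr] at this

/-- An element of the centraliser of a pair in a second conjugate of `Q` is no translate of itself by `z`. -/
theorem no_move {t q : G} (hm : t ∈ P' Q z g) (htQ : t ∉ Q) (hq : q ∈ Q) : q * t * q⁻¹ ≠ z * t := by
  intro e
  have e' : q * t * q⁻¹ * t⁻¹ = z := by rw [e, mul_inv_cancel_right]
  cases hs : bf (v q) sv
  · have hp := F.mem_P_of hq hs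
    cases hb : bf (v q) (v (al u t))
    · rw [(F.comm_rel hp hm).1 hb, mul_inv_cancel_right, mul_inv_cancel] at e'
      exact F.pr.s.ne_one e'.symm
    · rw [(F.comm_rel hp hm).2 hb, show z * z' * (t * q) * q⁻¹ * t⁻¹ = z * z' by group] at e'
      exact F.pr.mul_ne_left e'
  · obtain ⟨-, h⟩ := F.comm_Q (one_mem _) hm hq hs
    rw [one_mul, e', F.co.v_z] at h
    exact htQ (F.pr.V_le (F.al_inj hm h.symm))

/-- An involution of a kind lies in no conjugate of `Q` centred in `Q`. -/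
theorem kd_not_conj {k : Bool} {g₂ t : G} (h : Kd k z Q v g u t) (c : Pair Q z g₂) :
    t ∉ Subgroup.map (MulEquiv.toMonoidHom (MulAut.conj g₂)) Q := by
  intro hm
  obtain ⟨u₂, F₂⟩ := F.co.exists_fr c
  obtain ⟨p, hp, hpt⟩ := F.translate h F.z_mem_V
  exact F₂.no_move (F₂.mem_P'.mpr ⟨hm, (F.kd_commute h).1⟩) (F.kd_not_mem h) (F.mem_P.mp hp).1 hpt

/-- Uniqueness of the pair for the anisotropic kind. -/
theorem kd_unique {g₂ u₂ t : G} (F₂ : Fr z Q v g₂ u₂) (h : Kd true z Q v g u t)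
    (h₂ : Kd true z Q v g₂ u₂ t) : g₂ * z * g₂⁻¹ = z' ∨ g₂ * z * g₂⁻¹ = z * z' := by
  obtain ⟨x, hx, y, hy, ht, -, C₂⟩ := h₂
  have hxQ := (F₂.mem_P.mp hx).1
  set w := g₂ * z * g₂⁻¹ with hw
  have e : x * t * x⁻¹ * t⁻¹ = z * w := by
    rw [ht, F₂.conj_P hx hx hy, bf_self, C₂.ab, hw]
    simp [mul_assoc]
  cases hs : bf (v x) sv
  · have hV := F.comm_P (F.mem_P_of hxQ hs) h
    rw [e] at hV
    have := mul_mem F.z_mem_V hV
    rw [← mul_assoc, F.pr.s.zz, one_mul] at this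
    rcases F.pr.mem_V.mp this with e | e | e | e
    · exact absurd e F₂.pr.ne_one'
    · exact absurd e F₂.pr.ne
    · exact Or.inl e
    · exact Or.inr e
  · obtain ⟨x', hx', y', hy', ht', -, C⟩ := h
    obtain ⟨-, hV⟩ := F.comm_Q hx' hy' hxQ hs
    rw [← ht', e, F.co.mul z F.co.z_mem w F₂.pr.mem, F.co.v_z, zero_xr] at hV
    have := hV.qf_eq F.sv_qf (F.P_perp (F.al_mem hy'))
    rw [F₂.sv_qf, C.qb] at this
    exact absurd this (by simp)

/-- Conjugation by the moving element. -/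
theorem kd_conj_u {k : Bool} {t : G} (h : Kd k z Q v g u t) : Kd k z Q v g u (u * t * u⁻¹) := by
  obtain ⟨x, hx, y, hy, rfl, hsq, C⟩ := h
  have hxu : u * x * u⁻¹ ∈ P Q z g := P_conj F.pr F.uQ hx
  have hal := F.al_mem hy
  refine ⟨u * x * u⁻¹ * al u y, mul_mem hxu hal, y, hy, by rw [al]; group, ?_, ?_⟩
  · rw [show u * (x * y) * u⁻¹ * (u * (x * y) * u⁻¹) = u * (x * y * (x * y)) * u⁻¹ by group, hsq,
      mul_one, mul_inv_cancel]
  have hv : v (u * x * u⁻¹ * al u y) = xr (v x) (v (al u y)) := by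
    rw [F.co.mul _ (F.mem_P.mp hxu).1 _ (F.mem_P.mp hal).1, F.co.v_inner F.uQ (F.mem_P.mp hx).1]
  rw [hv]
  refine ⟨C.s0, C.qs, ?_, C.qb, ?_, C.sb, ?_, ?_, ?_, C.b0, C.bs, ?_, ?_⟩
  · rw [qf_xr, C.qa, C.qb, C.ab]; simp
  · rw [bf_xr_right, C.sa, C.sb]; rfl
  · rw [bf_xr_left, C.ab, bf_self]; simp
  · exact fun e => C.ba (xr_eq_zero.mp e).symm
  · intro e
    apply C.bas
    rw [← e]
    exact ((xr_comm _ _).trans (xr_cancel _ _)).symm
  · intro e
    refine C.a0 ?_
    have := congrArg (fun w => xr w (v (al u y))) e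
    simpa [xr_assoc, xr_self, xr_zero] using this.symm
  · intro e
    refine C.as' ?_
    have h1 : v (al u y) = xr (xr sv (v x)) (v (al u y)) := e.trans (xr_assoc _ _ _).symm
    have h2 := congrArg (fun w => xr w (v (al u y))) h1
    rw [xr_self, xr_assoc, xr_self, xr_zero] at h2
    exact (xr_eq_zero.mp h2.symm).symm

end Fr

namespace Co

variable {z : G} {Q : Subgroup G} {v : G → V8} (H : Co z Q v)
include H

theorem first_kind_conj {t g : G} (ht : t * t = 1) (ht1 : t ≠ 1) (htQ : t ∉ Q) (c : Pair Q z g)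
    (hm : t ∈ Subgroup.map (MulEquiv.toMonoidHom (MulAut.conj g)) Q) : IsConj t z := by
  obtain ⟨q, hq, rfl⟩ := hm
  change g * q * g⁻¹ * (g * q * g⁻¹) = 1 at ht
  change g * q * g⁻¹ ≠ 1 at ht1
  change g * q * g⁻¹ ∉ Q at htQ
  show IsConj (g * q * g⁻¹) z
  have hq2 : q * q = 1 := by
    rw [show g * q * g⁻¹ * (g * q * g⁻¹) = g * (q * q) * g⁻¹ by group] at ht
    exact conj_eq_one_iff.mp ht
  have hq1 : q ≠ 1 := fun e => ht1 (by rw [e]; group)
  have hqz : q ≠ z := fun e => htQ (e ▸ c.mem)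
  exact (isConj_iff.mpr ⟨g⁻¹, by group⟩ : IsConj (g * q * g⁻¹) q).trans (H.isConj_z hq hq2 hq1 hqz)

/-- A singular displacement is centralised. -/
theorem fixed_lift {t e : G} {L : Lin} (ht : t * t = 1) (htz : t * z = z * t)
    (hLv : ∀ a ∈ Q, v (t * a * t⁻¹) = app L (v a)) (he : e ∈ Q) {w : V8} (hv : v e = xr w (app L w))
    (hqf : qf (v e) = false) : t * e = e * t := by
  obtain ⟨q, hq, rfl⟩ := H.surj w
  set q' := t * q * t⁻¹ with hq'
  have hq'Q : q' ∈ Q := H.conj_mem htz hq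
  have hv' : v (q * q') = v e := by rw [H.mul q hq q' hq'Q, hLv q hq, hv]
  have ha2 : q * q' * (q * q') = 1 := (H.sq _ (mul_mem hq hq'Q)).mp (hv' ▸ hqf)
  have hts : t * (q * q') * t⁻¹ = q * q' := by
    have e : t * (q * q') * t⁻¹ = q' * q := by
      rw [show t * (q * q') * t⁻¹ = (t * q * t⁻¹) * ((t * t) * q * (t * t)⁻¹) by rw [hq']; group, ht,
        inv_one, one_mul, mul_one]
    rw [e]
    have e2 : q' * q' = q * q := by
      rw [show q' * q' = t * (q * q) * t⁻¹ by rw [hq']; group]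
      rcases H.st.sq_cases hq with h | h
      · rw [h]; group
      · rw [h, htz, mul_inv_cancel_right]
    have hsz : Commute (q * q) q' := by
      rcases H.st.sq_cases hq with h | h
      · rw [h]; exact Commute.one_left _
      · rw [h]; exact (H.commute_z hq'Q).symm
    have e3 : q * q' * (q * q') = 1 := ha2
    have e4 : q' * q = q⁻¹ * q'⁻¹ := by
      calc q' * q = q⁻¹ * (q * q' * (q * q')) * q'⁻¹ := by group
        _ = _ := by rw [e3, mul_one]
    have e5 : q * q * (q * q) = 1 := by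
      rcases H.st.sq_cases hq with h | h <;> rw [h]
      · exact one_mul 1
      · exact H.st.zz
    calc q' * q = q⁻¹ * q'⁻¹ := e4
      _ = q⁻¹ * q'⁻¹ * (q * q * (q * q)) := by rw [e5, mul_one]
      _ = q⁻¹ * (q'⁻¹ * (q * q)) * (q * q) := by group
      _ = q⁻¹ * ((q * q) * q'⁻¹) * (q * q) := by rw [hsz.inv_right.eq]
      _ = q * q'⁻¹ * (q' * q') := by rw [e2]; group
      _ = q * q' := by group
  have hc : t * (q * q') = q * q' * t := mul_inv_eq_iff_eq_mul.mp hts
  rcases H.eq_or he (mul_mem hq hq'Q) hv'.symm with e' | e' <;> rw [e']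
  · exact hc
  · exact ((show Commute t z from htz).mul_right hc)

end Co

end CfsgLib.CoOneType
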