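import Cfsg.Agent.Lib.CoOneType.Classes

/-!
No involution of the two kinds is conjugate to the central involution.
-/

set_option autoImplicit false

namespace CfsgLib.CoOneType

open CfsgLib.Extraspecial CfsgLib.Extraspecial.Pair
open CfsgLib.ConwayFive (dec8 dec8_surj)

theorem dual3_check : ∀ k i j l : Bool, ∃ n : Fin 256, bf s0 (dec8 n) = i ∧ bf (a0 k) (dec8 n) = j ∧
    bf (b0 k) (dec8 n) = l := by
  decide +kernel

theorem Cfg.dual3 {k : Bool} {s a b : V8} (C : Cfg k s a b) (i j l : Bool) :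
    ∃ w, bf s w = i ∧ bf a w = j ∧ bf b w = l := by
  obtain ⟨L, hL, rfl, rfl, rfl⟩ := C.move_std
  obtain ⟨n, h1, h2, h3⟩ := dual3_check k i j l
  exact ⟨L (dec8 n), by rw [iso_bf hL.1]; exact h1, by rw [iso_bf hL.1]; exact h2,
    by rw [iso_bf hL.1]; exact h3⟩

/-- Coefficients along a triple. -/
abbrev Trip : Type := Bool × Bool × Bool

/-- The conditions on the displacements of a dual triple under an isometry. -/
def trOk (k : Bool) (p : Trip × Trip × Trip) : Bool :=
  ((k && (p.1.2.1 || p.1.2.2)) == p.1.1) && ((k && (p.2.1.2.1 || p.2.1.2.2)) == p.2.1.2.1) &&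
    ((k && (p.2.2.2.1 || p.2.2.2.2)) == p.2.2.2.2) &&
    ((p.1.2.1 ^^ p.2.1.1 ^^ (k && ((p.1.2.1 && p.2.1.2.2) ^^ (p.1.2.2 && p.2.1.2.1)))) == false) &&
    ((p.1.2.2 ^^ p.2.2.1 ^^ (k && ((p.1.2.1 && p.2.2.2.2) ^^ (p.1.2.2 && p.2.2.2.1)))) == false) &&
    ((p.2.1.2.2 ^^ p.2.2.2.1 ^^ (k && ((p.2.1.2.1 && p.2.2.2.2) ^^ (p.2.1.2.2 && p.2.2.2.1)))) == false)

theorem trOk_count : ∀ k : Bool,
    (Finset.univ.filter fun p : Trip × Trip × Trip => trOk k p = true).card ≤ cond k 24 8 := by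
  decide +kernel

theorem exists_refl_good {a : V8} (ha : qf a = true) :
    ∃ R : Lin, R ∈ CfsgLib.Extraspecial.isoGrp CfsgLib.ConwayFive.e8 ∧
      (∀ x, R x = x + cond (bf a x) a 0) ∧ ∀ L, Good L → ¬ Good (R * L) := by
  obtain ⟨d, hd, hr⟩ := exists_parity
  obtain ⟨r, hr1, hr2⟩ := hr a ha
  refine ⟨r.1, r.2, hr2, fun L hL hRL => ?_⟩
  let L' : CfsgLib.Extraspecial.isoGrp CfsgLib.ConwayFive.e8 := ⟨L, hL.1⟩
  have h1 : d (r * L') = 1 := (hd (r * L')).mpr hRL
  rw [map_mul, hr1, (hd L').mpr hL, mul_one] at h1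
  exact absurd h1 (by decide)

/-- A combination of a triple. -/
def comb (s a b : V8) (i j l : Bool) : V8 := cond i s 0 + cond j a 0 + cond l b 0

theorem comb_dual {s a b u : V8} (i j l : Bool) {x y w : Bool} (p : bf s u = x) (q : bf a u = y)
    (r : bf b u = w) : bf u (comb s a b i j l) = ((i && x) ^^ (j && y) ^^ (l && w)) := by
  rw [comb, bf_xor_right, bf_xor_right, bf_cond', bf_cond', bf_cond', bf_comm u s, bf_comm u a, bf_comm u b,
    p, q, r]

theorem comb_dual' {s a b u : V8} (i j l : Bool) {x y w : Bool} (p : bf s u = x) (q : bf a u = y)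
    (r : bf b u = w) : bf (comb s a b i j l) u = ((i && x) ^^ (j && y) ^^ (l && w)) := by
  rw [bf_comm, comb_dual i j l p q r]

theorem Cfg.comb_qf {k : Bool} {s a b : V8} (C : Cfg k s a b) (i j l : Bool) :
    qf (comb s a b i j l) = (k && (j || l)) := by
  cases i <;> cases j <;> cases l <;>
    simp [comb, qf_add, CoOneType.qf_zero, bf_xor_left, bf_zero_left, bf_zero_right, C.qs, C.qa, C.qb,
      C.sa, C.sb, C.ab]

theorem Cfg.comb_bf {k : Bool} {s a b : V8} (C : Cfg k s a b) (i j l i' j' l' : Bool) :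
    bf (comb s a b i j l) (comb s a b i' j' l') = (k && ((j && l') ^^ (l && j'))) := by
  simp only [comb, bf_xor_left, bf_xor_right, bf_cond, bf_cond', bf_self, C.sa, C.sb, C.ab,
    bf_comm a s, bf_comm b s, bf_comm b a]
  cases k <;> cases i <;> cases j <;> cases l <;> cases i' <;> cases j' <;> cases l' <;> rfl

theorem trOk_of : ∀ (k c1 c2 c3 c4 c5 c6 c7 c8 c9 n1 n2 n3 m12 m13 m23 : Bool),
    (n1 ^^ (k && (c2 || c3)) ^^ ((c1 && true) ^^ (c2 && false) ^^ (c3 && false))) = n1 →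
    (n2 ^^ (k && (c5 || c6)) ^^ ((c4 && false) ^^ (c5 && true) ^^ (c6 && false))) = n2 →
    (n3 ^^ (k && (c8 || c9)) ^^ ((c7 && false) ^^ (c8 && false) ^^ (c9 && true))) = n3 →
    ((m12 ^^ ((c4 && true) ^^ (c5 && false) ^^ (c6 && false))) ^^
      (((c1 && false) ^^ (c2 && true) ^^ (c3 && false)) ^^ (k && ((c2 && c6) ^^ (c3 && c5))))) = m12 →
    ((m13 ^^ ((c7 && true) ^^ (c8 && false) ^^ (c9 && false))) ^^
      (((c1 && false) ^^ (c2 && false) ^^ (c3 && true)) ^^ (k && ((c2 && c9) ^^ (c3 && c8))))) = m13 →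
    ((m23 ^^ ((c7 && false) ^^ (c8 && true) ^^ (c9 && false))) ^^
      (((c4 && false) ^^ (c5 && false) ^^ (c6 && true)) ^^ (k && ((c5 && c9) ^^ (c6 && c8))))) = m23 →
    trOk k ((c1, c2, c3), (c4, c5, c6), (c7, c8, c9)) = true := by
  intro k c1 c2 c3 c4 c5 c6 c7 c8 c9 n1 n2 n3 m12 m13 m23
  have hx : ∀ n A B : Bool, (n ^^ A ^^ B) = n → A = B := by decide
  have hy : ∀ m A B C : Bool, ((m ^^ A) ^^ (B ^^ C)) = m → (B ^^ A ^^ C) = false := by decide
  intro a1 a2 a3 a4 a5 a6
  have b1 := hx _ _ _ a1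
  have b2 := hx _ _ _ a2
  have b3 := hx _ _ _ a3
  have b4 := hy _ _ _ _ a4
  have b5 := hy _ _ _ _ a5
  have b6 := hy _ _ _ _ a6
  simp only [Bool.and_true, Bool.and_false, Bool.xor_false, Bool.false_xor] at b1 b2 b3 b4 b5 b6
  simp [trOk, b1, b2, b3, b4, b5, b6]

theorem Cfg.stab_card {k : Bool} {s a b : V8} (C : Cfg k s a b) {ι : Type*} [Finite ι] (f : ι → Lin)
    (hf : Function.Injective f) (hiso : ∀ i, f i ∈ CfsgLib.Extraspecial.isoGrp CfsgLib.ConwayFive.e8)
    (hfix : ∀ i w, bf s w = false → bf a w = false → bf b w = false → f i w = w) :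
    Nat.card ι ≤ cond k 24 8 := by
  classical
  haveI := Fintype.ofFinite ι
  obtain ⟨u1, p1, p2, p3⟩ := C.dual3 true false false
  obtain ⟨u2, q1, q2, q3⟩ := C.dual3 false true false
  obtain ⟨u3, r1, r2, r3⟩ := C.dual3 false false true
  have hc : ∀ i u, InSpan s a b (f i u + u) := fun i u => C.span fun w w1 w2 w3 => by
    have e : bf (f i u) w = bf u w := by
      conv_lhs => rw [← hfix i w w1 w2 w3]
      exact iso_bf (hiso i) u w
    rw [bf_xor_left, e, Bool.xor_self]
  choose x y w hxyw using hc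
  let φ : ι → Trip × Trip × Trip := fun i =>
    ((x i u1, y i u1, w i u1), (x i u2, y i u2, w i u2), (x i u3, y i u3, w i u3))
  have hrec : ∀ i v, f i v = v + cond (bf s v) (f i u1 + u1) 0 + cond (bf a v) (f i u2 + u2) 0 +
      cond (bf b v) (f i u3 + u3) 0 := by
    intro i v
    have h := hfix i (v + cond (bf s v) u1 0 + cond (bf a v) u2 0 + cond (bf b v) u3 0)
      (by simp [bf_xor_right, bf_cond', p1, q1, r1]) (by simp [bf_xor_right, bf_cond', p2, q2, r2])
      (by simp [bf_xor_right, bf_cond', p3, q3, r3])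
    rw [map_add, map_add, map_add, map_cond, map_cond, map_cond] at h
    have hc' : ∀ (e : Bool) (p q : V8), cond e (p + q) 0 = cond e p 0 + cond e q 0 :=
      fun e p q => by cases e <;> simp
    have key : ∀ A F1 F2 F3 B1 B2 B3 : V8, A + F1 + F2 + F3 = v + B1 + B2 + B3 →
        A = v + (F1 + B1) + (F2 + B2) + (F3 + B3) := by
      intro A F1 F2 F3 B1 B2 B3 h'
      calc A = A + F1 + F2 + F3 + (F1 + F2 + F3) := by
            rw [show A + F1 + F2 + F3 + (F1 + F2 + F3) = A + (F1 + F1) + (F2 + F2) + (F3 + F3) by abel,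
              add_self, add_self, add_self, add_zero, add_zero, add_zero]
        _ = _ := by rw [h']; abel
    rw [hc', hc', hc']
    exact key _ _ _ _ _ _ _ h
  have hφ : Function.Injective φ := fun i j e => hf (LinearEquiv.ext fun v => by
    simp only [φ, Prod.mk.injEq] at e
    obtain ⟨⟨e1, e2, e3⟩, ⟨e4, e5, e6⟩, e7, e8, e9⟩ := e
    rw [hrec i, hrec j, hxyw i u1, hxyw j u1, hxyw i u2, hxyw j u2, hxyw i u3, hxyw j u3,
      e1, e2, e3, e4, e5, e6, e7, e8, e9])
  have hok : ∀ i, trOk k (φ i) = true := by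
    intro i
    have e1 : f i u1 = u1 + (f i u1 + u1) := by rw [add_comm (f i u1), add_cancel]
    have e2 : f i u2 = u2 + (f i u2 + u2) := by rw [add_comm (f i u2), add_cancel]
    have e3 : f i u3 = u3 + (f i u3 + u3) := by rw [add_comm (f i u3), add_cancel]
    rw [show f i u1 + u1 = comb s a b _ _ _ from hxyw i u1] at e1
    rw [show f i u2 + u2 = comb s a b _ _ _ from hxyw i u2] at e2
    rw [show f i u3 + u3 = comb s a b _ _ _ from hxyw i u3] at e3
    have Q1 := iso_qf (hiso i) u1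
    have Q2 := iso_qf (hiso i) u2
    have Q3 := iso_qf (hiso i) u3
    have B12 := iso_bf (hiso i) u1 u2
    have B13 := iso_bf (hiso i) u1 u3
    have B23 := iso_bf (hiso i) u2 u3
    simp only [e1, e2, e3, qf_add u1, qf_add u2, qf_add u3, bf_xor_left u1, bf_xor_left u2,
      bf_xor_right _ u2, bf_xor_right _ u3] at Q1 Q2 Q3 B12 B13 B23
    simp only [C.comb_qf, C.comb_bf, comb_dual _ _ _ p1 p2 p3, comb_dual _ _ _ q1 q2 q3,
      comb_dual _ _ _ r1 r2 r3, comb_dual' _ _ _ q1 q2 q3, comb_dual' _ _ _ r1 r2 r3] at Q1 Q2 Q3 B12 B13 B23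
    show trOk k ((x i u1, y i u1, w i u1), (x i u2, y i u2, w i u2), (x i u3, y i u3, w i u3)) = true
    exact trOk_of k _ _ _ _ _ _ _ _ _ _ _ _ _ _ _ Q1 Q2 Q3 B12 B13 B23
  have h := Nat.card_le_card_of_injective (fun i => (⟨φ i, Finset.mem_filter.mpr ⟨Finset.mem_univ _, hok i⟩⟩ :
      ↥(Finset.univ.filter fun p : Trip × Trip × Trip => trOk k p = true)))
    (fun i j e => hφ (congrArg Subtype.val e :))
  rw [Nat.card_eq_fintype_card (α := ↥(Finset.univ.filter _)), Fintype.card_coe] at h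
  exact h.trans (trOk_count k)

theorem Cfg.stab_card_good {k : Bool} {s a b : V8} (C : Cfg k s a b) {ι : Type*} [Finite ι] (f : ι → Lin)
    (hf : Function.Injective f) (hgood : ∀ i, Good (f i))
    (hfix : ∀ i w, bf s w = false → bf a w = false → bf b w = false → f i w = w) : Nat.card ι ≤ 12 := by
  cases k
  · exact (C.stab_card f hf (fun i => (hgood i).1) hfix).trans (by norm_num)
  obtain ⟨R, hR, hRx, hRn⟩ := exists_refl_good C.qa
  have h := C.stab_card (Sum.elim f fun i => R * f i) ?_ ?_ ?_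
  · rw [Nat.card_sum] at h
    simp only [cond_true] at h
    omega
  · rintro (i | i) (j | j) e
    · exact congrArg Sum.inl (hf e)
    · exact absurd ((show f i = R * f j from e) ▸ hgood i) (hRn _ (hgood j))
    · exact absurd ((show R * f i = f j from e).symm ▸ hgood j) (hRn _ (hgood i))
    · exact congrArg Sum.inr (hf (mul_left_cancel (show R * f i = R * f j from e)))
  · rintro (i | i)
    · exact (hgood i).1
    · exact mul_mem hR (hgood i).1
  · rintro (i | i) w w1 w2 w3
    · exact hfix i w w1 w2 w3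
    · show R (f i w) = w
      rw [hfix i w w1 w2 w3, hRx, w2]
      simp

variable {G : Type*} [Group G] [Finite G]

namespace Co

variable {z : G} {Q : Subgroup G} {v : G → V8} (H : Co z Q v)
include H

/-- An involution of the centraliser fixes at least sixteen elements of `Q`. -/
theorem card_cent {c : G} (hc : c * z = z * c) (hc2 : c * c = 1) :
    16 ≤ Nat.card ↥(Q ⊓ Subgroup.centralizer ({c} : Set G)) := by
  classical
  obtain ⟨L, hL, hA⟩ := H.par c hc
  have I : Inv L := H.inv_act hc hL hA (hc2 ▸ one_mem Q)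
  have hn : 16 ≤ Nat.card {w : V8 // L w = w} := by
    have h := card_eq L
    have h' := I.card_le
    unfold nfix at h
    nlinarith [mul_le_mul_of_nonneg_right h' (Nat.zero_le (Nat.card {w : V8 // L w = w}))]
  choose q hq hqv using fun w : {w : V8 // L w = w} => H.surj w.1
  have hcases : ∀ w, c * q w * c⁻¹ = q w ∨ c * q w * c⁻¹ = z * q w := fun w =>
    H.eq_or (H.conj_mem hc (hq w)) (hq w) (by rw [hA _ (hq w), hqv]; exact w.2)
  have hzmem : ∀ {a : G}, a ∈ Q → c * a * c⁻¹ = a → ∀ i : Bool,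
      cond i z 1 * a ∈ Q ⊓ Subgroup.centralizer ({c} : Set G) := fun {a} ha hca i => by
    refine Subgroup.mem_inf.mpr ⟨mul_mem (by cases i <;> simp [H.z_mem]) ha,
      Subgroup.mem_centralizer_singleton_iff.mpr ?_⟩
    have h1 : Commute c (cond i z 1) := by cases i; exacts [Commute.one_right c, hc]
    exact (h1.mul_right (show Commute c a from mul_inv_eq_iff_eq_mul.mp hca)).symm.eq
  obtain ⟨r, hr, hrr, hrv⟩ : ∃ r : {w : V8 // L w = w} → G, (∀ w, r w ∈ Q) ∧
      (∀ w, c * r w * c⁻¹ = r w) ∧ ∃ e : V8, ∀ w, v (r w) = w.1 ∨ v (r w) = w.1 + e := by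
    by_cases hall : ∀ w, c * q w * c⁻¹ = q w
    · exact ⟨q, hq, hall, 0, fun w => Or.inl (hqv w)⟩
    obtain ⟨w0, hw0⟩ := not_forall.mp hall
    have h0 := (hcases w0).resolve_left hw0
    refine ⟨fun w => if c * q w * c⁻¹ = q w then q w else q w * q w0, fun w => ?_, fun w => ?_, w0.1,
      fun w => ?_⟩
    · dsimp only; split_ifs
      exacts [hq w, mul_mem (hq w) (hq w0)]
    · dsimp only; split_ifs with h
      · exact h
      · rw [show c * (q w * q w0) * c⁻¹ = (c * q w * c⁻¹) * (c * q w0 * c⁻¹) by group,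
          (hcases w).resolve_left h, h0, show z * q w * (z * q w0) = z * (q w * z) * q w0 by group,
          H.commute_z (hq w), ← mul_assoc z, H.st.zz, one_mul]
    · dsimp only; split_ifs
      · exact Or.inl (hqv w)
      · refine Or.inr ?_
        rw [H.mul _ (hq w) _ (hq w0), hqv, hqv]
        rfl
  obtain ⟨e, he⟩ := hrv
  let F : {w : V8 // L w = w} × Bool → ↥(Q ⊓ Subgroup.centralizer ({c} : Set G)) × Bool := fun p =>
    (⟨cond p.2 z 1 * r p.1, hzmem (hr p.1) (hrr p.1) p.2⟩, decide (v (r p.1) = p.1.1))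
  have hF : Function.Injective F := by
    rintro ⟨w, i⟩ ⟨w', i'⟩ h
    simp only [F, Prod.mk.injEq, Subtype.mk.injEq, decide_eq_decide] at h
    obtain ⟨h1, h2⟩ := h
    have hv : ∀ (i : Bool) (x : {w : V8 // L w = w}), v (cond i z 1 * r x) = v (r x) := fun i x => by
      rw [H.mul _ (by cases i <;> simp [H.z_mem]) _ (hr x)]
      cases i <;> simp [H.v_z, H.v_one, zero_xr]
    have hvv : v (r w) = v (r w') := by rw [← hv i w, h1, hv i' w']
    have hw : w.1 = w'.1 := by
      by_cases hd : v (r w) = w.1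
      · exact hd.symm.trans (hvv.trans (h2.mp hd))
      · have hd' : v (r w') ≠ w'.1 := fun e' => hd (h2.mpr e')
        have a1 := (he w).resolve_left hd
        have a2 := (he w').resolve_left hd'
        exact add_right_cancel (a1.symm.trans (hvv.trans a2))
    obtain rfl : w = w' := Subtype.ext hw
    have h3 := mul_right_cancel h1
    cases i <;> cases i' <;> simp_all [H.st.ne_one, Ne.symm H.st.ne_one]
  have h := Nat.card_le_card_of_injective F hF
  rw [Nat.card_prod, Nat.card_prod, Nat.card_eq_fintype_card (α := Bool), Fintype.card_bool] at h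
  omega

/-- No involution of the two kinds is conjugate to `z`. -/
theorem kd_not_isConj {k : Bool} {g u t : G} (F : Fr z Q v g u) (h : Kd k z Q v g u t) : ¬ IsConj t z := by
  intro hcj
  obtain ⟨h0, hh⟩ := isConj_iff.mp hcj.symm
  obtain ⟨x, hx, y, hy, hxy, htt, C⟩ := id h
  have htz := (F.kd_commute h).1
  have htQ := F.kd_not_mem h
  have St := H.st.conj h0
  set Qt := Subgroup.map (MulEquiv.toMonoidHom (MulAut.conj h0)) Q with hQt
  have htne : t ≠ z := fun e => htQ (e ▸ H.z_mem)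
  -- the two groups meet trivially
  have hdis : ∀ e ∈ Q, e ∈ Qt → e = 1 := by
    intro e he he'
    by_contra he1
    obtain ⟨q, hq, hqe⟩ := id he'
    change h0 * q * h0⁻¹ = e at hqe
    have he2 : e * e = 1 := by
      rcases H.st.sq_cases he with e1 | e1
      · exact e1
      · rcases St.sq_cases he' with e2 | e2
        · exact e2
        · rw [hh] at e2
          exact absurd (e2.symm.trans e1) htne
    have hez : e ≠ z := by
      intro ez
      have hqz : q ≠ z := fun e' => htne (by rw [← hh, ← e', hqe, ez, e'])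
      have hq' : h0⁻¹ * z * h0⁻¹⁻¹ = q := by
        rw [inv_inv, ← ez, ← hqe]; group
      obtain ⟨r, hr, hre⟩ := (⟨H.st, hq'.symm ▸ hq, hq'.symm ▸ hqz, by rw [H.card]; norm_num⟩ :
        Pair Q z h0⁻¹).mem'
      change h0⁻¹ * r * h0⁻¹⁻¹ = z at hre
      apply htQ
      rw [← hh, ← hre]
      simpa [mul_assoc] using hr
    obtain ⟨g₂, hg₂, c₂⟩ := H.exists_pair he he2 he1 hez
    apply F.kd_not_conj h c₂
    have hqz : q ≠ z := fun e' => htQ (by rw [← hh, ← e', hqe]; exact he)
    have hgq : (h0⁻¹ * g₂) * z * (h0⁻¹ * g₂)⁻¹ = q := by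
      rw [show (h0⁻¹ * g₂) * z * (h0⁻¹ * g₂)⁻¹ = h0⁻¹ * (g₂ * z * g₂⁻¹) * h0 by group, hg₂, ← hqe]
      group
    obtain ⟨r, hr, hre⟩ := (⟨H.st, hgq.symm ▸ hq, hgq.symm ▸ hqz, by rw [H.card]; norm_num⟩ :
      Pair Q z (h0⁻¹ * g₂)).mem'
    change h0⁻¹ * g₂ * r * (h0⁻¹ * g₂)⁻¹ = z at hre
    refine ⟨r, hr, ?_⟩
    change g₂ * r * g₂⁻¹ = t
    rw [← hh]
    conv_rhs => rw [← hre]
    group
  set C2 := Qt ⊓ Subgroup.centralizer ({z} : Set G) with hC2
  have hCz : ∀ c : ↥C2, (c : G) * z = z * c := fun c =>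
    Subgroup.mem_centralizer_singleton_iff.mp (Subgroup.mem_inf.mp c.2).2
  choose Lc hLc hAc using fun c : ↥C2 => H.par (c : G) (hCz c)
  have hfix : ∀ (c : ↥C2) w, bf (v (g * z * g⁻¹)) w = false → bf (v x) w = false →
      bf (v (al u y)) w = false → Lc c w = w := by
    intro c w w1 w2 w3
    obtain ⟨d, hd, rfl⟩ := H.surj w
    have hdP := F.mem_P_of hd ((bf_comm _ _).trans w1)
    have hdt : d * t * d⁻¹ = t := by
      rw [hxy, F.conj_P hdP hx hy, bf_comm (v d), w2, bf_comm (v d), w3]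
      simp
    have hdn : ∀ a ∈ Qt, d * a * d⁻¹ ∈ Qt := fun a ha => by
      refine (Subgroup.mem_normalizer_iff.mp (St.cz ?_) a).mp ha
      rw [hh]
      exact Subgroup.mem_centralizer_singleton_iff.mpr (mul_inv_eq_iff_eq_mul.mp hdt)
    have hcd : (c : G) * d * (c : G)⁻¹ = d := by
      refine mul_inv_eq_one.mp (hdis _ (mul_mem (H.conj_mem (hCz c) hd) (inv_mem hd)) ?_)
      have := mul_mem (Subgroup.mem_inf.mp c.2).1 (hdn _ (inv_mem (Subgroup.mem_inf.mp c.2).1))
      simpa [mul_assoc] using this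
    have := hAc c d hd
    rw [hcd] at this
    exact this.symm
  have hinj : Function.Injective Lc := by
    intro c d e
    have hc' : (d : G)⁻¹ * c ∈ Q := by
      refine H.ker _ ?_ fun a ha => ?_
      · exact ((show Commute (d : G) z from hCz d).inv_left).mul_left (show Commute (c : G) z from hCz c)
      · have hm := H.conj_mem (hCz c) ha
        have hdi : (d : G)⁻¹ * z = z * (d : G)⁻¹ := (show Commute (d : G) z from hCz d).inv_left.eq
        have hm2 := H.conj_mem hdi hm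
        rw [show (d : G)⁻¹ * c * a * ((d : G)⁻¹ * c)⁻¹ = (d : G)⁻¹ * (c * a * (c : G)⁻¹) * (d : G)⁻¹⁻¹ by group]
        refine (Lc d).injective ?_
        show app (Lc d) _ = app (Lc d) (v a)
        rw [inv_inv, H.v_conj_inv (hCz d) hm (hAc d), hAc c a ha, e]
    exact (Subtype.ext (inv_mul_eq_one.mp (hdis _ hc'
      (mul_mem (inv_mem (Subgroup.mem_inf.mp d.2).1) (Subgroup.mem_inf.mp c.2).1))).symm)
  have h12 := C.stab_card_good Lc hinj hLc hfix
  set z₂ := h0⁻¹ * z * h0 with hz2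
  have hz2c : z₂ * z = z * z₂ := by
    calc z₂ * z = h0⁻¹ * (z * t) * h0 := by rw [hz2, ← hh]; group
      _ = h0⁻¹ * (t * z) * h0 := by rw [htz]
      _ = _ := by rw [hz2, ← hh]; group
  have h16 := H.card_cent hz2c (by
    rw [hz2, show h0⁻¹ * z * h0 * (h0⁻¹ * z * h0) = h0⁻¹ * (z * z) * h0 by group, H.st.zz]; group)
  have hle : Nat.card ↥(Q ⊓ Subgroup.centralizer ({z₂} : Set G)) ≤ Nat.card ↥C2 := by
    refine Nat.card_le_card_of_injective (fun q => (⟨h0 * q.1 * h0⁻¹, Subgroup.mem_inf.mpr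
      ⟨⟨q.1, (Subgroup.mem_inf.mp q.2).1, rfl⟩, ?_⟩⟩ : ↥C2)) fun a b e => ?_
    · have := (show Commute q.1 z₂ from Subgroup.mem_centralizer_singleton_iff.mp
        (Subgroup.mem_inf.mp q.2).2).map (MulAut.conj h0)
      rw [MulAut.conj_apply, MulAut.conj_apply, show h0 * z₂ * h0⁻¹ = z by rw [hz2]; group] at this
      exact Subgroup.mem_centralizer_singleton_iff.mpr this.eq
    · have e' := congrArg Subtype.val e
      exact Subtype.ext (mul_left_cancel (mul_right_cancel e'))
  omega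

end Co

end CfsgLib.CoOneType
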