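import Cfsg.Agent.Lib.CoOneType.Core

/-!
The two extraspecial groups attached to a pair of commuting conjugate involutions.
-/

set_option autoImplicit false

namespace CfsgLib.CoOneType

open CfsgLib.Extraspecial CfsgLib.Extraspecial.Pair

variable {G : Type*} [Group G] [Finite G]

theorem partner_check : ∃ i : Fin 256, qf (CfsgLib.ConwayFive.dec8 i) = false ∧
    bf s0 (CfsgLib.ConwayFive.dec8 i) = false ∧ bf (a0 false) (CfsgLib.ConwayFive.dec8 i) = true ∧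
    CfsgLib.ConwayFive.dec8 i ≠ s0 := by
  decide +kernel

theorem exists_partner {s a : V8} (hs : s ≠ 0) (hqs : qf s = false) (ha : a ≠ 0) (has : a ≠ s)
    (hqa : qf a = false) (hsa : bf s a = false) :
    ∃ w, w ≠ 0 ∧ w ≠ s ∧ qf w = false ∧ bf s w = false ∧ bf a w = true := by
  have hc : s0 ≠ 0 ∧ a0 false ≠ 0 ∧ a0 false ≠ s0 := by decide +kernel
  obtain ⟨q1, q2, -, q4, -⟩ := std_spec false
  obtain ⟨M, hM, hMs⟩ := move_singular hc.1 q1 hs hqs
  obtain ⟨L, hL, hLs, hLa⟩ := move_line hs hqs (a := M (a0 false))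
    (fun e => hc.2.1 (M.injective (e.trans (map_zero M).symm)))
    (fun e => hc.2.2 (M.injective (e.trans hMs.symm))) ((iso_qf hM.1 _).trans q2)
    (by rw [← hMs, iso_bf hM.1]; exact q4) ha has hqa hsa
  obtain ⟨i, h1, h2, h3, h4⟩ := partner_check
  refine ⟨L (M (CfsgLib.ConwayFive.dec8 i)), fun e => ?_, fun e => ?_, ?_, ?_, ?_⟩
  · have := M.injective ((L.injective (e.trans (map_zero L).symm)).trans (map_zero M).symm)
    rw [this, bf_zero_right] at h3
    exact Bool.false_ne_true h3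
  · exact h4 (M.injective ((L.injective (e.trans hLs.symm)).trans hMs.symm))
  · rw [iso_qf hL.1, iso_qf hM.1]; exact h1
  · rw [← hLs, ← hMs, iso_bf hL.1, iso_bf hM.1]; exact h2
  · rw [← hLa, iso_bf hL.1, iso_bf hM.1]; exact h3

/-- The element of `C_Q(z')` attached to an element of `C_{Q'}(z)`. -/
def al (u y : G) : G := u * y * u⁻¹ * y⁻¹

/-- A frame: a conjugate of `z` in `Q` and an element of `Q` moving it. -/
structure Fr (z : G) (Q : Subgroup G) (v : G → V8) (g u : G) : Prop where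
  co : Co z Q v
  pr : Pair Q z g
  uQ : u ∈ Q
  us : u * (g * z * g⁻¹) * u⁻¹ = z * (g * z * g⁻¹)

theorem Co.exists_fr {z : G} {Q : Subgroup G} {v : G → V8} (H : Co z Q v) {g : G} (c : Pair Q z g) :
    ∃ u, Fr z Q v g u := by
  obtain ⟨u, hu, -, h, -⟩ := c.exists_swap
  exact ⟨u, H, c, hu, h⟩

namespace Fr

variable {z : G} {Q : Subgroup G} {v : G → V8} {g u : G} (F : Fr z Q v g u)
include F

local notation "z'" => g * z * g⁻¹
local notation "Q'" => Subgroup.map (MulEquiv.toMonoidHom (MulAut.conj g)) Q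
local notation "sv" => v (g * z * g⁻¹)

theorem sv_ne : sv ≠ 0 := F.co.ne_zero F.pr.mem F.pr.ne_one' F.pr.ne

theorem sv_qf : qf sv = false := F.co.singular F.pr.mem F.pr.s'.zz

theorem mem_P {x : G} : x ∈ P Q z g ↔ x ∈ Q ∧ x * z' = z' * x := by
  rw [P, Subgroup.mem_inf, Subgroup.mem_centralizer_singleton_iff]

theorem mem_P' {y : G} : y ∈ P' Q z g ↔ y ∈ Q' ∧ y * z = z * y := by
  rw [P', Subgroup.mem_inf, Subgroup.mem_centralizer_singleton_iff]

theorem P_perp {x : G} (hx : x ∈ P Q z g) : bf (v x) sv = false :=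
  (F.co.comm x (F.mem_P.mp hx).1 _ F.pr.mem).mpr (F.mem_P.mp hx).2

theorem mem_P_of {x : G} (hx : x ∈ Q) (h : bf (v x) sv = false) : x ∈ P Q z g :=
  F.mem_P.mpr ⟨hx, (F.co.comm x hx _ F.pr.mem).mp h⟩

theorem P'_comm {y : G} (hy : y ∈ P' Q z g) : y * z' = z' * y := F.pr.s'.z_comm (F.mem_P'.mp hy).1

theorem v_mem_V {e : G} (he : e ∈ V z g) : Eqm sv (v e) 0 := by
  rcases F.pr.mem_V.mp he with rfl | rfl | rfl | rfl
  · exact Or.inl F.co.v_one
  · exact Or.inl F.co.v_z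
  · exact eqm_zero.mpr (Or.inr rfl)
  · rw [F.co.mul z F.co.z_mem _ F.pr.mem, F.co.v_z, zero_xr]
    exact eqm_zero.mpr (Or.inr rfl)

theorem mem_V_of {e : G} (he : e ∈ Q) (h : Eqm sv (v e) 0) : e ∈ V z g := by
  rw [F.pr.mem_V]
  rcases eqm_zero.mp h with h | h
  · rcases (F.co.zero e he).mp h with rfl | rfl <;> simp
  · rcases F.co.eq_or he F.pr.mem h with rfl | rfl <;> simp

theorem V_le_Q' : V z g ≤ Q' := (Subgroup.closure_le _).mpr (by
  rintro x (rfl | rfl)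
  · exact F.pr.mem'
  · exact F.pr.s'.z_mem)

/-- The two extraspecial groups meet in the four-group. -/
theorem meet {a : G} (ha : a ∈ Q) (ha' : a ∈ Q') : a ∈ V z g := by
  by_contra hV
  have hsq : a * a = 1 := by
    rcases F.pr.s.sq_cases ha with h | h
    · exact h
    · rcases F.pr.s'.sq_cases ha' with h' | h'
      · exact h'
      · exact absurd (h'.symm.trans h) F.pr.ne
  have hcomm : a * z' = z' * a := F.pr.s'.z_comm ha'
  have hne : ¬ Eqm sv (v a) 0 := fun h => hV (F.mem_V_of ha h)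
  have ha0 : v a ≠ 0 := fun h => hne (Or.inl h)
  have has : v a ≠ sv := fun h => hne (eqm_zero.mpr (Or.inr h))
  have hsa : bf sv (v a) = false := (F.co.comm _ F.pr.mem a ha).mpr hcomm.symm
  obtain ⟨w, hw0, hws, hwq, hws', hwa⟩ := exists_partner F.sv_ne F.sv_qf ha0 has (F.co.singular ha hsq) hsa
  obtain ⟨L, hL, hLs, hLa⟩ := move_line F.sv_ne F.sv_qf ha0 has (F.co.singular ha hsq) hsa hw0 hws hwq hws'
  obtain ⟨d, hdz, hdv⟩ := F.co.real L hL
  have hds : v (d * z' * d⁻¹) = sv := (hdv _ F.pr.mem).trans hLs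
  -- correct by an inner automorphism
  obtain ⟨e, he, hef⟩ : ∃ e ∈ Q, (e * d) * z' * (e * d)⁻¹ = z' := by
    rcases F.co.eq_or (F.co.conj_mem hdz F.pr.mem) F.pr.mem hds with h | h
    · exact ⟨1, one_mem Q, by rw [one_mul]; exact h⟩
    · refine ⟨u, F.uQ, ?_⟩
      rw [show u * d * z' * (u * d)⁻¹ = u * (d * z' * d⁻¹) * u⁻¹ by group, h,
        show u * (z * z') * u⁻¹ = (u * z * u⁻¹) * (u * z' * u⁻¹) by group, F.us,
        F.co.commute_z F.uQ, mul_inv_cancel_right, ← mul_assoc, F.pr.s.zz, one_mul]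
  set f := e * d with hf
  have hfz : f * z = z * f := (show Commute e z from F.co.commute_z he).mul_left hdz
  have hfC : f ∈ Subgroup.centralizer (V z g : Set G) :=
    F.pr.mem_centralizer_V.mpr ⟨hfz, mul_inv_eq_iff_eq_mul.mp hef⟩
  have hbQ : f * a * f⁻¹ ∈ Q := F.co.conj_mem hfz ha
  have hbQ' : f * a * f⁻¹ ∈ Q' :=
    (Subgroup.mem_normalizer_iff.mp (Subgroup.mem_inf.mp (F.pr.centralizer_V_le hfC)).2 a).mp ha'
  set b := f * a * f⁻¹ with hb
  have hbv : v b = w := by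
    rw [hb, show f * a * f⁻¹ = e * (d * a * d⁻¹) * e⁻¹ by rw [hf]; group,
      F.co.v_inner he (F.co.conj_mem hdz ha), hdv a ha]
    exact hLa
  have hab : a * b = b * a := by
    rcases F.pr.s.comm_cases ha hbQ with h | h
    · exact mul_inv_eq_iff_eq_mul.mp h
    · rcases F.pr.s'.comm_cases ha' hbQ' with h' | h'
      · exact mul_inv_eq_iff_eq_mul.mp h'
      · exact absurd (mul_right_cancel (h'.symm.trans h)) F.pr.ne
  rw [← F.co.comm a ha b hbQ, hbv, hwa] at hab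
  simp at hab

theorem conj_u' {e : G} (he : e ∈ V z g) : u * e * u⁻¹ ∈ V z g :=
  (Subgroup.mem_normalizer_iff.mp (F.pr.Q_le_normalizer F.uQ) e).mp he

theorem P'_norm {y a : G} (hy : y ∈ P' Q z g) (ha : a ∈ Q) : y * a * y⁻¹ ∈ Q :=
  F.co.conj_mem (F.mem_P'.mp hy).2 ha

theorem P_norm {x w : G} (hx : x ∈ P Q z g) (hw : w ∈ Q') : x * w * x⁻¹ ∈ Q' :=
  (Subgroup.mem_normalizer_iff.mp
    (Subgroup.mem_inf.mp (F.pr.centralizer_V_le (F.pr.P_le_centralizer hx))).2 w).mp hw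

theorem P_conj_P' {y x : G} (hy : y ∈ P' Q z g) (hx : x ∈ P Q z g) : y * x * y⁻¹ ∈ P Q z g := by
  obtain ⟨hxQ, hxs⟩ := F.mem_P.mp hx
  refine F.mem_P.mpr ⟨F.P'_norm hy hxQ, ?_⟩
  exact ((show Commute y z' from F.P'_comm hy).mul_left (show Commute x z' from hxs)).mul_left
    (show Commute y z' from F.P'_comm hy).inv_left

theorem comm_mem_V {x y : G} (hx : x ∈ P Q z g) (hy : y ∈ P' Q z g) : x * y * x⁻¹ * y⁻¹ ∈ V z g := by
  refine F.meet ?_ ?_
  · have := mul_mem (F.mem_P.mp hx).1 (F.P'_norm hy (inv_mem (F.mem_P.mp hx).1))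
    simpa [mul_assoc] using this
  · exact mul_mem (F.P_norm hx (F.mem_P'.mp hy).1) (inv_mem (F.mem_P'.mp hy).1)

theorem v_conj_P {x y : G} (hx : x ∈ P Q z g) (hy : y ∈ P' Q z g) :
    Eqm sv (v (y * x * y⁻¹)) (v x) := by
  have hk := inv_mem (F.comm_mem_V hx hy)
  have e : y * x * y⁻¹ = (x * y * x⁻¹ * y⁻¹)⁻¹ * x := by group
  rw [e, F.co.mul _ (F.pr.V_le hk) _ (F.mem_P.mp hx).1]
  simpa [zero_xr] using Eqm.xr (F.v_mem_V hk) (Eqm.refl sv (v x))

theorem al_mem {y : G} (hy : y ∈ P' Q z g) : al u y ∈ P Q z g := by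
  refine F.mem_P.mpr ⟨?_, ?_⟩
  · have := mul_mem F.uQ (F.P'_norm hy (inv_mem F.uQ))
    simpa [al, mul_assoc] using this
  · have huz : u * z = z * u := F.co.commute_z F.uQ
    have h1 : u * (y * z') * u⁻¹ = u * (z' * y) * u⁻¹ := by rw [F.P'_comm hy]
    rw [show u * (y * z') * u⁻¹ = (u * y * u⁻¹) * (u * z' * u⁻¹) by group,
      show u * (z' * y) * u⁻¹ = (u * z' * u⁻¹) * (u * y * u⁻¹) by group, F.us] at h1
    have h2 : Commute (u * y * u⁻¹) z :=
      ((show Commute u z from huz).mul_left (show Commute y z from (F.mem_P'.mp hy).2)).mul_left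
        (show Commute u z from huz).inv_left
    have h3 : Commute (u * y * u⁻¹) z' := by
      have e1 : z * (u * y * u⁻¹ * z') = z * (z' * (u * y * u⁻¹)) := by
        calc z * (u * y * u⁻¹ * z') = (z * (u * y * u⁻¹)) * z' := by group
          _ = u * y * u⁻¹ * (z * z') := by rw [← h2.eq]; group
          _ = _ := by rw [h1]; group
      exact mul_left_cancel e1
    exact h3.mul_left (show Commute y z' from F.P'_comm hy).inv_left

theorem al_eq {y : G} : u * y * u⁻¹ = al u y * y := by simp [al, mul_assoc]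

theorem v_al_mul {y y₂ : G} (hy : y ∈ P' Q z g) (hy₂ : y₂ ∈ P' Q z g) :
    Eqm sv (v (al u (y * y₂))) (xr (v (al u y)) (v (al u y₂))) := by
  have e : al u (y * y₂) = al u y * (y * al u y₂ * y⁻¹) := by simp [al, mul_assoc]
  rw [e, F.co.mul _ (F.mem_P.mp (F.al_mem hy)).1 _ (F.P'_norm hy (F.mem_P.mp (F.al_mem hy₂)).1)]
  exact Eqm.xr (Eqm.refl _ _) (F.v_conj_P (F.al_mem hy₂) hy)

theorem al_inv {y : G} (hy : y ∈ P' Q z g) : Eqm sv (v (al u y⁻¹)) (v (al u y)) := by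
  have h := F.v_al_mul hy (inv_mem hy)
  rw [mul_inv_cancel, show al u (1 : G) = 1 by simp [al], F.co.v_one] at h
  have h' := Eqm.xr h (Eqm.refl sv (v (al u y)))
  rw [zero_xr, xr_comm (v (al u y)) (v (al u y⁻¹)), xr_assoc, xr_self, xr_zero] at h'
  exact h'.symm

theorem al_inj {y : G} (hy : y ∈ P' Q z g) (h : Eqm sv (v (al u y)) 0) : y ∈ V z g := by
  obtain ⟨u', hu', h1, h2, -⟩ := F.pr.exists_swap'
  have hth := F.pr.third F.us h2
  have hyQ' := (F.mem_P'.mp hy).1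
  have hal : al u y ∈ V z g := F.mem_V_of (F.mem_P.mp (F.al_mem hy)).1 h
  have hm : u * y * u⁻¹ ∈ Q.map (MulAut.conj u').toMonoidHom := by
    rw [hth]; exact ⟨y, hyQ', rfl⟩
  obtain ⟨x, hx, hxe⟩ := hm
  change u' * x * u'⁻¹ = u * y * u⁻¹ at hxe
  have huy : u * y * u⁻¹ ∈ Q' := by
    rw [F.al_eq]; exact mul_mem (F.V_le_Q' hal) hyQ'
  have hx' : x ∈ Q' := by
    have := mul_mem (mul_mem (inv_mem hu') (hxe ▸ huy)) hu'
    simpa [mul_assoc] using this
  have hxV := F.meet hx hx'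
  have hN : u' * x * u'⁻¹ ∈ V z g :=
    (Subgroup.mem_normalizer_iff.mp (F.pr.X_le_normalizer ((le_sup_right : Q' ≤ X Q g) hu')) x).mp hxV
  rw [hxe, F.al_eq] at hN
  simpa using mul_mem (inv_mem hal) hN

/-- For an element of `P`, the corresponding element of `P'`. -/
theorem al_surj_key {u' : G} (hu' : u' ∈ Q') (h1 : u' * z' * u'⁻¹ = z')
    (h2 : u' * z * u'⁻¹ = z * z') {x : G} (hx : x ∈ P Q z g) :
    ∃ r ∈ P' Q z g, Eqm sv (v x) (v (al u r)) ∧ r⁻¹ * (x⁻¹ * u' * x * u'⁻¹) ∈ V z g := by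
  have hth := F.pr.third F.us h2
  obtain ⟨hxQ, hxs⟩ := F.mem_P.mp hx
  have hw : u' * x * u'⁻¹ ∈ (Subgroup.map (MulEquiv.toMonoidHom (MulAut.conj u)) Q') := by
    rw [← hth]; exact ⟨x, hxQ, rfl⟩
  obtain ⟨r, hr, hre⟩ := hw
  change u * r * u⁻¹ = u' * x * u'⁻¹ at hre
  have cxz' : Commute x z' := hxs
  have cxz : Commute x z := F.co.commute_z hxQ
  have w1 : Commute (u' * x * u'⁻¹) z' := by
    have := cxz'.map (MulAut.conj u')
    rwa [MulAut.conj_apply, MulAut.conj_apply, h1] at this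
  have w2 : Commute (u' * x * u'⁻¹) (z * z') := by
    have := cxz.map (MulAut.conj u')
    rwa [MulAut.conj_apply, MulAut.conj_apply, h2] at this
  have w3 : Commute (u' * x * u'⁻¹) z := by
    have := w2.mul_right w1.inv_right
    rwa [mul_inv_cancel_right] at this
  have hrP : r ∈ P' Q z g := by
    refine F.mem_P'.mpr ⟨hr, ?_⟩
    have huz : Commute u z := F.co.commute_z F.uQ
    have := (huz.inv_left.mul_left (hre ▸ w3)).mul_left huz
    rwa [show u⁻¹ * (u * r * u⁻¹) * u = r by group] at this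
  have e1 : (al u r)⁻¹ * x = r * (x⁻¹ * u' * x * u'⁻¹)⁻¹ := by
    rw [show al u r = u * r * u⁻¹ * r⁻¹ from rfl, hre]; group
  have hb : x⁻¹ * u' * x * u'⁻¹ ∈ Q' := by
    have := F.P_norm (inv_mem hx) hu'
    rw [inv_inv] at this
    exact mul_mem this (inv_mem hu')
  have hV : (al u r)⁻¹ * x ∈ V z g := by
    refine F.meet (mul_mem (inv_mem (F.mem_P.mp (F.al_mem hrP)).1) hxQ) ?_
    rw [e1]; exact mul_mem hr (inv_mem hb)
  refine ⟨r, hrP, ?_, ?_⟩
  · have := Eqm.xr (Eqm.refl sv (v (al u r))) (F.v_mem_V hV)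
    rw [← F.co.mul _ (F.mem_P.mp (F.al_mem hrP)).1 _ (F.pr.V_le hV), mul_inv_cancel_left, xr_zero] at this
    exact this
  · have h3 : r * (x⁻¹ * u' * x * u'⁻¹)⁻¹ ∈ V z g := e1 ▸ hV
    have h4 := (Subgroup.mem_normalizer_iff.mp (Subgroup.centralizer_le_normalizer _
      (F.pr.P'_le_centralizer (inv_mem hrP))) _).mp (inv_mem h3)
    rwa [show r⁻¹ * (r * (x⁻¹ * u' * x * u'⁻¹)⁻¹)⁻¹ * r⁻¹⁻¹ =
      r⁻¹ * (x⁻¹ * u' * x * u'⁻¹) by group] at h4

theorem al_surj {w : V8} (hw : bf w sv = false) : ∃ y ∈ P' Q z g, Eqm sv w (v (al u y)) := by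
  obtain ⟨x, hx, hxw⟩ := F.co.surj w
  obtain ⟨u', hu', h1, h2, -⟩ := F.pr.exists_swap'
  obtain ⟨r, hr, hre, -⟩ := F.al_surj_key hu' h1 h2 (F.mem_P_of hx (hxw ▸ hw))
  exact ⟨r, hr, hxw ▸ hre⟩

end Fr

end CfsgLib.CoOneType
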