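import Cfsg.Agent.Lib.CoOneType.Count

/-!
The two kinds are different classes: their centralisers have different two-parts.
-/

set_option autoImplicit false

namespace CfsgLib.CoOneType

open CfsgLib.Extraspecial CfsgLib.Extraspecial.Pair

theorem apply_cond_qf (i : Bool) (w : V8) : qf (cond i w 0) = (i && qf w) := by
  cases i <;> simp [qf_zero]

variable {G : Type*} [Group G] [Finite G]

theorem card_two_cosets {K N : Subgroup G} {f : G} (hKN : K ≤ N) (hf : f ∈ N) (hfK : f ∉ K)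
    (h : ∀ n ∈ N, n ∈ K ∨ f⁻¹ * n ∈ K) : Nat.card N = 2 * Nat.card K := by
  let φ : K ⊕ K → N := Sum.elim (fun c => ⟨c, hKN c.2⟩) (fun c => ⟨f * c, mul_mem hf (hKN c.2)⟩)
  have hφ : Function.Bijective φ := by
    constructor
    · rintro (a | a) (b | b) e <;> have e' := congrArg Subtype.val e <;>
        simp only [φ, Sum.elim_inl, Sum.elim_inr] at e'
      · exact congrArg _ (Subtype.ext e')
      · exact absurd (by
          have := mul_mem a.2 (inv_mem b.2)
          rwa [e', mul_inv_cancel_right] at this) hfK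
      · exact absurd (by
          have := mul_mem b.2 (inv_mem a.2)
          rwa [← e', mul_inv_cancel_right] at this) hfK
      · exact congrArg _ (Subtype.ext (mul_left_cancel e'))
    · rintro ⟨n, hn⟩
      rcases h n hn with h' | h'
      · exact ⟨Sum.inl ⟨n, h'⟩, rfl⟩
      · exact ⟨Sum.inr ⟨_, h'⟩, Subtype.ext (mul_inv_cancel_left f n)⟩
  rw [← Nat.card_eq_of_bijective φ hφ, Nat.card_sum]
  omega

theorem card_centralizer_conj {a b : G} (h : IsConj a b) :
    Nat.card ↥(Subgroup.centralizer ({a} : Set G)) = Nat.card ↥(Subgroup.centralizer ({b} : Set G)) := by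
  obtain ⟨c, rfl⟩ := isConj_iff.mp h
  refine Nat.card_congr ((MulAut.conj c).toEquiv.subtypeEquiv fun w => ?_)
  show _ ↔ c * w * c⁻¹ ∈ _
  rw [Subgroup.mem_centralizer_singleton_iff, Subgroup.mem_centralizer_singleton_iff]
  constructor
  · intro e
    calc c * w * c⁻¹ * (c * a * c⁻¹) = c * (w * a) * c⁻¹ := by group
      _ = _ := by rw [e]; group
  · intro e
    have e1 : c * (w * a) * c⁻¹ = c * (a * w) * c⁻¹ := by
      calc c * (w * a) * c⁻¹ = c * w * c⁻¹ * (c * a * c⁻¹) := by group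
        _ = _ := by rw [e]; group
    exact mul_left_cancel (mul_right_cancel e1)

namespace Fr

variable {z : G} {Q : Subgroup G} {v : G → V8} {g u : G} (F : Fr z Q v g u)
include F

local notation "z'" => g * z * g⁻¹
local notation "Q'" => Subgroup.map (MulEquiv.toMonoidHom (MulAut.conj g)) Q
local notation "sv" => v (g * z * g⁻¹)

theorem us_inv : u⁻¹ * z' * u = z * z' := by
  have e : u * (z * z') * u⁻¹ = z' := by
    rw [show u * (z * z') * u⁻¹ = (u * z * u⁻¹) * (u * z' * u⁻¹) by group, F.us, F.co.commute_z F.uQ,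
      mul_inv_cancel_right, ← mul_assoc, F.pr.s.zz, one_mul]
  conv_lhs => arg 1; arg 2; rw [← e]
  group

theorem cp_le_normalizer : cp z g ≤ Subgroup.normalizer (V z g : Set G) := fun c hc =>
  Subgroup.centralizer_le_normalizer _ (F.pr.mem_centralizer_V.mpr (mem_cp.mp hc))

/-- An element of the centraliser moving the pair. -/
theorem mover {k : Bool} {t : G} (h : Kd k z Q v g u t) :
    ∃ f, f * z = z * f ∧ f * t = t * f ∧ f * z' * f⁻¹ = z * z' ∧
      f ∈ Subgroup.normalizer (V z g : Set G) := by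
  obtain ⟨c, hcz, hcs, hc⟩ := F.co.kd_orbit F (F.kd_conj_u h) h
  refine ⟨c * u, (show Commute c z from hcz).mul_left (show Commute u z from F.co.commute_z F.uQ), ?_, ?_,
    mul_mem (F.cp_le_normalizer (mem_cp.mpr ⟨hcz, hcs⟩)) (F.pr.Q_le_normalizer F.uQ)⟩
  · refine mul_inv_eq_iff_eq_mul.mp ?_
    rw [show c * u * t * (c * u)⁻¹ = c * (u * t * u⁻¹) * c⁻¹ by group, hc]
  · rw [show c * u * z' * (c * u)⁻¹ = c * (u * z' * u⁻¹) * c⁻¹ by group, F.us,
      ((show Commute c z from hcz).mul_right (show Commute c z' from hcs)).eq, mul_inv_cancel_right]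

theorem not_mem_cp {f : G} (hf : f * z' * f⁻¹ = z * z') : f ∉ cp z g := fun h => by
  rw [(mem_cp.mp h).2, mul_inv_cancel_right] at hf
  exact F.pr.mul_ne_right hf.symm

/-- Half of a group permuting the pair fixes it. -/
theorem card_perm {k : Bool} {t : G} (h : Kd k z Q v g u t) (N : Subgroup G)
    (hN : ∀ n ∈ N, n * z = z * n ∧ n * t = t * n ∧ (n * z' * n⁻¹ = z' ∨ n * z' * n⁻¹ = z * z'))
    (hN' : ∀ n, n * z = z * n → n * t = t * n → n ∈ Subgroup.normalizer (V z g : Set G) → n ∈ N) :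
    Nat.card N = 2 * Nat.card ↥(cp z g ⊓ Subgroup.centralizer ({t} : Set G)) := by
  obtain ⟨f, f1, f2, f3, f4⟩ := F.mover h
  refine card_two_cosets (f := f) ?_ (hN' f f1 f2 f4) (fun hf => F.not_mem_cp f3 (Subgroup.mem_inf.mp hf).1) ?_
  · intro c hc
    obtain ⟨hc1, hc2⟩ := Subgroup.mem_inf.mp hc
    exact hN' c (mem_cp.mp hc1).1 (Subgroup.mem_centralizer_singleton_iff.mp hc2) (F.cp_le_normalizer hc1)
  · intro n hn
    obtain ⟨n1, n2, n3⟩ := hN n hn
    rcases n3 with n3 | n3
    · exact Or.inl (Subgroup.mem_inf.mpr ⟨mem_cp.mpr ⟨n1, mul_inv_eq_iff_eq_mul.mp n3⟩,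
        Subgroup.mem_centralizer_singleton_iff.mpr n2⟩)
    · refine Or.inr (Subgroup.mem_inf.mpr ⟨mem_cp.mpr ⟨?_, mul_inv_eq_iff_eq_mul.mp ?_⟩,
        Subgroup.mem_centralizer_singleton_iff.mpr ?_⟩)
      · exact (show Commute f z from f1).inv_left.mul_left (show Commute n z from n1)
      · rw [show f⁻¹ * n * z' * (f⁻¹ * n)⁻¹ = f⁻¹ * (n * z' * n⁻¹) * f by group, n3, ← f3]
        group
      · exact (show Commute f t from f2).inv_left.mul_left (show Commute n t from n2)

theorem perm_of_kd_true {t n : G} (h : Kd true z Q v g u t) (hz : n * z = z * n) (ht : n * t = t * n) :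
    n * z' * n⁻¹ = z' ∨ n * z' * n⁻¹ = z * z' := by
  have e : n * z' * n⁻¹ = (n * g) * z * (n * g)⁻¹ := by group
  have c₂ : Pair Q z (n * g) := ⟨F.co.st, e ▸ F.co.conj_mem hz F.pr.mem, fun e' => F.pr.ne (by
    calc z' = n⁻¹ * ((n * g) * z * (n * g)⁻¹) * n := by group
      _ = z := by rw [e', mul_assoc, ← hz, inv_mul_cancel_left]), F.pr.big⟩
  obtain ⟨u₂, F₂⟩ := F.co.exists_fr c₂
  have h₂ := F.co.kd_conj F F₂ hz e h
  rw [ht, mul_inv_cancel_right] at h₂
  rw [e]
  exact F.kd_unique F₂ h h₂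

theorem card_true {t : G} (h : Kd true z Q v g u t) :
    Nat.card ↥(Subgroup.centralizer ({z} : Set G) ⊓ Subgroup.centralizer ({t} : Set G)) =
      2 * Nat.card ↥(cp z g ⊓ Subgroup.centralizer ({t} : Set G)) :=
  F.card_perm h _ (fun n hn => by
      obtain ⟨h1, h2⟩ := Subgroup.mem_inf.mp hn
      rw [Subgroup.mem_centralizer_singleton_iff] at h1 h2
      exact ⟨h1, h2, F.perm_of_kd_true h h1 h2⟩)
    (fun n h1 h2 _ => Subgroup.mem_inf.mpr
      ⟨Subgroup.mem_centralizer_singleton_iff.mpr h1, Subgroup.mem_centralizer_singleton_iff.mpr h2⟩)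

theorem two_dvd_card {k : Bool} {t : G} (h : Kd k z Q v g u t) :
    2 * Nat.card ↥(cp z g ⊓ Subgroup.centralizer ({t} : Set G)) ∣
      Nat.card ↥(Subgroup.centralizer ({t} : Set G)) := by
  rw [← F.card_perm h (Subgroup.centralizer ({z} : Set G) ⊓ Subgroup.normalizer (V z g : Set G) ⊓
    Subgroup.centralizer ({t} : Set G)) ?_ ?_]
  · exact Subgroup.card_dvd_of_le inf_le_right
  · intro n hn
    simp only [Subgroup.mem_inf, Subgroup.mem_centralizer_singleton_iff] at hn
    obtain ⟨⟨h1, h2⟩, h3⟩ := hn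
    refine ⟨h1, h3, ?_⟩
    rcases F.pr.mem_V.mp ((Subgroup.mem_normalizer_iff.mp h2 z').mp F.z'_mem_V) with e | e | e | e
    · exact absurd (conj_eq_one_iff.mp e) F.pr.ne_one'
    · exfalso
      refine F.pr.ne ?_
      calc z' = n⁻¹ * (n * z' * n⁻¹) * n := by group
        _ = z := by rw [e, mul_assoc, ← h1, inv_mul_cancel_left]
    · exact Or.inl e
    · exact Or.inr e
  · intro n h1 h2 h3
    simp only [Subgroup.mem_inf, Subgroup.mem_centralizer_singleton_iff]
    exact ⟨⟨h1, h3⟩, h2⟩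

/-- The classes of the components along the two chosen vectors. -/
theorem eqm_span {a b w : V8} (h : InSpan sv a b w) :
    ∃ j l : Bool, Eqm sv w (cond j a 0 + cond l b 0) := by
  obtain ⟨i, j, l, rfl⟩ := h
  refine ⟨j, l, ?_⟩
  cases i
  · exact Or.inl (by simp)
  · refine Or.inr ?_
    show _ = _ + sv
    simp only [cond_true]
    abel

/-- An involution with a trivial second component fixed by a mover is central. -/
theorem flat {t x y x₁ y₁ f : G} (hx : x ∈ P Q z g) (hy : y ∈ P' Q z g) (ht : t = x * y)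
    (C : Cfg true sv (v x) (v (al u y))) (hx₁ : x₁ ∈ P Q z g) (hy₁ : y₁ ∈ P' Q z g)
    (hsq : x₁ * y₁ * (x₁ * y₁) = 1) (hα : InSpan sv (v x) (v (al u y)) (v x₁))
    (hβ : Eqm sv (v (al u y₁)) 0) (hf : f * z' * f⁻¹ = z * z')
    (hfc : f * (x₁ * y₁) = x₁ * y₁ * f) : x₁ * y₁ = 1 ∨ x₁ * y₁ = z := by
  have hyV := F.al_inj hy₁ hβ
  have qb : qf (v (al u y₁)) = false := by
    rw [hβ.qf_eq F.sv_qf (bf_zero_left _), qf_zero]
  obtain ⟨qa, -, -⟩ := (F.cases_of_sq hx₁ hy₁ hsq).resolve_right (fun e => by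
    rw [qb] at e; exact Bool.false_ne_true e.2.1)
  obtain ⟨j, l, hjl⟩ := F.eqm_span hα
  have hbs : bf (cond j (v x) 0 + cond l (v (al u y)) 0) sv = false := by
    rw [bf_comm, bf_xor_right, bf_cond', bf_cond', C.sa, C.sb]; simp
  rw [hjl.qf_eq F.sv_qf hbs, qf_add, apply_cond_qf, apply_cond_qf, C.qa, C.qb, bf_cond, bf_cond', C.ab] at qa
  obtain ⟨rfl, rfl⟩ : j = false ∧ l = false := by
    revert qa; cases j <;> cases l <;> simp
  have hxV : x₁ ∈ V z g := F.mem_V_of (F.mem_P.mp hx₁).1 (by simpa using hjl)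
  rcases F.pr.mem_V.mp (mul_mem hxV hyV) with e | e | e | e
  · exact Or.inl e
  · exact Or.inr e
  · exfalso
    rw [e] at hfc
    rw [hfc, mul_inv_cancel_right] at hf
    exact F.pr.mul_ne_right hf.symm
  · exfalso
    rw [e] at hfc
    have hh : f * (z * z') * f⁻¹ = z * z' := by rw [hfc, mul_inv_cancel_right]
    rw [← hf, show f * z' * f⁻¹ = z * z' from hf] at hh
    have h2 : z * z' = z' := mul_left_cancel (mul_right_cancel (hh.trans hf.symm))
    exact F.pr.mul_ne_right h2

/-- Central involutions of a Sylow two-subgroup of the centraliser of `z` and an involution. -/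
theorem central {t e f : G} (h : Kd true z Q v g u t) (hez : e * z = z * e) (het : e * t = t * e)
    (he2 : e * e = 1) (hD : ∀ d ∈ Q, d * t = t * d → e * d = d * e) (hfz : f * z = z * f)
    (hft : f * t = t * f) (hfs : f * z' * f⁻¹ = z * z') (hfe : f * e = e * f) :
    e = 1 ∨ e = z ∨ e = t ∨ e = z * t := by
  obtain ⟨x, hx, y, hy, ht, htt, C⟩ := id h
  have hts := (F.kd_commute h).2
  have hes : e * z' = z' * e := hD _ F.pr.mem hts.symm
  have hperp : ∀ w, bf sv w = false → bf (v x) w = false → bf (v (al u y)) w = false →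
      ∃ p ∈ P Q z g, v p = w ∧ e * p = p * e := by
    intro w w1 w2 w3
    obtain ⟨p, hp, rfl⟩ := F.co.surj w
    have hpP := F.mem_P_of hp ((bf_comm _ _).trans w1)
    refine ⟨p, hpP, rfl, hD p hp (mul_inv_eq_iff_eq_mul.mp ?_)⟩
    rw [ht, F.conj_P hpP hx hy, bf_comm (v p), w2, bf_comm (v p), w3]
    simp
  obtain ⟨L, hL, hA⟩ := F.co.par e hez
  have hxe : e * x * e⁻¹ ∈ P Q z g := F.mem_P.mpr ⟨F.co.conj_mem hez (F.mem_P.mp hx).1, by
    have := (show Commute x z' from (F.mem_P.mp hx).2).map (MulAut.conj e)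
    rw [MulAut.conj_apply, MulAut.conj_apply, hes, mul_inv_cancel_right] at this
    exact this⟩
  obtain ⟨hye, hyL, -, -⟩ := F.P'_act hez hes hA hy
  obtain ⟨c1, c2⟩ := F.components hx hy hxe hye (by
    rw [show e * x * e⁻¹ * (e * y * e⁻¹) = e * (x * y) * e⁻¹ by group, ← ht, het, mul_inv_cancel_right])
  have hLa : Eqm sv (app L (v x)) (v x) := by rw [← hA x (F.mem_P.mp hx).1]; exact c1
  have hLb : Eqm sv (app L (v (al u y))) (v (al u y)) := hyL.symm.trans c2
  have hfix : ∀ w, bf w sv = false → Eqm sv (app L w) w := by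
    intro w hw
    set r := cond (bf (v (al u y)) w) (v x) 0 + cond (bf (v x) w) (v (al u y)) 0 with hr
    obtain ⟨p, hp, hpv, hpe⟩ := hperp (w + r) (by
        rw [hr]; simp [bf_xor_right, bf_cond', (bf_comm sv w).trans hw, C.sa, C.sb])
      (by rw [hr]; simp [bf_xor_right, bf_cond', bf_self, C.ab])
      (by rw [hr]; simp [bf_xor_right, bf_cond', bf_self, bf_comm (v (al u y)) (v x), C.ab])
    have hfp : app L (w + r) = w + r := by
      rw [← hpv, ← hA p (F.mem_P.mp hp).1, hpe, mul_inv_cancel_right]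
    have hrr : Eqm sv (app L r) r := by
      rw [hr]
      have hc : ∀ (i : Bool) {d : V8}, Eqm sv (app L d) d → Eqm sv (app L (cond i d 0)) (cond i d 0) := by
        intro i d hd
        cases i
        · exact Or.inl (app_zero L)
        · exact hd
      have := Eqm.xr (hc (bf (v (al u y)) w) hLa) (hc (bf (v x) w) hLb)
      rw [← app_xr] at this
      exact this
    have h3 := Eqm.xr (Or.inl hfp : Eqm sv (app L (w + r)) (w + r)) hrr
    rw [← app_xr] at h3
    rwa [show xr (w + r) r = w by show w + r + r = w; rw [add_assoc, add_self, add_zero]] at h3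
  obtain ⟨x₁, hx₁, y₁, hy₁, he⟩ := F.mem_radical hez hes (fun p hp => by
    rw [hA p (F.mem_P.mp hp).1]; exact hfix _ (F.P_perp hp))
  have hspan : InSpan sv (v x) (v (al u y)) (v x₁) ∧ InSpan sv (v x) (v (al u y)) (v (al u y₁)) := by
    have key : ∀ w, bf sv w = false → bf (v x) w = false → bf (v (al u y)) w = false →
        bf (v x₁) w = false ∧ bf (v (al u y₁)) w = false := by
      intro w w1 w2 w3
      obtain ⟨p, hp, hpv, hpe⟩ := hperp w w1 w2 w3
      have hc := F.conj_P hp hx₁ hy₁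
      rw [← he, ← hpe, mul_inv_cancel_right] at hc
      have hc' := right_eq_mul.mp hc
      rw [← hpv, bf_comm (v x₁), bf_comm (v (al u y₁))]
      cases hi : bf (v p) (v x₁) <;> cases hj : bf (v p) (v (al u y₁)) <;>
        simp only [hi, hj, cond_true, cond_false, one_mul, mul_one] at hc'
      · exact ⟨rfl, rfl⟩
      · exact absurd hc' F.pr.mul_ne_one
      · exact absurd hc' F.pr.s.ne_one
      · rw [← mul_assoc, F.pr.s.zz, one_mul] at hc'
        exact absurd hc' F.pr.ne_one'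
    exact ⟨C.span fun w w1 w2 w3 => (key w w1 w2 w3).1, C.span fun w w1 w2 w3 => (key w w1 w2 w3).2⟩
  -- the mover
  set c := f * u⁻¹ with hc
  have hcz : c * z = z * c :=
    (show Commute f z from hfz).mul_left (show Commute u z from F.co.commute_z F.uQ).inv_left
  have hcs : c * z' = z' * c := mul_inv_eq_iff_eq_mul.mp (by
    rw [hc, show f * u⁻¹ * z' * (f * u⁻¹)⁻¹ = f * (u⁻¹ * z' * u) * f⁻¹ by group, F.us_inv,
      show f * (z * z') * f⁻¹ = (f * z * f⁻¹) * (f * z' * f⁻¹) by group, hfs, hfz, mul_inv_cancel_right,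
      ← mul_assoc, F.pr.s.zz, one_mul])
  obtain ⟨M, hM, hB⟩ := F.co.par c hcz
  have move : ∀ {x₂ y₂ : G}, x₂ ∈ P Q z g → y₂ ∈ P' Q z g → f * (x₂ * y₂) = x₂ * y₂ * f →
      Eqm sv (app M (xr (v x₂) (v (al u y₂)))) (v x₂) ∧ Eqm sv (app M (v (al u y₂))) (v (al u y₂)) := by
    intro x₂ y₂ hx₂ hy₂ hcomm
    have hal := F.al_mem hy₂
    have hxu : u * x₂ * u⁻¹ ∈ P Q z g := P_conj F.pr F.uQ hx₂
    have hm := mul_mem hxu hal
    have hmc : c * (u * x₂ * u⁻¹ * al u y₂) * c⁻¹ ∈ P Q z g :=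
      F.mem_P.mpr ⟨F.co.conj_mem hcz (F.mem_P.mp hm).1, by
        have := (show Commute _ z' from (F.mem_P.mp hm).2).map (MulAut.conj c)
        rw [MulAut.conj_apply, MulAut.conj_apply, hcs, mul_inv_cancel_right] at this
        exact this⟩
    obtain ⟨hyc, hycM, -, -⟩ := F.P'_act hcz hcs hB hy₂
    obtain ⟨e1, e2⟩ := F.components hx₂ hy₂ hmc hyc (by
      rw [show c * (u * x₂ * u⁻¹ * al u y₂) * c⁻¹ * (c * y₂ * c⁻¹) = f * (x₂ * y₂) * f⁻¹ by
        rw [hc, al]; group, hcomm, mul_inv_cancel_right])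
    rw [hB _ (F.mem_P.mp hm).1, F.co.mul _ (F.mem_P.mp hxu).1 _ (F.mem_P.mp hal).1,
      F.co.v_inner F.uQ (F.mem_P.mp hx₂).1] at e1
    exact ⟨e1, hycM.symm.trans e2⟩
  obtain ⟨ma, mb⟩ := move hx hy (ht ▸ hft)
  obtain ⟨-, mβ⟩ := move hx₁ hy₁ (he ▸ hfe)
  have hMs : app M sv = sv := F.act_s hcs hB
  have hMa : Eqm sv (app M (v x)) (xr (v x) (v (al u y))) := by
    have := Eqm.xr ma mb
    rwa [← app_xr, xr_assoc (v x), xr_self, xr_zero] at this
  have hab : ¬ Eqm sv (xr (v x) (v (al u y))) (v x) := fun e => by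
    have := Eqm.xr e (Eqm.refl sv (v x))
    rw [xr_self, xr_comm (v x) (v (al u y)), xr_assoc, xr_self, xr_zero] at this
    rcases eqm_zero.mp this with e | e
    · exact C.b0 e
    · exact C.bs e
  obtain ⟨j, l, hjl⟩ := F.eqm_span hspan.2
  cases j
  swap
  · exfalso
    have h1 := (F.map_s hcs hB hjl).symm.trans (mβ.trans hjl)
    cases l
    · simp only [cond_true, cond_false, add_zero] at h1
      exact hab (hMa.symm.trans h1)
    · simp only [cond_true] at h1
      exact hab (h1.symm.trans ma)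
  cases l
  · rcases F.flat hx hy ht C hx₁ hy₁ (he ▸ he2) hspan.1 (by simpa using hjl) hfs (he ▸ hfe) with e1 | e1
    · exact Or.inl (he.trans e1)
    · exact Or.inr (Or.inl (he.trans e1))
  -- replace `e` by `e * t`
  have hβ : Eqm sv (v (al u y₁)) (v (al u y)) := by simpa using hjl
  set x₂ := x₁ * (y₁ * x * y₁⁻¹) with hx₂def
  have hx₂ : x₂ ∈ P Q z g := mul_mem hx₁ (F.P_conj_P' hy₁ hx)
  have hprod : x₂ * (y₁ * y) = e * t := by rw [hx₂def, he, ht]; group
  have hα₂ : InSpan sv (v x) (v (al u y)) (v x₂) := by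
    refine InSpan.of_eqm (w := v x₁ + v x) ?_ ?_
    · rw [hx₂def, F.co.mul _ (F.mem_P.mp hx₁).1 _ (F.mem_P.mp (F.P_conj_P' hy₁ hx)).1]
      exact Eqm.xr (Eqm.refl _ _) (F.v_conj_P hx hy₁)
    · obtain ⟨i, j, l, hv⟩ := hspan.1
      refine ⟨i, !j, l, ?_⟩
      rw [hv]
      cases j
      · simp only [cond_false, Bool.not_false, cond_true]; abel
      · simp only [cond_true, Bool.not_true, cond_false]
        rw [show cond i sv 0 + v x + cond l (v (al u y)) 0 + v x =
          cond i sv 0 + cond l (v (al u y)) 0 + (v x + v x) by abel, add_self]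
        abel
  have hβ₂ : Eqm sv (v (al u (y₁ * y))) 0 := by
    have := (F.v_al_mul hy₁ hy).trans (Eqm.xr hβ (Eqm.refl _ _))
    rwa [xr_self] at this
  have hsq₂ : x₂ * (y₁ * y) * (x₂ * (y₁ * y)) = 1 := by
    rw [hprod]
    calc e * t * (e * t) = e * (t * e) * t := by group
      _ = (e * e) * (t * t) := by rw [← het]; group
      _ = 1 := by rw [he2, htt, one_mul]
  have hfet : f * (x₂ * (y₁ * y)) = x₂ * (y₁ * y) * f := by
    rw [hprod]; exact (show Commute f e from hfe).mul_right (show Commute f t from hft)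
  rcases F.flat hx hy ht C hx₂ (mul_mem hy₁ hy) hsq₂ hα₂ hβ₂ hfs hfet with e1 | e1 <;> rw [hprod] at e1
  · refine Or.inr (Or.inr (Or.inl ?_))
    rw [eq_inv_of_mul_eq_one_left e1, inv_eq_of_mul_eq_one_right htt]
  · refine Or.inr (Or.inr (Or.inr ?_))
    calc e = e * t * t := by rw [mul_assoc, htt, mul_one]
      _ = _ := by rw [e1]

/-- A Sylow two-subgroup of the joint centraliser is one of the centraliser. -/
theorem pow_dvd_joint {t : G} (h : Kd true z Q v g u t) {m : ℕ}
    (hm : 2 ^ m ∣ Nat.card ↥(Subgroup.centralizer ({t} : Set G))) :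
    2 ^ m ∣ Nat.card ↥(Subgroup.centralizer ({z} : Set G) ⊓ Subgroup.centralizer ({t} : Set G)) := by
  classical
  haveI : Fact (Nat.Prime 2) := ⟨Nat.prime_two⟩
  set K := Subgroup.centralizer ({t} : Set G) with hK
  set H := Subgroup.centralizer ({z} : Set G) ⊓ K with hH
  have memH : ∀ {c : G}, c ∈ H ↔ c * z = z * c ∧ c * t = t * c := fun {c} => by
    rw [hH, hK, Subgroup.mem_inf, Subgroup.mem_centralizer_singleton_iff,
      Subgroup.mem_centralizer_singleton_iff]
  have hKmem : ∀ {c : G}, c ∈ K ↔ c * t = t * c := fun {c} => Subgroup.mem_centralizer_singleton_iff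
  have hQp : IsPGroup 2 Q := IsPGroup.of_card (n := 9) (by rw [F.co.card]; norm_num)
  obtain ⟨T0, hT0⟩ := ((hQp.to_le (inf_le_left (b := K))).comap_subtype (K := H)).exists_le_sylow
  set T' := (T0 : Subgroup H).map H.subtype with hT'
  have hT'p : IsPGroup 2 T' := T0.2.map _
  have hT'H : T' ≤ H := Subgroup.map_subtype_le _
  have hT'K : T' ≤ K := hT'H.trans inf_le_right
  have hDT : ∀ {d : G}, d ∈ Q → d * t = t * d → d ∈ T' := fun {d} hd hdt =>
    ⟨⟨d, memH.mpr ⟨F.co.commute_z hd, hdt⟩⟩, hT0 (Subgroup.mem_inf.mpr ⟨hd, hKmem.mpr hdt⟩), rfl⟩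
  have htz := (F.kd_commute h).1
  obtain ⟨S, hS⟩ := (hT'p.comap_subtype (K := K)).exists_le_sylow
  set S' := (S : Subgroup K).map K.subtype with hS'
  have hS'p : IsPGroup 2 S' := S.2.map _
  have hT'S : T' ≤ S' := fun a ha => ⟨⟨a, hT'K ha⟩, hS ha, rfl⟩
  have hSK : S' ≤ K := Subgroup.map_subtype_le _
  have hT0card : Nat.card T' = 2 ^ (Nat.card H).factorization 2 := by
    rw [hT', Subgroup.card_map_of_injective Subtype.coe_injective, T0.card_eq_multiplicity]
  -- an element of the subgroup moving the pair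
  obtain ⟨f, hfT, hfc⟩ : ∃ f ∈ T', f ∉ cp z g := by
    by_contra! hall
    have hdvd : Nat.card T' ∣ Nat.card ↥(cp z g ⊓ K) :=
      Subgroup.card_dvd_of_le fun a ha => Subgroup.mem_inf.mpr ⟨hall a ha, hT'K ha⟩
    have hcard : Nat.card H = 2 * Nat.card ↥(cp z g ⊓ K) := F.card_true h
    rw [hT0card, hcard, Nat.factorization_mul (by norm_num) Nat.card_pos.ne',
      Finsupp.add_apply, Nat.prime_two.factorization_self,
      Nat.prime_two.pow_dvd_iff_le_factorization Nat.card_pos.ne'] at hdvd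
    omega
  obtain ⟨hfz, hft⟩ := memH.mp (hT'H hfT)
  have hfs : f * z' * f⁻¹ = z * z' := (F.perm_of_kd_true h hfz hft).resolve_left fun e =>
    hfc (mem_cp.mpr ⟨hfz, mul_inv_eq_iff_eq_mul.mp e⟩)
  have hmax : ∀ {a : G}, a ∈ S' → a ∈ H → a ∈ T' := by
    intro a ha haH
    have hle : (T0 : Subgroup H) ≤ S'.subgroupOf H := fun b hb => hT'S ⟨b, hb, rfl⟩
    have heq := T0.3 (hS'p.comap_subtype (K := H)) hle
    exact ⟨⟨a, haH⟩, heq ▸ (show (⟨a, haH⟩ : H) ∈ S'.subgroupOf H from ha), rfl⟩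
  have hST : S' = T' := by
    refine le_antisymm ?_ hT'S
    by_contra hne
    have hlt : T'.subgroupOf S' < ⊤ := lt_of_le_of_ne le_top fun e =>
      hne (Subgroup.subgroupOf_eq_top.1 e)
    haveI := hS'p.isNilpotent
    obtain ⟨n, hn, hn'⟩ := SetLike.exists_of_lt
      ((Group.normalizerCondition_of_isNilpotent (G := S')) _ hlt)
    have hconj : ∀ a : G, a ∈ T' → (n : G) * a * (n : G)⁻¹ ∈ T' := fun a ha =>
      (Subgroup.mem_normalizer_iff.1 hn ⟨a, hT'S ha⟩).1 ha
    have hconj' : ∀ a : G, a ∈ T' → (n : G)⁻¹ * a * (n : G) ∈ T' := fun a ha => by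
      have := (Subgroup.mem_normalizer_iff.1 (inv_mem hn) ⟨a, hT'S ha⟩).1 ha
      simpa [Subgroup.mem_subgroupOf] using this
    have hnt : (n : G) * t = t * (n : G) := hKmem.mp (hSK n.2)
    set e := (n : G) * z * (n : G)⁻¹ with he
    obtain ⟨hez, het⟩ := memH.mp (hT'H (hconj z (hDT F.co.z_mem htz.symm)))
    have hcomm : ∀ a ∈ T', e * a = a * e := by
      intro a ha
      have := (show Commute ((n : G)⁻¹ * a * n) z from (memH.mp (hT'H (hconj' a ha))).1).map (MulAut.conj (n : G))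
      rw [MulAut.conj_apply, MulAut.conj_apply,
        show (n : G) * ((n : G)⁻¹ * a * n) * (n : G)⁻¹ = a by group, ← he] at this
      exact this.symm.eq
    have he2 : e * e = 1 := by
      rw [he, show (n : G) * z * (n : G)⁻¹ * ((n : G) * z * (n : G)⁻¹) = n * (z * z) * (n : G)⁻¹ by group,
        F.co.st.zz, mul_one, mul_inv_cancel]
    rcases F.central h hez het he2 (fun d hd hdt => hcomm d (hDT hd hdt)) hfz hft hfs (hcomm f hfT).symm
      with e1 | e1 | e1 | e1
    · exact F.pr.s.ne_one (conj_eq_one_iff.mp e1)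
    · exact hn' (hmax n.2 (memH.mpr ⟨mul_inv_eq_iff_eq_mul.mp e1, hnt⟩))
    · exact F.co.kd_not_isConj F h (isConj_iff.mpr ⟨(n : G), e1⟩ : IsConj z t).symm
    · obtain ⟨p, -, hp⟩ := F.translate h F.z_mem_V
      exact F.co.kd_not_isConj F h ((isConj_iff.mpr ⟨p, hp⟩ : IsConj t (z * t)).trans
        (isConj_iff.mpr ⟨(n : G), e1⟩ : IsConj z (z * t)).symm)
  refine (?_ : 2 ^ m ∣ Nat.card T').trans (Subgroup.card_dvd_of_le hT'H)
  rw [← hST, hS', Subgroup.card_map_of_injective Subtype.coe_injective, S.card_eq_multiplicity]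
  exact Nat.pow_dvd_pow 2 ((Nat.prime_two.pow_dvd_iff_le_factorization Nat.card_pos.ne').mp hm)

/-- The two kinds are not conjugate. -/
theorem kd_apart {t t₂ : G} (h : Kd true z Q v g u t) (h₂ : Kd false z Q v g u t₂) : ¬ IsConj t t₂ := by
  intro hcj
  have hA := F.card_true h
  have hr := F.card_ratio h h₂
  set A := Nat.card ↥(cp z g ⊓ Subgroup.centralizer ({t} : Set G)) with hAdef
  set B := Nat.card ↥(cp z g ⊓ Subgroup.centralizer ({t₂} : Set G)) with hBdef
  have hApos : A ≠ 0 := Nat.card_pos.ne'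
  have hBpos : B ≠ 0 := Nat.card_pos.ne'
  have hd : 2 * B ∣ Nat.card ↥(Subgroup.centralizer ({t} : Set G)) :=
    (card_centralizer_conj hcj).symm ▸ F.two_dvd_card h₂
  have h8 : (2 * B).factorization 2 = (2 * A).factorization 2 + 3 := by
    have f8 : (8 : ℕ).factorization 2 = 3 := by
      rw [show (8 : ℕ) = 2 ^ 3 by norm_num, Nat.Prime.factorization_pow Nat.prime_two, Finsupp.single_eq_same]
    have f15 : (15 : ℕ).factorization 2 = 0 := Nat.factorization_eq_zero_of_not_dvd (by norm_num)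
    have e : (8 * A).factorization 2 = (15 * B).factorization 2 := by rw [hr]
    rw [Nat.factorization_mul (by norm_num) hApos, Nat.factorization_mul (by norm_num) hBpos,
      Finsupp.add_apply, Finsupp.add_apply, f8, f15] at e
    rw [Nat.factorization_mul (by norm_num) hApos, Nat.factorization_mul (by norm_num) hBpos,
      Finsupp.add_apply, Finsupp.add_apply]
    omega
  have := F.pow_dvd_joint h ((Nat.ordProj_dvd (2 * B) 2).trans hd)
  rw [hA, Nat.prime_two.pow_dvd_iff_le_factorization (by positivity)] at this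
  omega

end Fr

end CfsgLib.CoOneType
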