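import Cfsg.Agent.Lib.CoOneType.Core
import Cfsg.Agent.Lib.ConwayFive.Exists
import Cfsg.Agent.Lib.Extraspecial.FStarSetting
import Cfsg.Agent.Lib.SuzType.Build

/-!
Coordinates on an extraspecial group of order `2^9` with quotient `Ω^+(8,2)` on top.
-/

set_option autoImplicit false

namespace CfsgLib.CoOneType

open CfsgLib.Extraspecial

theorem add_eq_zero_iff_eq_two : ∀ {a b : ZMod 2}, a + b = 0 ↔ a = b := by decide

open CfsgLib.ConwayFive (e8) in
theorem h25_ker {d : isoGrp ConwayFive.e8 →* ℤˣ} (_hd : ConwayFive.Iso8 d) : 25 ∣ Nat.card d.ker := by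
  classical
  haveI : Fact (Nat.Prime 5) := ⟨by norm_num⟩
  have five : orderOf ConwayFive.five4 = 5 := orderOf_eq_prime ConwayFive.five4_pow ConwayFive.five4_ne
  have hd1 : ∀ j : isoGrp ConwayFive.e4 →* isoGrp e8, d (j ConwayFive.five4) = 1 := fun j => by
    rcases Int.units_eq_one_or (d (j ConwayFive.five4)) with h | h
    · exact h
    · have h5 : d (j ConwayFive.five4) ^ 5 = 1 := by
        rw [← map_pow, ← map_pow, ConwayFive.five4_pow, map_one, map_one]
      rw [h] at h5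
      exact absurd h5 (by decide)
  let K : Subgroup (isoGrp ConwayFive.e4) := Subgroup.zpowers ConwayFive.five4
  have hc : ∀ a b, Commute (ConwayFive.j1 a) (ConwayFive.j2 b) := fun a b =>
    Subtype.ext (LinearEquiv.ext fun v => by
      show (ConwayFive.j1 a).1 ((ConwayFive.j2 b).1 v) = (ConwayFive.j2 b).1 ((ConwayFive.j1 a).1 v)
      simp [ConwayFive.j1_apply, ConwayFive.j2_apply, ConwayFive.fs_glue, ConwayFive.sn_glue])
  let f : ↥K × ↥K →* isoGrp e8 :=
    MonoidHom.mk' (fun p => ConwayFive.j1 p.1.1 * ConwayFive.j2 p.2.1) (fun p q => by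
      show ConwayFive.j1 (p.1.1 * q.1.1) * ConwayFive.j2 (p.2.1 * q.2.1) = _
      rw [map_mul, map_mul, mul_assoc, ← mul_assoc (ConwayFive.j1 q.1.1), (hc _ _).eq]
      simp only [mul_assoc])
  have hf : Function.Injective f := by
    rw [injective_iff_map_eq_one]
    rintro ⟨a, b⟩ h
    have h' : ConwayFive.j1 a.1 * ConwayFive.j2 b.1 = 1 := h
    have ha : ∀ u, a.1.1 u = u := fun u => by
      have := congrArg (fun x : isoGrp e8 => ConwayFive.fs (x.1 (ConwayFive.glue u 0))) h'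
      simpa [ConwayFive.j1_apply, ConwayFive.j2_apply, ConwayFive.fs_glue, ConwayFive.sn_glue] using this
    have hb : ∀ u, b.1.1 u = u := fun u => by
      have := congrArg (fun x : isoGrp e8 => ConwayFive.sn (x.1 (ConwayFive.glue 0 u))) h'
      simpa [ConwayFive.j1_apply, ConwayFive.j2_apply, ConwayFive.fs_glue, ConwayFive.sn_glue] using this
    exact Prod.ext (Subtype.ext (Subtype.ext (LinearEquiv.ext ha)))
      (Subtype.ext (Subtype.ext (LinearEquiv.ext hb)))
  have hle : f.range ≤ d.ker := by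
    rintro _ ⟨⟨⟨a, ha⟩, ⟨b, hb⟩⟩, rfl⟩
    obtain ⟨i, rfl⟩ := Subgroup.mem_zpowers_iff.mp ha
    obtain ⟨k, rfl⟩ := Subgroup.mem_zpowers_iff.mp hb
    rw [MonoidHom.mem_ker]
    show d (ConwayFive.j1 (ConwayFive.five4 ^ i) * ConwayFive.j2 (ConwayFive.five4 ^ k)) = 1
    rw [map_mul, map_zpow, map_zpow, map_zpow, map_zpow, hd1, hd1, one_zpow, one_zpow, one_mul]
  have h := Subgroup.card_dvd_of_le hle
  rw [Nat.card_congr (MonoidHom.ofInjective hf).symm.toEquiv, Nat.card_prod, Nat.card_zpowers, five] at h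
  exact h

variable {G : Type*} [Group G] [Finite G]

theorem exists_co (z : G) (hz : orderOf z = 2) (Q : Subgroup (Subgroup.centralizer ({z} : Set G))) [Q.Normal]
    (hF : Cfsg.generalizedFittingSubgroup (Subgroup.centralizer ({z} : Set G)) = Q)
    (hQ : Cfsg.IsExtraspecial 2 Q) (hcard : Nat.card Q = 2 ^ 9)
    (e : (Subgroup.centralizer ({z} : Set G)) ⧸ Q ≃* Cfsg.Omega (ZMod 2) (Cfsg.quadFormPlus 4 (ZMod 2)))
    (hnwc : ∃ g : G, (∃ hq : g * z * g⁻¹ ∈ Subgroup.centralizer ({z} : Set G),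
      (⟨g * z * g⁻¹, hq⟩ : Subgroup.centralizer ({z} : Set G)) ∈ Q) ∧ g * z * g⁻¹ ≠ z) :
    ∃ v : G → V8, Co z (Q.map (Subgroup.centralizer ({z} : Set G)).subtype) v := by
  classical
  haveI : Fact (Nat.Prime 2) := ⟨Nat.prime_two⟩
  set R := Q.map (Subgroup.centralizer ({z} : Set G)).subtype with hRdef
  let E : ↥Q ≃* ↥R := Q.equivMapOfInjective (Subgroup.centralizer ({z} : Set G)).subtype (Subgroup.centralizer ({z} : Set G)).subtype_injective
  have hst : Setting R z :=
    Setting.of_fStar hz R (by rw [hF]) (isExtraspecial_congr E hQ)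
  have hmem : ∀ {x : G}, x ∈ R ↔ ∃ hx : x ∈ (Subgroup.centralizer ({z} : Set G)), (⟨x, hx⟩ : ↥(Subgroup.centralizer ({z} : Set G))) ∈ Q := by
    intro x
    constructor
    · rintro ⟨y, hy, rfl⟩; exact ⟨y.2, hy⟩
    · rintro ⟨hx, h⟩; exact ⟨⟨x, hx⟩, h, rfl⟩
  have hcent : ∀ c : ↥(Subgroup.centralizer ({z} : Set G)), (∀ x ∈ Q, c * x = x * c) → c ∈ Q := by
    intro c hc
    have h1 : (c : G) ∈ Subgroup.centralizer (R : Set G) := by
      rw [Subgroup.mem_centralizer_iff]
      rintro _ ⟨x, hx, rfl⟩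
      exact congrArg Subtype.val (hc x hx).symm
    rw [hst.cQ] at h1
    obtain ⟨hx, hxQ⟩ := hmem.mp (Subgroup.zpowers_le.mpr hst.z_mem h1)
    exact hxQ
  obtain ⟨d, hd⟩ := ConwayFive.exists_iso8
  obtain ⟨d', hd', hrefl⟩ := exists_parity
  have h25 : 25 ∣ Nat.card d.ker := h25_ker hd
  have hnA : ∃ A : Subgroup ↥Q, Cfsg.IsElementaryAbelian 2 A ∧ Nat.card ↥A = 2 ^ (4 + 1) := by
    by_contra h
    obtain ⟨ψ⟩ := equiv_model ConwayFive.m8 hQ (by norm_num) hcard false (iff_of_false Bool.false_ne_true h)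
      (by rw [ConwayFive.m8, prod_last]; simp)
    have h1 := Subgroup.card_subgroup_dvd_card (SuzType.actHom Q ψ).range
    rw [SuzType.actHom_card Q ψ hcent, Nat.card_congr e.toEquiv, ← hd.card, ConwayFive.card_iso_m8] at h1
    have := h25.trans h1
    revert this; decide
  obtain ⟨ψ⟩ := equiv_model ConwayFive.e8 hQ (by norm_num) hcard true (iff_of_true rfl hnA)
    (by simp [Fin.prod_univ_four])
  let π := SuzType.actHom Q ψ
  have hπcard : Nat.card π.range = Nat.card d.ker := by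
    rw [SuzType.actHom_card Q ψ hcent, hd.card]
    exact Nat.card_congr e.toEquiv
  have hπi : π.range.index = 2 := by
    have h1 := π.range.card_mul_index
    rw [hπcard, ← d.ker.card_mul_index, hd.index] at h1
    exact Nat.eq_of_mul_eq_mul_left Nat.card_pos h1
  have two : ∀ R : Subgroup (isoGrp ConwayFive.e8), R.index = 2 → R = d.ker := by
    intro R hR
    have hle : d.ker ≤ R := hd.comm_le.trans (by
      rw [commutator_def, Subgroup.commutator_le]
      intro a _ b _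
      rw [commutatorElement_def, Subgroup.mul_mem_iff_of_index_two hR, Subgroup.mul_mem_iff_of_index_two hR,
        Subgroup.mul_mem_iff_of_index_two hR, inv_mem_iff, inv_mem_iff]
      tauto)
    refine (le_antisymm hle ?_).symm
    have h2 := Subgroup.relIndex_mul_index hle
    rw [hd.index, hR] at h2
    exact Subgroup.relIndex_eq_one.1 (by omega)
  have hd'i : d'.ker.index = 2 := by
    obtain ⟨a, ha⟩ : ∃ a, qf a = true := ⟨f0 true, (std_spec true).2.2.2.2.2.2.1⟩
    obtain ⟨r, hr, -⟩ := hrefl a ha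
    have hsurj : Function.Surjective d' := fun w => by
      rcases Int.units_eq_one_or w with rfl | rfl
      · exact ⟨1, map_one _⟩
      · exact ⟨r, hr⟩
    rw [Subgroup.index_ker, MonoidHom.range_eq_top.2 hsurj, Subgroup.card_top, Nat.card_eq_fintype_card]
    rfl
  have hmemR : ∀ φ : isoGrp ConwayFive.e8, φ ∈ π.range ↔ Good φ.1 := fun φ => by
    rw [two _ hπi, ← two _ hd'i, MonoidHom.mem_ker, hd']
  let v : G → V8 := fun x => if h : x ∈ R then (ψ (E.symm ⟨x, h⟩)).v else 0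
  have hv : ∀ {x : G} (h : x ∈ R), v x = (ψ (E.symm ⟨x, h⟩)).v := fun h => dif_pos h
  have hE : ∀ q : Q, ((E q : R) : G) = ((q : ↥(Subgroup.centralizer ({z} : Set G))) : G) := fun q => rfl
  have hvE : ∀ q : Q, v ((q : ↥(Subgroup.centralizer ({z} : Set G))) : G) = (ψ q).v := fun q => by
    have := hv (E q).2
    rwa [Subtype.coe_eta, E.symm_apply_apply, hE] at this
  have hex : ∀ {x : G}, x ∈ R → ∃ q : Q, ((q : ↥(Subgroup.centralizer ({z} : Set G))) : G) = x := fun {x} hx => by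
    obtain ⟨hxC, h⟩ := hmem.mp hx
    exact ⟨⟨⟨x, hxC⟩, h⟩, rfl⟩
  have hR : ∀ q : Q, ((q : ↥(Subgroup.centralizer ({z} : Set G))) : G) ∈ R := fun q => hmem.mpr ⟨q.1.2, q.2⟩
  have hact : ∀ (c : ↥(Subgroup.centralizer ({z} : Set G))) (q : Q), v ((c : G) * ((q : ↥(Subgroup.centralizer ({z} : Set G))) : G) * (c : G)⁻¹) =
      app (π c).1 (v ((q : ↥(Subgroup.centralizer ({z} : Set G))) : G)) := by
    intro c q
    rw [app, hvE,
      show (c : G) * ((q : ↥(Subgroup.centralizer ({z} : Set G))) : G) * (c : G)⁻¹ =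
        (((⟨c * q * c⁻¹, Subgroup.Normal.conj_mem inferInstance _ q.2 c⟩ : Q) : ↥(Subgroup.centralizer ({z} : Set G))) : G) from rfl,
      hvE, SuzType.actHom_apply]
  have hC : ∀ {c : G}, c * z = z * c → c ∈ (Subgroup.centralizer ({z} : Set G)) := fun h => Subgroup.mem_centralizer_singleton_iff.mpr h
  refine ⟨v, hst, ?_, ?_, ?_, ?_, ?_, ?_, ?_, ?_, ?_, ?_⟩
  · rw [← Nat.card_congr E.toEquiv, hcard]; norm_num
  · intro a ha b hb
    obtain ⟨p, rfl⟩ := hex ha
    obtain ⟨q, rfl⟩ := hex hb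
    rw [show ((p : ↥(Subgroup.centralizer ({z} : Set G))) : G) * ((q : ↥(Subgroup.centralizer ({z} : Set G))) : G) = (((p * q : Q) : ↥(Subgroup.centralizer ({z} : Set G))) : G) from rfl, hvE, hvE, hvE, map_mul,
      Model.mul_v]
    rfl
  · intro a ha
    obtain ⟨p, rfl⟩ := hex ha
    rw [hvE]
    constructor
    · intro h
      have h1 : (ψ p).v = 0 := h
      rw [← Model.mem_center_iff] at h1
      refine hst.eq_of_forall (hR p) fun q hq => ?_
      obtain ⟨r, rfl⟩ := hex hq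
      have := Subgroup.mem_center_iff.mp h1 (ψ r)
      rw [← map_mul, ← map_mul] at this
      exact congrArg (fun w : Q => ((w : ↥(Subgroup.centralizer ({z} : Set G))) : G)) (ψ.injective this)
    · intro h
      have h1 : ψ p ∈ Subgroup.center (Model ConwayFive.e8) := by
        rw [Subgroup.mem_center_iff]
        intro m
        obtain ⟨r, rfl⟩ := ψ.surjective m
        rw [← map_mul, ← map_mul]
        congr 1
        refine Subtype.ext (Subtype.ext ?_)
        show ((r : ↥(Subgroup.centralizer ({z} : Set G))) : G) * ((p : ↥(Subgroup.centralizer ({z} : Set G))) : G) = ((p : ↥(Subgroup.centralizer ({z} : Set G))) : G) * ((r : ↥(Subgroup.centralizer ({z} : Set G))) : G)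
        rcases h with h | h <;> rw [h]
        · rw [mul_one, one_mul]
        · exact hst.z_comm (hR r)
      exact (Model.mem_center_iff _).mp h1
  · intro a ha
    obtain ⟨p, rfl⟩ := hex ha
    have h1 : qf ((ψ p).v) = false ↔ sqForm ConwayFive.e8 (ψ p).v = 0 := qf_false
    rw [hvE, h1, show (((p : ↥(Subgroup.centralizer ({z} : Set G))) : G) * ((p : ↥(Subgroup.centralizer ({z} : Set G))) : G) = 1 ↔ p * p = 1) from
        ⟨fun h => Subtype.ext (Subtype.ext h), fun h => congrArg (fun w : Q => ((w : ↥(Subgroup.centralizer ({z} : Set G))) : G)) h⟩,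
      ← map_eq_one_iff ψ ψ.injective, map_mul, ← pow_two, Model.sq_mem]
    exact ⟨fun h => Model.ext rfl h, fun h => congrArg Model.a h⟩
  · intro a ha b hb
    obtain ⟨p, rfl⟩ := hex ha
    obtain ⟨q, rfl⟩ := hex hb
    rw [hvE, hvE, bf_false, ConwayFive.pol, add_eq_zero_iff_eq_two, ← Model.comm_iff, ← map_mul, ← map_mul, ψ.injective.eq_iff]
    exact ⟨fun h => congrArg (fun w : Q => ((w : ↥(Subgroup.centralizer ({z} : Set G))) : G)) h, fun h => Subtype.ext (Subtype.ext h)⟩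
  · intro w
    obtain ⟨p, hp⟩ := ψ.surjective ⟨w, 0⟩
    exact ⟨_, hR p, by rw [hvE, hp]⟩
  · intro L hL
    obtain ⟨c, hc⟩ := (hmemR ⟨L, hL.1⟩).mpr hL
    refine ⟨c, Subgroup.mem_centralizer_singleton_iff.mp c.2, fun a ha => ?_⟩
    obtain ⟨q, rfl⟩ := hex ha
    rw [hact, hc]
  · intro c hc
    refine ⟨(π ⟨c, hC hc⟩).1, (hmemR _).mp ⟨_, rfl⟩, fun a ha => ?_⟩
    obtain ⟨q, rfl⟩ := hex ha
    exact hact ⟨c, hC hc⟩ q
  · intro c hc h
    have h1 : (⟨c, hC hc⟩ : ↥(Subgroup.centralizer ({z} : Set G))) ∈ (SuzType.actHom Q ψ).ker := by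
      refine Subtype.ext (LinearEquiv.ext fun w => ?_)
      obtain ⟨q, hq⟩ := ψ.surjective ⟨w, 0⟩
      show (π ⟨c, hC hc⟩).1 w = w
      have h2 := (hact ⟨c, hC hc⟩ q).symm.trans (h _ (hR q))
      rw [app, hvE] at h2
      rwa [show (ψ q).v = w by rw [hq]] at h2
    rw [SuzType.actHom_ker Q ψ hcent] at h1
    exact hmem.mpr ⟨_, h1⟩
  · obtain ⟨g, ⟨hq, hqQ⟩, hne⟩ := hnwc
    exact ⟨g, hmem.mpr ⟨hq, hqQ⟩, hne⟩

end CfsgLib.CoOneType
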