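import Cfsg.Agent.Lib.CoOneType.Reduce
import Cfsg.Agent.Lib.J2Type.Hyp

/-!
Every involution is central, or of one of the two kinds; each kind is a single orbit.
-/

set_option autoImplicit false

namespace CfsgLib.CoOneType

open CfsgLib.Extraspecial CfsgLib.Extraspecial.Pair

theorem Cfg.map {k : Bool} {s a b : V8} (C : Cfg k s a b) {L : Lin} (hL : Good L) :
    Cfg k (L s) (L a) (L b) :=
  ⟨(map_ne_zero_iff L L.injective).mpr C.s0, (iso_qf hL.1 _).trans C.qs, (iso_qf hL.1 _).trans C.qa,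
    (iso_qf hL.1 _).trans C.qb, (iso_bf hL.1 _ _).trans C.sa, (iso_bf hL.1 _ _).trans C.sb,
    (iso_bf hL.1 _ _).trans C.ab, (map_ne_zero_iff L L.injective).mpr C.a0, L.injective.ne C.as',
    (map_ne_zero_iff L L.injective).mpr C.b0, L.injective.ne C.bs, L.injective.ne C.ba,
    fun e => C.bas (L.injective (e.trans (map_add L s a).symm))⟩

theorem exists_cfg (k : Bool) {s : V8} (hs : s ≠ 0) (hqs : qf s = false) : ∃ a b, Cfg k s a b := by
  have h : ∀ k : Bool, CoOneType.s0 ≠ 0 ∧ CoOneType.a0 k ≠ 0 ∧ CoOneType.a0 k ≠ CoOneType.s0 ∧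
      CoOneType.b0 k ≠ 0 ∧ CoOneType.b0 k ≠ CoOneType.s0 ∧ CoOneType.b0 k ≠ CoOneType.a0 k ∧
      CoOneType.b0 k ≠ CoOneType.s0 + CoOneType.a0 k := by decide +kernel
  obtain ⟨n1, n2, n3, n4, n5, n6, n7⟩ := h k
  obtain ⟨q1, q2, q3, q4, q5, q6, -⟩ := std_spec k
  obtain ⟨L, hL, rfl⟩ := move_singular n1 q1 hs hqs
  exact ⟨_, _, (Cfg.mk n1 q1 q2 q3 q4 q5 q6 n2 n3 n4 n5 n6 n7).map hL⟩

variable {G : Type*} [Group G] [Finite G]

namespace Fr

variable {z : G} {Q : Subgroup G} {v : G → V8} {g u : G} (F : Fr z Q v g u)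
include F

local notation "z'" => g * z * g⁻¹
local notation "Q'" => Subgroup.map (MulEquiv.toMonoidHom (MulAut.conj g)) Q
local notation "sv" => v (g * z * g⁻¹)

/-- The components of a product in the radical are determined modulo the four-group. -/
theorem components {x y x' y' : G} (hx : x ∈ P Q z g) (hy : y ∈ P' Q z g) (hx' : x' ∈ P Q z g)
    (hy' : y' ∈ P' Q z g) (h : x' * y' = x * y) :
    Eqm sv (v x') (v x) ∧ Eqm sv (v (al u y')) (v (al u y)) := by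
  have e : x⁻¹ * x' = y * y'⁻¹ := by
    calc x⁻¹ * x' = x⁻¹ * (x' * y') * y'⁻¹ := by group
      _ = _ := by rw [h]; group
  have hQ := mul_mem (inv_mem (F.mem_P.mp hx).1) (F.mem_P.mp hx').1
  have hV : x⁻¹ * x' ∈ V z g :=
    F.meet hQ (e ▸ mul_mem (F.mem_P'.mp hy).1 (inv_mem (F.mem_P'.mp hy').1))
  constructor
  · have h2 := Eqm.xr (Eqm.refl sv (v x)) (F.v_mem_V hV)
    rw [← F.co.mul _ (F.mem_P.mp hx).1 _ hQ, mul_inv_cancel_left, xr_zero] at h2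
    exact h2
  · have hV' : y * y'⁻¹ ∈ V z g := e ▸ hV
    have h2 := F.v_al_mul (F.V_le_P' hV') hy'
    rw [inv_mul_cancel_right] at h2
    have h4 := h2.trans (Eqm.xr (F.al_V hV') (Eqm.refl _ _))
    rw [zero_xr] at h4
    exact h4.symm

theorem kd_of_cfg {k : Bool} {x y : G} (hx : x ∈ P Q z g) (hy : y ∈ P' Q z g)
    (C : Cfg k sv (v x) (v (al u y))) : Kd k z Q v g u (x * y) := by
  refine ⟨x, hx, y, hy, rfl, ?_, C⟩
  rw [F.sq_mul hx hy, C.ab]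
  have hxQ := (F.mem_P.mp hx).1
  cases k
  · rw [(F.co.sq x hxQ).mp C.qa, (F.sq_rel hy).1.mpr C.qb]; simp
  · have hxx : x * x = z := (F.pr.s.sq_cases hxQ).resolve_left fun e => by
      have := F.co.singular hxQ e
      rw [C.qa] at this
      exact absurd this (by simp)
    rw [hxx, (F.sq_rel hy).2 C.qb, cond_true, mul_assoc (z * z')]
    exact F.V_sq F.zz'_mem

theorem exists_kd (k : Bool) : ∃ t, Kd k z Q v g u t := by
  obtain ⟨a, b, C⟩ := exists_cfg k F.sv_ne F.sv_qf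
  obtain ⟨x, hx, hxv⟩ := F.co.surj a
  obtain ⟨y, hy, hyv⟩ := F.al_surj (w := b) ((bf_comm _ _).trans C.sb)
  exact ⟨x * y, F.kd_of_cfg (F.mem_P_of hx (hxv ▸ (bf_comm _ _).trans C.sa)) hy
    (C.shift (Or.inl hxv) hyv.symm)⟩

theorem kd_ne_one {k : Bool} {t : G} (h : Kd k z Q v g u t) : t ≠ 1 := fun e =>
  F.kd_not_mem h (e ▸ one_mem Q)

theorem kd_sq {k : Bool} {t : G} (h : Kd k z Q v g u t) : t * t = 1 := by
  obtain ⟨_, _, _, _, _, e, _⟩ := h; exact e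

/-- An element of the centraliser fixing the pair, realising a linear map fixing the point. -/
theorem exists_fix {L : Lin} (hL : Good L) (hLs : app L sv = sv) :
    ∃ f, f * z = z * f ∧ f * z' * f⁻¹ = z' ∧ Act Q v f L := by
  obtain ⟨d, hd, hdv⟩ := F.co.real L hL
  have hds : v (d * z' * d⁻¹) = sv := (hdv _ F.pr.mem).trans hLs
  rcases F.co.eq_or (F.co.conj_mem hd F.pr.mem) F.pr.mem hds with h | h
  · exact ⟨d, hd, h, hdv⟩
  refine ⟨u * d, (show Commute u z from F.co.commute_z F.uQ).mul_left (show Commute d z from hd), ?_, ?_⟩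
  · rw [show u * d * z' * (u * d)⁻¹ = u * (d * z' * d⁻¹) * u⁻¹ by group, h,
      show u * (z * z') * u⁻¹ = (u * z * u⁻¹) * (u * z' * u⁻¹) by group, F.us,
      F.co.commute_z F.uQ, mul_inv_cancel_right, ← mul_assoc, F.pr.s.zz, one_mul]
  · intro a ha
    rw [show u * d * a * (u * d)⁻¹ = u * (d * a * d⁻¹) * u⁻¹ by group,
      F.co.v_inner F.uQ (F.co.conj_mem hd ha), hdv a ha]

end Fr

namespace Co

variable {z : G} {Q : Subgroup G} {v : G → V8} (H : Co z Q v)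
include H

/-- Conjugation in the centraliser preserves the kinds. -/
theorem kd_conj {k : Bool} {g u g₂ u₂ c t : G} (F : Fr z Q v g u) (F₂ : Fr z Q v g₂ u₂)
    (hc : c * z = z * c) (hcs : c * (g * z * g⁻¹) * c⁻¹ = g₂ * z * g₂⁻¹) (h : Kd k z Q v g u t) :
    Kd k z Q v g₂ u₂ (c * t * c⁻¹) := by
  obtain ⟨x, hx, y, hy, rfl, hsq, C⟩ := h
  obtain ⟨hxQ, hxs⟩ := F.mem_P.mp hx
  obtain ⟨L, hL, hLv⟩ := H.par c hc
  obtain ⟨hy', htr⟩ := F.transport F₂ hc hcs hy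
  have hx' : c * x * c⁻¹ ∈ P Q z g₂ := F₂.mem_P.mpr ⟨H.conj_mem hc hxQ, by
    rw [← hcs]
    exact (show Commute x (g * z * g⁻¹) from hxs).map (MulAut.conj c)⟩
  refine ⟨_, hx', _, hy', by group, ?_, ?_⟩
  · rw [show c * (x * y) * c⁻¹ * (c * (x * y) * c⁻¹) = c * (x * y * (x * y)) * c⁻¹ by group, hsq,
      mul_one, mul_inv_cancel]
  have e : L (v (g * z * g⁻¹)) = v (g₂ * z * g₂⁻¹) := by rw [← hcs]; exact (hLv _ F.pr.mem).symm
  have C' := C.map hL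
  rw [e] at C'
  exact C'.shift (Or.inl (hLv x hxQ)) (htr L hLv)

/-- One orbit of each kind on a pair, under the centraliser of the pair. -/
theorem kd_orbit {k : Bool} {g u t t₂ : G} (F : Fr z Q v g u) (h : Kd k z Q v g u t)
    (h₂ : Kd k z Q v g u t₂) :
    ∃ c, c * z = z * c ∧ c * (g * z * g⁻¹) = g * z * g⁻¹ * c ∧ c * t * c⁻¹ = t₂ := by
  obtain ⟨x, hx, y, hy, rfl, -, C⟩ := h
  obtain ⟨x₂, hx₂, y₂, hy₂, ht₂, -, C₂⟩ := id h₂
  subst ht₂
  obtain ⟨L, hL, e1, e2, e3⟩ := C.move C₂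
  obtain ⟨f, hf, hfs, hfv⟩ := F.exists_fix hL e1
  obtain ⟨hy', htr⟩ := F.transport F hf hfs hy
  have hx' : f * x * f⁻¹ ∈ P Q z g := F.mem_P.mpr ⟨H.conj_mem hf (F.mem_P.mp hx).1, by
    have := (show Commute x (g * z * g⁻¹) from (F.mem_P.mp hx).2).map (MulAut.conj f)
    rw [MulAut.conj_apply, MulAut.conj_apply, hfs] at this
    exact this⟩
  have ex : v (f * x * f⁻¹) = v x₂ := (hfv x (F.mem_P.mp hx).1).trans e2
  have ey : Eqm (v (g * z * g⁻¹)) (v (al u (f * y * f⁻¹))) (v (al u y₂)) := (htr L hfv).trans (Or.inl e3)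
  have hεx : f * x * f⁻¹ * x₂⁻¹ ∈ V z g :=
    F.mem_V_of (mul_mem (F.mem_P.mp hx').1 (inv_mem (F.mem_P.mp hx₂).1)) (by
      rw [H.mul _ (F.mem_P.mp hx').1 _ (inv_mem (F.mem_P.mp hx₂).1), H.v_inv (F.mem_P.mp hx₂).1, ex,
        xr_self]
      exact Eqm.refl _ _)
  have hεy : y₂⁻¹ * (f * y * f⁻¹) ∈ V z g := F.al_cancel hy₂ hy' ey.symm
  set ε := f * x * f⁻¹ * x₂⁻¹ * (y₂⁻¹ * (f * y * f⁻¹)) with hε
  have hc1 : Commute (y₂⁻¹ * (f * y * f⁻¹)) (x₂ * y₂) :=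
    (F.V_central hεy (Or.inl hx₂)).mul_right (F.V_central hεy (Or.inr hy₂))
  have hft : f * (x * y) * f⁻¹ = ε * (x₂ * y₂) := by
    rw [hε, mul_assoc (f * x * f⁻¹ * x₂⁻¹), hc1.eq]; group
  obtain ⟨p, hpP, hp⟩ := F.translate h₂ (mul_mem hεx hεy)
  obtain ⟨hpQ, hps⟩ := F.mem_P.mp hpP
  refine ⟨p⁻¹ * f, (show Commute p⁻¹ z from (show Commute p z from H.commute_z hpQ).inv_left).mul_left hf,
    (show Commute p⁻¹ _ from (show Commute p _ from hps).inv_left).mul_left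
      (show Commute f _ from mul_inv_eq_iff_eq_mul.mp hfs), ?_⟩
  rw [show p⁻¹ * f * (x * y) * (p⁻¹ * f)⁻¹ = p⁻¹ * (f * (x * y) * f⁻¹) * p by group, hft, ← hp]
  group

theorem kd_same {k : Bool} {g u t t₂ : G} (F : Fr z Q v g u) (h : Kd k z Q v g u t)
    (h₂ : Kd k z Q v g u t₂) : IsConj t t₂ := by
  obtain ⟨c, -, -, h⟩ := H.kd_orbit F h h₂
  exact isConj_iff.mpr ⟨c, h⟩

/-- Each kind is one class. -/
theorem kd_isConj {k : Bool} {g u g₂ u₂ t t₂ : G} (F : Fr z Q v g u) (F₂ : Fr z Q v g₂ u₂)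
    (h : Kd k z Q v g u t) (h₂ : Kd k z Q v g₂ u₂ t₂) : IsConj t t₂ := by
  obtain ⟨c, hc, hcs⟩ := H.trans F.pr.mem F.pr.s'.zz F.pr.ne_one' F.pr.ne F₂.pr.mem F₂.pr.s'.zz
    F₂.pr.ne_one' F₂.pr.ne
  exact (isConj_iff.mpr ⟨c, rfl⟩ : IsConj t (c * t * c⁻¹)).trans
    (H.kd_same F₂ (H.kd_conj F F₂ hc hcs h) h₂)

/-- An involution with small displacement is of the first kind or of one of the two others. -/
theorem invol_cases {t : G} {L : Lin} (ht : t * t = 1) (htz : t * z = z * t) (htQ : t ∉ Q)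
    (hL : Good L) (hA : Act Q v t L) (hsm : Small L) :
    (∃ g, Pair Q z g ∧ t ∈ Subgroup.map (MulEquiv.toMonoidHom (MulAut.conj g)) Q) ∨
      ∃ k g u, Fr z Q v g u ∧ Kd k z Q v g u t := by
  have I : Inv L := H.inv_act htz hL hA (ht ▸ one_mem Q)
  have hne : ∃ w, L w ≠ w := by
    by_contra! hc
    exact htQ (H.ker t htz fun a ha => (hA a ha).trans (hc _))
  obtain ⟨s, x0, hx0, hs0, hqs, hperp⟩ := I.small_vector hne hsm
  obtain ⟨e, heQ, hev⟩ := H.surj s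
  have he2 : e * e = 1 := (H.sq e heQ).mp (hev ▸ hqs)
  have he1 : e ≠ 1 := fun h => hs0 (by rw [← hev, h, H.v_one])
  have hez : e ≠ z := fun h => hs0 (by rw [← hev, h, H.v_z])
  obtain ⟨g, hg, hpair⟩ := H.exists_pair heQ he2 he1 hez
  obtain ⟨u, F⟩ := H.exists_fr hpair
  have hsv : v (g * z * g⁻¹) = s := by rw [hg, hev]
  have hts : t * (g * z * g⁻¹) = g * z * g⁻¹ * t :=
    hg.symm ▸ H.fixed_lift ht htz hA heQ (w := x0) (hev.trans (hx0.symm.trans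
      ((del_xr L x0).trans (xr_comm _ _)))) (hev ▸ hqs)
  obtain ⟨x, hx, y, hy, hxy⟩ := F.mem_radical htz hts (fun p hp => by
    rw [hsv, hA p (F.mem_P.mp hp).1]
    rcases hperp (v p) (hsv ▸ F.P_perp hp) with h | h
    · exact Or.inl (del_eq_zero.mp h)
    · exact Or.inr ((app_eq_add_del L _).trans (by rw [h]; rfl)))
  have hxQ := (F.mem_P.mp hx).1
  have hal := F.al_mem hy
  by_cases hxV : Eqm (v (g * z * g⁻¹)) (v x) 0
  · exact Or.inl ⟨g, hpair, hxy ▸ mul_mem (F.V_le_Q' (F.mem_V_of hxQ hxV)) (F.mem_P'.mp hy).1⟩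
  have hyV : ¬ Eqm (v (g * z * g⁻¹)) (v (al u y)) 0 := fun h =>
    htQ (hxy ▸ mul_mem hxQ (F.pr.V_le (F.al_inj hy h)))
  by_cases heq : Eqm (v (g * z * g⁻¹)) (v x) (v (al u y))
  swap
  · exact Or.inr ⟨_, g, u, F, hxy ▸ F.kd_mk hx hy (hxy ▸ ht) hxV hyV heq⟩
  left
  have hε : x * (al u y)⁻¹ ∈ V z g := F.mem_V_of (mul_mem hxQ (inv_mem (F.mem_P.mp hal).1)) (by
    rw [H.mul x hxQ _ (inv_mem (F.mem_P.mp hal).1), H.v_inv (F.mem_P.mp hal).1]
    have := Eqm.xr heq (Eqm.refl (v (g * z * g⁻¹)) (v (al u y)))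
    rwa [xr_self] at this)
  have e1 : u * (g * z * g⁻¹) * u⁻¹ = (u * g) * z * (u * g)⁻¹ := by group
  refine ⟨u * g, ⟨H.st, ?_, ?_, hpair.big⟩, ?_⟩
  · rw [← e1, F.us]; exact mul_mem H.z_mem hpair.mem
  · rw [← e1, F.us]; exact hpair.mul_ne_left
  · have hN : u⁻¹ * (x * (al u y)⁻¹) * u ∈ V z g := by
      have := (Subgroup.mem_normalizer_iff.mp (F.pr.Q_le_normalizer (inv_mem F.uQ)) _).mp hε
      rwa [inv_inv] at this
    obtain ⟨w, hw', hwe⟩ := mul_mem (F.V_le_Q' hN) (F.mem_P'.mp hy).1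
    refine ⟨w, hw', ?_⟩
    change u * g * w * (u * g)⁻¹ = t
    change g * w * g⁻¹ = u⁻¹ * (x * (al u y)⁻¹) * u * y at hwe
    rw [show u * g * w * (u * g)⁻¹ = u * (g * w * g⁻¹) * u⁻¹ by group, hwe, hxy, al]
    group

theorem cov {x : G} (hx : orderOf x = 2) : ∃ c : G, c * x * c⁻¹ * z = z * (c * x * c⁻¹) := by
  haveI : Fact (Nat.Prime 2) := ⟨Nat.prime_two⟩
  set C := Subgroup.centralizer ({z} : Set G) with hC
  have hQC : Q ≤ C := H.st.le_centralizer_z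
  haveI hN : (Q.subgroupOf C).Normal := ⟨fun q hq c => by
    rw [Subgroup.mem_subgroupOf] at hq ⊢
    exact H.conj_mem (Subgroup.mem_centralizer_singleton_iff.mp c.2) hq⟩
  have hQp : IsPGroup 2 (Q.subgroupOf C) :=
    IsPGroup.of_card (n := 9) (by rw [Nat.card_congr (Subgroup.subgroupOfEquivOfLe hQC).toEquiv, H.card]; norm_num)
  obtain ⟨T, hT⟩ := hQp.exists_le_sylow
  obtain ⟨c, hc⟩ := CfsgLib.J2Type.sylow_cov (C := C) (z := z)
    (fun g => Subgroup.mem_centralizer_singleton_iff) H.st.ne_one H.st.zz T (fun c _ hcd => by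
      have hcent : (c : G) ∈ Subgroup.centralizer (Q : Set G) := by
        rw [Subgroup.mem_centralizer_iff]
        intro q hq
        exact congrArg Subtype.val (hcd ⟨q, hQC hq⟩ (hT (Subgroup.mem_subgroupOf.mpr hq)))
      rw [H.st.cQ] at hcent
      exact H.st.mem_zpowers hcent) hx
  exact ⟨c, Subgroup.mem_centralizer_singleton_iff.mp hc⟩

/-- Every involution is conjugate to the centre, or is of one of the two kinds. -/
theorem classes {x : G} (hx : orderOf x = 2) :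
    IsConj x z ∨ ∃ k g u t, Fr z Q v g u ∧ Kd k z Q v g u t ∧ IsConj x t := by
  obtain ⟨c, hc⟩ := H.cov hx
  have hx2 : x * x = 1 := by rw [← pow_two, ← hx, pow_orderOf_eq_one]
  have hy2 : c * x * c⁻¹ * (c * x * c⁻¹) = 1 := by
    rw [show c * x * c⁻¹ * (c * x * c⁻¹) = c * (x * x) * c⁻¹ by group, hx2, mul_one, mul_inv_cancel]
  obtain ⟨t, L, hyt, htz, hL, hA, hsm⟩ := H.reduce hy2 hc
  have hxt : IsConj x t := (isConj_iff.mpr ⟨c, rfl⟩ : IsConj x (c * x * c⁻¹)).trans hyt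
  obtain ⟨d, hd⟩ := isConj_iff.mp hxt
  have ht2 : t * t = 1 := by
    rw [← hd, show d * x * d⁻¹ * (d * x * d⁻¹) = d * (x * x) * d⁻¹ by group, hx2, mul_one, mul_inv_cancel]
  have ht1 : t ≠ 1 := fun e => by
    rw [← hd, conj_eq_one_iff] at e; rw [e, orderOf_one] at hx; omega
  by_cases htQ : t ∈ Q
  · by_cases htz' : t = z
    · exact Or.inl (htz' ▸ hxt)
    · exact Or.inl (hxt.trans (H.isConj_z htQ ht2 ht1 htz'))
  rcases H.invol_cases ht2 htz htQ hL hA hsm with ⟨g, c', hm⟩ | ⟨k, g, u, F, h⟩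
  · exact Or.inl (hxt.trans (H.first_kind_conj ht2 ht1 htQ c' hm))
  · exact Or.inr ⟨k, g, u, t, F, h, hxt⟩

end Co

end CfsgLib.CoOneType
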