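import Cfsg.Agent.Lib.CoOneType.Frame

/-!
Commutators between the two halves of the radical of a pair.
-/

set_option autoImplicit false

namespace CfsgLib.CoOneType

open CfsgLib.Extraspecial CfsgLib.Extraspecial.Pair

variable {G : Type*} [Group G] [Finite G]

theorem comm_mul_mul {a b c d : G}
    (h1 : ∀ w ∈ [a, b, c, d], Commute (a * d * a⁻¹ * d⁻¹) w)
    (h2 : ∀ w ∈ [a, b, c, d], Commute (b * c * b⁻¹ * c⁻¹) w)
    (h3 : ∀ w ∈ [a, b, c, d], Commute (b * d * b⁻¹ * d⁻¹) w) :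
    a * b * (c * d) * (a * b)⁻¹ * (c * d)⁻¹ =
      (a * c * a⁻¹ * c⁻¹) * (a * d * a⁻¹ * d⁻¹) * (b * c * b⁻¹ * c⁻¹) * (b * d * b⁻¹ * d⁻¹) := by
  set K1 := a * d * a⁻¹ * d⁻¹ with hK1
  set K2 := b * c * b⁻¹ * c⁻¹ with hK2
  set K3 := b * d * b⁻¹ * d⁻¹ with hK3
  have e1 : b * (c * d) * b⁻¹ = K2 * K3 * (c * d) := by
    calc b * (c * d) * b⁻¹ = (b * c * b⁻¹) * (b * d * b⁻¹) := by group
      _ = K2 * c * (K3 * d) := by rw [hK2, hK3]; group
      _ = K2 * (c * K3) * d := by group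
      _ = K2 * (K3 * c) * d := by rw [(h3 c (by simp)).eq]
      _ = _ := by group
  have e2 : a * (c * d) * a⁻¹ = (a * c * a⁻¹ * c⁻¹) * K1 * (c * d) := by
    calc a * (c * d) * a⁻¹ = (a * c * a⁻¹ * c⁻¹) * (c * (K1 * d)) := by rw [hK1]; group
      _ = (a * c * a⁻¹ * c⁻¹) * (K1 * c * d) := by rw [← mul_assoc c, ← (h1 c (by simp)).eq]
      _ = _ := by group
  have hK : Commute (K2 * K3) a := (h2 a (by simp)).mul_left (h3 a (by simp))
  have hA : Commute (K2 * K3) (a * c * a⁻¹ * c⁻¹) :=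
    ((hK.mul_right ((h2 c (by simp)).mul_left (h3 c (by simp)))).mul_right hK.inv_right).mul_right
      ((h2 c (by simp)).mul_left (h3 c (by simp))).inv_right
  have hB : Commute (K2 * K3) K1 := by
    have hd := (h2 d (by simp)).mul_left (h3 d (by simp))
    exact ((hK.mul_right hd).mul_right hK.inv_right).mul_right hd.inv_right
  calc a * b * (c * d) * (a * b)⁻¹ * (c * d)⁻¹ = a * (b * (c * d) * b⁻¹) * a⁻¹ * (c * d)⁻¹ := by group
    _ = a * (K2 * K3) * a⁻¹ * (a * (c * d) * a⁻¹) * (c * d)⁻¹ := by rw [e1]; group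
    _ = (K2 * K3) * ((a * c * a⁻¹ * c⁻¹) * K1 * (c * d)) * (c * d)⁻¹ := by
        rw [← hK.eq, mul_inv_cancel_right, e2]
    _ = (K2 * K3) * ((a * c * a⁻¹ * c⁻¹) * K1) := by group
    _ = (a * c * a⁻¹ * c⁻¹) * K1 * (K2 * K3) := (hA.mul_right hB).eq
    _ = _ := by group

namespace Fr

variable {z : G} {Q : Subgroup G} {v : G → V8} {g u : G} (F : Fr z Q v g u)
include F

local notation "z'" => g * z * g⁻¹
local notation "Q'" => Subgroup.map (MulEquiv.toMonoidHom (MulAut.conj g)) Q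
local notation "sv" => v (g * z * g⁻¹)

theorem V_central {e x : G} (he : e ∈ V z g) (hx : x ∈ P Q z g ∨ x ∈ P' Q z g) : Commute e x := by
  have hxC : x ∈ Subgroup.centralizer (V z g : Set G) := hx.elim (fun h => F.pr.P_le_centralizer h)
    (fun h => F.pr.P'_le_centralizer h)
  exact Subgroup.mem_centralizer_iff.mp hxC e he

theorem V_le_P {e : G} (he : e ∈ V z g) : e ∈ P Q z g :=
  ⟨F.pr.V_le he, Subgroup.mem_centralizer_singleton_iff.mpr (F.pr.s'.z_comm (F.V_le_Q' he))⟩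

theorem V_le_P' {e : G} (he : e ∈ V z g) : e ∈ P' Q z g :=
  F.mem_P'.mpr ⟨F.V_le_Q' he, F.co.commute_z (F.pr.V_le he)⟩

theorem V_sq {e : G} (he : e ∈ V z g) : e * e = 1 := by
  rcases F.pr.mem_V.mp he with rfl | rfl | rfl | rfl
  · exact one_mul 1
  · exact F.pr.s.zz
  · exact F.pr.s'.zz
  · rw [mul_assoc z, ← mul_assoc z' z, ← F.pr.comm, mul_assoc z, F.pr.s'.zz, mul_one, F.pr.s.zz]

theorem al_cancel {r r' : G} (hr : r ∈ P' Q z g) (hr' : r' ∈ P' Q z g)
    (h : Eqm sv (v (al u r)) (v (al u r'))) : r⁻¹ * r' ∈ V z g := by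
  refine F.al_inj (mul_mem (inv_mem hr) hr') ((F.v_al_mul (inv_mem hr) hr').trans ?_)
  have := Eqm.xr ((F.al_inv hr).trans h) (Eqm.refl sv (v (al u r')))
  rwa [xr_self] at this

theorem comm_rel_aux {x y : G} (hx : x ∈ P Q z g) (hy : y ∈ P' Q z g) :
    ((x * al u y = al u y * x) ↔ (x * y * x⁻¹ * y⁻¹ = 1 ∨ x * y * x⁻¹ * y⁻¹ = z)) ∧
    ∃ r ∈ P' Q z g, Eqm sv (v x) (v (al u r)) ∧
      ((r * y = y * r) ↔ (x * y * x⁻¹ * y⁻¹ = 1 ∨ x * y * x⁻¹ * y⁻¹ = z')) := by
  obtain ⟨u', hu', h1, h2, h3⟩ := F.pr.exists_swap'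
  obtain ⟨r, hr, hre, hrV⟩ := F.al_surj_key hu' h1 h2 hx
  have hk := F.comm_mem_V hx hy
  set k := x * y * x⁻¹ * y⁻¹ with hkdef
  obtain ⟨hxQ, -⟩ := F.mem_P.mp hx
  have huz : u * z * u⁻¹ = z := by rw [F.co.commute_z F.uQ, mul_inv_cancel_right]
  have huzz : u * (z * z') * u⁻¹ = z' := by
    rw [show u * (z * z') * u⁻¹ = (u * z * u⁻¹) * (u * z' * u⁻¹) by group, huz, F.us, ← mul_assoc,
      F.pr.s.zz, one_mul]
  refine ⟨?_, r, hr, hre, ?_⟩
  · have hal := F.al_mem hy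
    have hconj : u * k * u⁻¹ = (x * al u y * x⁻¹ * (al u y)⁻¹) * k := by
      have e0 : u * k * u⁻¹ = (u * x * u⁻¹) * (al u y * y) * (u * x * u⁻¹)⁻¹ * (al u y * y)⁻¹ := by
        rw [← F.al_eq, hkdef]; group
      rw [e0]
      have e1 : x * (al u y * y) * x⁻¹ * (al u y * y)⁻¹ = (x * al u y * x⁻¹ * (al u y)⁻¹) * k := by
        calc x * (al u y * y) * x⁻¹ * (al u y * y)⁻¹
            = (x * al u y * x⁻¹) * k * (al u y)⁻¹ := by rw [hkdef]; group
          _ = (x * al u y * x⁻¹ * (al u y)⁻¹) * k := by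
            rw [mul_assoc _ k, (F.V_central hk (Or.inl (inv_mem hal))).eq]; group
      rcases F.pr.s.comm_cases F.uQ hxQ with h | h
      · rw [h, e1]
      · rw [h]
        have hzc : Commute z (al u y * y) :=
          (show Commute z (al u y) from (F.co.commute_z (F.mem_P.mp hal).1).symm).mul_right
            (show Commute z y from (F.mem_P'.mp hy).2.symm)
        calc z * x * (al u y * y) * (z * x)⁻¹ * (al u y * y)⁻¹
            = z * (x * (al u y * y) * x⁻¹ * (al u y * y)⁻¹) * ((al u y * y) * z⁻¹ * (al u y * y)⁻¹) := by group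
          _ = z * (x * (al u y * y) * x⁻¹ * (al u y * y)⁻¹) * z⁻¹ := by
            rw [← hzc.inv_left.eq, mul_inv_cancel_right]
          _ = _ := by
            rw [e1]
            have hc : Commute z ((x * al u y * x⁻¹ * (al u y)⁻¹) * k) :=
              (F.co.commute_z (mul_mem (mul_mem (mul_mem (mul_mem hxQ (F.mem_P.mp hal).1) (inv_mem hxQ))
                (inv_mem (F.mem_P.mp hal).1)) (F.pr.V_le hk))).symm
            rw [hc.eq, mul_inv_cancel_right]
    have hcc : x * al u y * x⁻¹ * (al u y)⁻¹ = 1 ∨ x * al u y * x⁻¹ * (al u y)⁻¹ = z := by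
      rcases F.pr.s.comm_cases hxQ (F.mem_P.mp hal).1 with h | h
      · exact Or.inl (by rw [h, mul_inv_cancel])
      · exact Or.inr (by rw [h, mul_inv_cancel_right])
    constructor
    · intro hc
      rw [hc, mul_inv_cancel_right, mul_inv_cancel, one_mul] at hconj
      rcases F.pr.mem_V.mp hk with h | h | h | h
      · exact Or.inl h
      · exact Or.inr h
      · rw [h, F.us] at hconj; exact absurd hconj F.pr.mul_ne_right
      · rw [h, huzz] at hconj; exact absurd hconj.symm F.pr.mul_ne_right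
    · intro hk'
      have he : u * k * u⁻¹ = k := by
        rcases hk' with h | h
        · rw [h]; group
        · rw [h, huz]
      rw [he] at hconj
      exact mul_inv_eq_iff_eq_mul.mp (mul_inv_eq_one.mp (mul_eq_right.mp hconj.symm))
  · set b := x⁻¹ * u' * x * u'⁻¹ with hb
    have hbP : b ∈ P' Q z g := by
      have := mul_mem hr (F.V_le_P' hrV)
      rwa [mul_inv_cancel_left] at this
    have hconj : u' * k * u'⁻¹ = (b * y * b⁻¹ * y⁻¹) * k := by
      have ex : u' * x * u'⁻¹ = x * b := by rw [hb]; group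
      have e0 : u' * k * u'⁻¹ = (x * b) * (u' * y * u'⁻¹) * (x * b)⁻¹ * (u' * y * u'⁻¹)⁻¹ := by
        rw [← ex, hkdef]; group
      have hby : b * y * b⁻¹ * y⁻¹ = 1 ∨ b * y * b⁻¹ * y⁻¹ = z' := by
        rcases F.pr.s'.comm_cases (F.mem_P'.mp hbP).1 (F.mem_P'.mp hy).1 with h | h
        · exact Or.inl (by rw [h, mul_inv_cancel])
        · exact Or.inr (by rw [h, mul_inv_cancel_right])
      have hbyV : b * y * b⁻¹ * y⁻¹ ∈ V z g := F.pr.mem_V.mpr (hby.elim Or.inl fun h => Or.inr (Or.inr (Or.inl h)))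
      have e1 : x * b * y * (x * b)⁻¹ * y⁻¹ = (b * y * b⁻¹ * y⁻¹) * k := by
        calc x * b * y * (x * b)⁻¹ * y⁻¹ = x * (b * y * b⁻¹ * y⁻¹) * (y * x⁻¹ * y⁻¹) := by group
          _ = (b * y * b⁻¹ * y⁻¹) * x * (y * x⁻¹ * y⁻¹) := by rw [(F.V_central hbyV (Or.inl hx)).symm.eq]
          _ = _ := by rw [hkdef]; group
      rw [e0]
      rcases F.pr.s'.comm_cases hu' (F.mem_P'.mp hy).1 with h | h
      · rw [h, e1]
      · rw [h]
        have hzz : Commute z' (x * b) :=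
          (show Commute z' x from (F.mem_P.mp hx).2.symm).mul_right
            (show Commute z' b from (F.P'_comm hbP).symm)
        calc x * b * (z' * y) * (x * b)⁻¹ * (z' * y)⁻¹
            = (x * b) * z' * (x * b)⁻¹ * (x * b * y * (x * b)⁻¹ * y⁻¹) * z'⁻¹ := by group
          _ = z' * ((b * y * b⁻¹ * y⁻¹) * k) * z'⁻¹ := by rw [← hzz.eq, mul_inv_cancel_right, e1]
          _ = _ := by
            have hc : Commute z' ((b * y * b⁻¹ * y⁻¹) * k) :=
              (F.mem_P.mp (F.V_le_P (mul_mem hbyV hk))).2.symm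
            rw [hc.eq, mul_inv_cancel_right]
    have hry : r * y = y * r ↔ b * y * b⁻¹ * y⁻¹ = 1 := by
      have e : b * y * b⁻¹ * y⁻¹ = r * y * r⁻¹ * y⁻¹ := by
        have hbr : b = r * (r⁻¹ * b) := by group
        conv_lhs => rw [hbr]
        calc r * (r⁻¹ * b) * y * (r * (r⁻¹ * b))⁻¹ * y⁻¹
            = r * ((r⁻¹ * b) * y * (r⁻¹ * b)⁻¹) * r⁻¹ * y⁻¹ := by group
          _ = _ := by rw [(F.V_central hrV (Or.inr hy)).eq, mul_inv_cancel_right]
      rw [e, mul_inv_eq_one, mul_inv_eq_iff_eq_mul]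
    rw [hry]
    constructor
    · intro hc
      rw [hc, one_mul] at hconj
      rcases F.pr.mem_V.mp hk with h | h | h | h
      · exact Or.inl h
      · rw [h, h2] at hconj; exact absurd hconj F.pr.mul_ne_left
      · exact Or.inr h
      · rw [h, h3] at hconj; exact absurd hconj.symm F.pr.mul_ne_left
    · intro hk'
      have he : u' * k * u'⁻¹ = k := by
        rcases hk' with h | h
        · rw [h]; group
        · rw [h, h1]
      rw [he] at hconj
      exact mul_eq_right.mp hconj.symm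

/-- Commutation in `P'` corresponds to commutation of the attached elements. -/
theorem al_commute_iff {r y : G} (hr : r ∈ P' Q z g) (hy : y ∈ P' Q z g) :
    r * y = y * r ↔ al u r * al u y = al u y * al u r := by
  have hR := F.al_mem hr
  have hY := F.al_mem hy
  obtain ⟨c1, r₁, hr₁, hre₁, d1⟩ := F.comm_rel_aux hR hy
  obtain ⟨c2, r₂, hr₂, hre₂, d2⟩ := F.comm_rel_aux hY hr
  have hV1 := F.al_cancel hr hr₁ hre₁
  have hV2 := F.al_cancel hy hr₂ hre₂
  have key : ∀ {a a₁ w : G}, a⁻¹ * a₁ ∈ V z g → a ∈ P' Q z g → w ∈ P' Q z g →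
      (a₁ * w = w * a₁ ↔ a * w = w * a) := by
    intro a a₁ w hV ha hw
    have hc : Commute (a⁻¹ * a₁) w := F.V_central hV (Or.inr hw)
    constructor
    · intro h
      have := (show Commute a₁ w from h).mul_left hc.inv_left
      rwa [mul_inv_rev, inv_inv, mul_inv_cancel_left] at this
    · intro h
      have := (show Commute a w from h).mul_left hc
      rwa [mul_inv_cancel_left] at this
  rw [key hV1 hr hy] at d1
  rw [key hV2 hy hr] at d2
  set k1 := al u r * y * (al u r)⁻¹ * y⁻¹ with hk1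
  set k2 := al u y * r * (al u y)⁻¹ * r⁻¹ with hk2
  have hk1V : k1 ∈ V z g := F.comm_mem_V hR hy
  have hk2V : k2 ∈ V z g := F.comm_mem_V hY hr
  have heq : k1 = k2 := by
    have c : (k1 = 1 ∨ k1 = z) ↔ (k2 = 1 ∨ k2 = z) := by rw [← c1, ← c2, eq_comm]
    have d : (k1 = 1 ∨ k1 = z') ↔ (k2 = 1 ∨ k2 = z') := by rw [← d1, ← d2, eq_comm]
    rcases F.pr.mem_V.mp hk1V with h | h | h | h <;> rcases F.pr.mem_V.mp hk2V with h' | h' | h' | h' <;>
      rw [h, h'] at c d <;>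
      simp [F.pr.s.ne_one, F.pr.ne_one', F.pr.ne, Ne.symm F.pr.ne, F.pr.mul_ne_one, F.pr.mul_ne_left,
        F.pr.mul_ne_right, Ne.symm F.pr.s.ne_one, Ne.symm F.pr.ne_one', Ne.symm F.pr.mul_ne_one,
        Ne.symm F.pr.mul_ne_left, Ne.symm F.pr.mul_ne_right, h, h'] at c d ⊢
  have hk2' : r * al u y * r⁻¹ * (al u y)⁻¹ = k1 := by
    have : r * al u y * r⁻¹ * (al u y)⁻¹ = k2⁻¹ := by rw [hk2]; group
    rw [this, heq, inv_eq_of_mul_eq_one_right (F.V_sq hk2V)]
  have hryV : r * y * r⁻¹ * y⁻¹ ∈ V z g := by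
    rcases F.pr.s'.comm_cases (F.mem_P'.mp hr).1 (F.mem_P'.mp hy).1 with h | h <;> rw [h]
    · rw [mul_inv_cancel]; exact one_mem _
    · rw [mul_inv_cancel_right]; exact F.pr.mem_V.mpr (by simp)
  have hall : ∀ e, e ∈ V z g → ∀ w ∈ [al u r, r, al u y, y], Commute e w := by
    intro e he w hw
    simp only [List.mem_cons, List.not_mem_nil, or_false] at hw
    rcases hw with rfl | rfl | rfl | rfl
    exacts [F.V_central he (Or.inl hR), F.V_central he (Or.inr hr), F.V_central he (Or.inl hY),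
      F.V_central he (Or.inr hy)]
  have hmain := comm_mul_mul (a := al u r) (b := r) (c := al u y) (d := y) (hall _ hk1V)
    (hall _ (hk2' ▸ hk1V)) (hall _ hryV)
  rw [← F.al_eq, ← F.al_eq, ← hk1, hk2',
    show u * r * u⁻¹ * (u * y * u⁻¹) * (u * r * u⁻¹)⁻¹ * (u * y * u⁻¹)⁻¹ =
      u * (r * y * r⁻¹ * y⁻¹) * u⁻¹ by group,
    mul_assoc (al u r * al u y * (al u r)⁻¹ * (al u y)⁻¹) k1, F.V_sq hk1V, mul_one] at hmain
  constructor
  · intro h
    rw [h, mul_inv_cancel_right, mul_inv_cancel, mul_one, mul_inv_cancel, mul_one] at hmain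
    exact mul_inv_eq_iff_eq_mul.mp (mul_inv_eq_one.mp hmain.symm)
  · intro h
    rw [h, mul_inv_cancel_right, mul_inv_cancel, one_mul] at hmain
    rcases F.pr.s'.comm_cases (F.mem_P'.mp hr).1 (F.mem_P'.mp hy).1 with e | e
    · exact mul_inv_eq_iff_eq_mul.mp e
    · rw [e, mul_inv_cancel_right, F.us] at hmain
      exact absurd hmain F.pr.mul_ne_right

/-- The commutator of the two halves is a function of the orthogonality of the attached vectors. -/
theorem comm_rel {x y : G} (hx : x ∈ P Q z g) (hy : y ∈ P' Q z g) :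
    (bf (v x) (v (al u y)) = false → x * y = y * x) ∧
      (bf (v x) (v (al u y)) = true → x * y = z * z' * (y * x)) := by
  obtain ⟨c, r, hr, hre, d⟩ := F.comm_rel_aux hx hy
  have hb : (r * y = y * r) ↔ bf (v x) (v (al u y)) = false := by
    rw [F.al_commute_iff hr hy, ← F.co.comm _ (F.mem_P.mp (F.al_mem hr)).1 _ (F.mem_P.mp (F.al_mem hy)).1,
      bf_comm (v x), hre.bf_eq (F.P_perp (F.al_mem hy)), bf_comm]
  rw [← F.co.comm x (F.mem_P.mp hx).1 _ (F.mem_P.mp (F.al_mem hy)).1] at c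
  rw [hb] at d
  set k := x * y * x⁻¹ * y⁻¹ with hk
  have e : x * y = k * (y * x) := by rw [hk]; group
  constructor
  · intro h
    rcases c.mp h with h1 | h1
    · rw [e, h1, one_mul]
    · rcases d.mp h with h2 | h2
      · rw [e, h2, one_mul]
      · exact absurd (h2.symm.trans h1) F.pr.ne
  · intro h
    rw [h] at c d
    rcases F.pr.mem_V.mp (F.comm_mem_V hx hy) with h1 | h1 | h1 | h1
    · exact absurd (c.mpr (Or.inl h1)) (by simp)
    · exact absurd (c.mpr (Or.inr h1)) (by simp)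
    · exact absurd (d.mpr (Or.inr h1)) (by simp)
    · rw [e]; exact congrArg (· * (y * x)) h1

theorem sq_rel {y : G} (hy : y ∈ P' Q z g) :
    (y * y = 1 ↔ qf (v (al u y)) = false) ∧ (qf (v (al u y)) = true → y * y = z') := by
  have hA := F.al_mem hy
  have hAQ := (F.mem_P.mp hA).1
  have hc : Commute (al u y) y := (F.comm_rel hA hy).1 (bf_self _)
  have e : al u y * al u y * (y * y) = u * (y * y) * u⁻¹ := by
    calc al u y * al u y * (y * y) = al u y * (al u y * y) * y := by group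
      _ = al u y * (y * al u y) * y := by rw [hc.eq]
      _ = (al u y * y) * (al u y * y) := by group
      _ = _ := by rw [← F.al_eq]; group
  rw [F.co.sq _ hAQ]
  have hz : z * z' ≠ z' := F.pr.mul_ne_right
  rcases F.pr.s'.sq_cases (F.mem_P'.mp hy).1 with h | h <;> rw [h] at e ⊢
  · rw [mul_one, mul_one, mul_inv_cancel] at e
    exact ⟨iff_of_true rfl e, fun hq => by rw [F.co.singular hAQ e] at hq; exact absurd hq (by simp)⟩
  · rw [F.us] at e
    have : al u y * al u y = z := mul_right_cancel e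
    exact ⟨iff_of_false F.pr.ne_one' (by rw [this]; exact F.pr.s.ne_one), fun _ => rfl⟩

/-- An element centralising `z`, `z'` and the quotient `P / V` lies in the radical. -/
theorem mem_radical {t : G} (hz : t * z = z * t) (hs : t * z' = z' * t)
    (hP : ∀ x ∈ P Q z g, Eqm sv (v (t * x * t⁻¹)) (v x)) :
    ∃ x ∈ P Q z g, ∃ y ∈ P' Q z g, t = x * y := by
  obtain ⟨L, hL, hLv⟩ := F.co.par t hz
  have hti : t⁻¹ * z = z * t⁻¹ := (show Commute t z from hz).inv_left.eq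
  set w := u * t * u⁻¹ * t⁻¹ with hw
  have hwQ : w ∈ Q := by
    have := mul_mem F.uQ (F.co.conj_mem hz (inv_mem F.uQ))
    simpa [hw, mul_assoc] using this
  have hwP : w ∈ P Q z g := by
    refine F.mem_P.mpr ⟨hwQ, ?_⟩
    have huz : Commute u z := F.co.commute_z F.uQ
    have h1 : Commute (u * t * u⁻¹) (z * z') := by
      have := (show Commute t z' from hs).map (MulAut.conj u)
      rwa [MulAut.conj_apply, MulAut.conj_apply, F.us] at this
    have h2 : Commute (u * t * u⁻¹) z := (huz.mul_left hz).mul_left huz.inv_left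
    have h3 := h2.inv_right.mul_right h1
    rw [inv_mul_cancel_left] at h3
    exact h3.mul_left (show Commute t z' from hs).inv_left
  obtain ⟨y, hy, hyw⟩ := F.al_surj (F.P_perp hwP)
  set t₂ := t * y⁻¹ with ht2
  have hyz := (F.mem_P'.mp hy).2
  have h2z : t₂ * z = z * t₂ := (show Commute t z from hz).mul_left (show Commute y z from hyz).inv_left
  have h2s : t₂ * z' = z' * t₂ := (show Commute t z' from hs).mul_left (show Commute y z' from F.P'_comm hy).inv_left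
  have hsv : app L sv = sv := by rw [← hLv _ F.pr.mem, hs, mul_inv_cancel_right]
  have hPL : ∀ x ∈ P Q z g, Eqm sv (app L (v x)) (v x) := fun x hx => hLv x (F.mem_P.mp hx).1 ▸ hP x hx
  have hP2 : ∀ x ∈ P Q z g, Eqm sv (v (t₂ * x * t₂⁻¹)) (v x) := fun x hx => by
    have hm := F.P_conj_P' (inv_mem hy) hx
    rw [show t₂ * x * t₂⁻¹ = t * (y⁻¹ * x * y⁻¹⁻¹) * t⁻¹ by rw [ht2]; group]
    exact (hP _ hm).trans (F.v_conj_P hx (inv_mem hy))
  have hu2 : Eqm sv (v (t₂ * u * t₂⁻¹)) (v u) := by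
    have e : t₂ * u * t₂⁻¹ = (t * (al u y⁻¹)⁻¹ * t⁻¹) * (t * u * t⁻¹) := by
      rw [ht2, al]; group
    have hal := F.al_mem (inv_mem hy)
    rw [e, F.co.mul _ (F.co.conj_mem hz (inv_mem (F.mem_P.mp hal).1)) _ (F.co.conj_mem hz F.uQ)]
    have e2 : t * u * t⁻¹ = w⁻¹ * u := by rw [hw]; group
    rw [e2, F.co.mul _ (inv_mem hwQ) _ F.uQ, F.co.v_inv hwQ]
    have h1 := (hP _ (inv_mem hal)).trans (F.co.v_inv (F.mem_P.mp hal).1 ▸ F.al_inv hy)
    have h2 := Eqm.xr (h1.trans hyw.symm) (Eqm.refl sv (xr (v w) (v u)))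
    rwa [xr_cancel] at h2
  have hbu : bf (v u) sv = true := by
    by_contra hne
    rw [Bool.not_eq_true] at hne
    have := (F.mem_P.mp (F.mem_P_of F.uQ hne)).2
    have h' := F.us
    rw [this, mul_inv_cancel_right] at h'
    exact F.pr.mul_ne_right h'.symm
  have hufix : v (t₂ * u * t₂⁻¹) = v u := by
    rcases hu2 with h | h
    · exact h
    · exfalso
      have := F.co.conj_qf h2z F.uQ
      rw [h, qf_xr, F.sv_qf, hbu] at this
      revert this; cases qf (v u) <;> simp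
  have hPfix : ∀ x ∈ P Q z g, v (t₂ * x * t₂⁻¹) = v x := fun x hx => by
    rcases hP2 x hx with h | h
    · exact h
    · exfalso
      have := F.co.conj_bf h2z F.uQ (F.mem_P.mp hx).1
      rw [h, hufix, bf_xr_right, hbu] at this
      revert this; cases bf (v u) (v x) <;> simp
  have hQfix : ∀ a ∈ Q, v (t₂ * a * t₂⁻¹) = v a := fun a ha => by
    by_cases h : bf (v a) sv = false
    · exact hPfix a (F.mem_P_of ha h)
    · have hm : u * a ∈ P Q z g := F.mem_P_of (mul_mem F.uQ ha) (by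
        rw [F.co.mul _ F.uQ _ ha, bf_xr_left, hbu]; simpa using h)
      have := hPfix _ hm
      rw [show t₂ * (u * a) * t₂⁻¹ = (t₂ * u * t₂⁻¹) * (t₂ * a * t₂⁻¹) by group,
        F.co.mul _ (F.co.conj_mem h2z F.uQ) _ (F.co.conj_mem h2z ha), hufix, F.co.mul _ F.uQ _ ha] at this
      exact (xr_cancel (v u) _).symm.trans ((congrArg (xr (v u)) this).trans (xr_cancel (v u) _))
  refine ⟨t₂, F.mem_P.mpr ⟨F.co.ker _ h2z hQfix, h2s⟩, y, hy, ?_⟩
  rw [ht2, inv_mul_cancel_right]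

/-- The radical has commutators in the four-group. -/
theorem radical_comm {x y x₂ y₂ : G} (hx : x ∈ P Q z g) (hy : y ∈ P' Q z g) (hx₂ : x₂ ∈ P Q z g)
    (hy₂ : y₂ ∈ P' Q z g) :
    x * y * (x₂ * y₂) * (x * y)⁻¹ * (x₂ * y₂)⁻¹ ∈ V z g := by
  have hyy : y * y₂ * y⁻¹ * y₂⁻¹ ∈ V z g := by
    rcases F.pr.s'.comm_cases (F.mem_P'.mp hy).1 (F.mem_P'.mp hy₂).1 with h | h <;> rw [h]
    · rw [mul_inv_cancel]; exact one_mem _
    · rw [mul_inv_cancel_right]; exact F.pr.mem_V.mpr (by simp)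
  have hxx : x * x₂ * x⁻¹ * x₂⁻¹ ∈ V z g := by
    rcases F.pr.s.comm_cases (F.mem_P.mp hx).1 (F.mem_P.mp hx₂).1 with h | h <;> rw [h]
    · rw [mul_inv_cancel]; exact one_mem _
    · rw [mul_inv_cancel_right]; exact F.pr.mem_V.mpr (by simp)
  have h1 := F.comm_mem_V hx hy₂
  have h2 : y * x₂ * y⁻¹ * x₂⁻¹ ∈ V z g := by
    have := inv_mem (F.comm_mem_V hx₂ hy)
    rwa [show (x₂ * y * x₂⁻¹ * y⁻¹)⁻¹ = y * x₂ * y⁻¹ * x₂⁻¹ by group] at this
  have hall : ∀ e, e ∈ V z g → ∀ w ∈ [x, y, x₂, y₂], Commute e w := by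
    intro e he w hw
    simp only [List.mem_cons, List.not_mem_nil, or_false] at hw
    rcases hw with rfl | rfl | rfl | rfl
    exacts [F.V_central he (Or.inl hx), F.V_central he (Or.inr hy), F.V_central he (Or.inl hx₂),
      F.V_central he (Or.inr hy₂)]
  rw [comm_mul_mul (hall _ h1) (hall _ h2) (hall _ hyy)]
  exact mul_mem (mul_mem (mul_mem hxx h1) h2) hyy

/-- Transport along an element of the centraliser. -/
theorem transport {g₂ u₂ c y : G} (F₂ : Fr z Q v g₂ u₂) (hc : c * z = z * c)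
    (hcs : c * z' * c⁻¹ = g₂ * z * g₂⁻¹) (hy : y ∈ P' Q z g) :
    c * y * c⁻¹ ∈ P' Q z g₂ ∧
      ∀ L : Lin, (∀ a ∈ Q, v (c * a * c⁻¹) = app L (v a)) →
        Eqm (v (g₂ * z * g₂⁻¹)) (v (al u₂ (c * y * c⁻¹))) (app L (v (al u y))) := by
  have hQ : Subgroup.map (MulEquiv.toMonoidHom (MulAut.conj (c * g))) Q =
      Subgroup.map (MulEquiv.toMonoidHom (MulAut.conj g₂)) Q :=
    F.co.st.map_eq (by rw [← hcs]; group)
  have hy2 : c * y * c⁻¹ ∈ P' Q z g₂ := by
    refine F₂.mem_P'.mpr ⟨?_, ?_⟩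
    · rw [← hQ]
      obtain ⟨q, hq, hqy⟩ := (F.mem_P'.mp hy).1
      exact ⟨q, hq, by
        change c * g * q * (c * g)⁻¹ = c * y * c⁻¹
        change g * q * g⁻¹ = y at hqy
        rw [← hqy]; group⟩
    · exact ((show Commute c z from hc).mul_left (show Commute y z from (F.mem_P'.mp hy).2)).mul_left
        (show Commute c z from hc).inv_left
  refine ⟨hy2, fun L hL => ?_⟩
  set y' := c * y * c⁻¹ with hy'
  set p := u₂⁻¹ * (c * u * c⁻¹) with hp
  have hpQ : p ∈ Q := mul_mem (inv_mem F₂.uQ) (F.co.conj_mem hc F.uQ)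
  have hpP : p ∈ P Q z g₂ := by
    refine F₂.mem_P.mpr ⟨hpQ, mul_inv_eq_iff_eq_mul.mp ?_⟩
    have hcz : c * z * c⁻¹ = z := by rw [hc, mul_inv_cancel_right]
    have e1 : (c * u * c⁻¹) * (g₂ * z * g₂⁻¹) * (c * u * c⁻¹)⁻¹ = z * (g₂ * z * g₂⁻¹) := by
      rw [← hcs, show c * u * c⁻¹ * (c * z' * c⁻¹) * (c * u * c⁻¹)⁻¹ = c * (u * z' * u⁻¹) * c⁻¹ by group,
        F.us, show c * (z * z') * c⁻¹ = (c * z * c⁻¹) * (c * z' * c⁻¹) by group, hcz]
    rw [show p * (g₂ * z * g₂⁻¹) * p⁻¹ =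
      u₂⁻¹ * ((c * u * c⁻¹) * (g₂ * z * g₂⁻¹) * (c * u * c⁻¹)⁻¹) * u₂ by rw [hp]; group, e1, ← F₂.us]
    group
  have e := F₂.comm_mem_V hpP hy2
  have key : c * al u y * c⁻¹ = (u₂ * (p * y' * p⁻¹ * y'⁻¹) * u₂⁻¹) * al u₂ y' := by
    rw [hp, hy', al, al]; group
  have hA := (F.mem_P.mp (F.al_mem hy)).1
  rw [← hL _ hA, key, F.co.mul _ (F₂.pr.V_le (F₂.conj_u' e)) _ (F₂.mem_P.mp (F₂.al_mem hy2)).1]
  have := Eqm.xr (F₂.v_mem_V (F₂.conj_u' e)) (Eqm.refl (v (g₂ * z * g₂⁻¹)) (v (al u₂ y')))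
  rw [zero_xr] at this
  exact this.symm

end Fr

end CfsgLib.CoOneType
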