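import Cfsg.Agent.Lib.CoOneType.Space

/-!
Involutory isometries of the plus type space of dimension eight, and totally singular triples.
-/

set_option autoImplicit false

namespace CfsgLib.CoOneType

open CfsgLib.Extraspecial
open CfsgLib.ConwayFive (e8 pol sq_add dec8 dec8_surj)

/-- The displacement of a linear map. -/
def del (L : Lin) : V8 →+ V8 :=
  AddMonoidHom.mk' (fun x => L x + x) fun a b => by rw [map_add]; abel

theorem del_apply (L : Lin) (x : V8) : del L x = L x + x := rfl

theorem del_eq_zero {L : Lin} {x : V8} : del L x = 0 ↔ L x = x := by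
  rw [del_apply]
  exact ⟨eq_of_add, fun h => by rw [h, add_self]⟩

theorem app_eq_add_del (L : Lin) (x : V8) : L x = x + del L x := by
  rw [del_apply, add_comm (L x), add_cancel]

/-- The displacement has at most four values. -/
def Small (L : Lin) : Prop := Nat.card (del L).range ≤ 4

theorem card_eq (L : Lin) : Nat.card (del L).range * nfix L = 256 := by
  have h := AddSubgroup.card_eq_card_quotient_mul_card_addSubgroup (del L).ker
  rw [Nat.card_congr (QuotientAddGroup.quotientKerEquivRange (del L)).toEquiv] at h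
  have hk : nfix L = Nat.card (del L).ker :=
    Nat.card_congr (Equiv.subtypeEquivRight fun v => (AddMonoidHom.mem_ker.trans del_eq_zero).symm)
  rw [hk, ← h]
  simp

/-- An involutory even isometry. -/
structure Inv (L : Lin) : Prop where
  good : Good L
  sq : ∀ x, L (L x) = x

namespace Inv

variable {L : Lin} (I : Inv L)
include I

theorem fix (x : V8) : L (del L x) = del L x := by
  rw [del_apply, map_add, I.sq, add_comm]

theorem perp {k : V8} (hk : L k = k) (x : V8) : bf k (del L x) = false := by
  rw [del_apply, bf_xor_right]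
  conv_lhs => arg 1; rw [← hk, iso_bf I.good.1]
  simp

theorem iso (x y : V8) : bf (del L x) (del L y) = false := I.perp (I.fix x) y

theorem qf_del (x : V8) : qf (del L x) = bf x (del L x) := by
  rw [del_apply, qf_add, iso_qf I.good.1, bf_xor_right, bf_self, bf_comm x]
  simp

theorem symm (x y : V8) : bf x (del L y) = bf y (del L x) := by
  have h : bf x (L y) = bf y (L x) := by
    conv_lhs => rw [← iso_bf I.good.1, I.sq, bf_comm]
  rw [del_apply, del_apply, bf_xor_right, bf_xor_right, h, bf_comm x y]

theorem qf_add_del (x y : V8) : qf (del L x + del L y) = (qf (del L x) ^^ qf (del L y)) := by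
  rw [qf_add, I.iso, Bool.xor_false]

theorem card_le : Nat.card (del L).range ≤ 16 := by
  have h := card_eq L
  have hle : Nat.card (del L).range ≤ nfix L :=
    Nat.card_le_card_of_injective
      (fun r : (del L).range => (⟨r.1, by
        obtain ⟨x, hx⟩ := r.2
        show L r.1 = r.1
        rw [← hx]; exact I.fix x⟩ : {v : V8 // L v = v}))
      (fun a b e => Subtype.ext (congrArg Subtype.val e :))
  nlinarith

theorem card_cases : Nat.card (del L).range = 1 ∨ Nat.card (del L).range = 4 ∨
    Nat.card (del L).range = 16 := by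
  obtain ⟨-, k, hk, hn⟩ := I.good
  have h := card_eq L
  rw [hn] at h
  have hk8 : k ≤ 8 := by
    have h2 : (2 : ℕ) ^ k ∣ 2 ^ 8 := ⟨_, h.symm.trans (mul_comm _ _)⟩
    exact (Nat.pow_dvd_pow_iff_le_right one_lt_two).mp h2
  have h16 := I.card_le
  obtain ⟨j, rfl⟩ := hk
  have hj : j ≤ 4 := by omega
  generalize Nat.card (del L).range = a at *
  interval_cases j <;> norm_num at h ⊢ <;> omega

theorem fixed_pair {s x : V8} (hs : L s = s) (hx : L x = x) (hsx : bf x s = true) : Small L := by
  have hinj : Function.Injective (fun p : (del L).range × Bool × Bool =>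
      (⟨p.1.1 + (cond p.2.1 s 0 + cond p.2.2 x 0), by
        obtain ⟨y, hy⟩ := p.1.2
        show L _ = _
        rw [← hy]
        cases p.2.1 <;> cases p.2.2 <;> simp [map_add, I.fix, hs, hx]⟩ : {v : V8 // L v = v})) := by
    rintro ⟨⟨r, hr⟩, i, j⟩ ⟨⟨r', hr'⟩, i', j'⟩ e
    have e' : r + (cond i s 0 + cond j x 0) = r' + (cond i' s 0 + cond j' x 0) := congrArg Subtype.val e
    obtain ⟨y, rfl⟩ := hr
    obtain ⟨y', rfl⟩ := hr'
    have h1 := congrArg (fun w => bf x w) e'
    have h2 := congrArg (fun w => bf s w) e'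
    simp only [bf_xor_right, I.perp hx, I.perp hs] at h1 h2
    have hxs : bf s x = true := by rw [bf_comm]; exact hsx
    have hi : i = i' := by
      revert h1; cases i <;> cases i' <;> cases j <;> cases j' <;> simp [hsx, bf_self, bf_zero_right]
    have hj : j = j' := by
      revert h2; cases i <;> cases i' <;> cases j <;> cases j' <;> simp [hxs, bf_self, bf_zero_right]
    subst hi hj
    have h3 : del L y = del L y' := add_right_cancel e'
    simp [h3]
  have h := Nat.card_le_card_of_injective _ hinj
  rw [Nat.card_prod, Nat.card_prod, Nat.card_eq_fintype_card (α := Bool), Fintype.card_bool] at h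
  have h' := card_eq L
  rcases I.card_cases with e | e | e
  · exact e.le.trans (by norm_num)
  · exact e.le
  · exfalso
    unfold nfix at h'
    rw [e] at h h'
    omega

/-- A small involution lies in the radical of a singular point. -/
theorem small_vector (hne : ∃ v, L v ≠ v) (h : Small L) :
    ∃ s x, del L x = s ∧ s ≠ 0 ∧ qf s = false ∧ ∀ w, bf w s = false → del L w = 0 ∨ del L w = s := by
  classical
  obtain ⟨v, hv⟩ := hne
  have hv0 : del L v ≠ 0 := fun e => hv (del_eq_zero.mp e)
  haveI := Fintype.ofFinite (del L).range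
  set im : Finset V8 := Finset.univ.image (del L) with him
  have hmem : ∀ w, del L w ∈ im := fun w => Finset.mem_image_of_mem _ (Finset.mem_univ w)
  have hcard : im.card = Nat.card (del L).range := by
    rw [him, Nat.card_eq_fintype_card]
    exact (Fintype.card_of_subtype _ fun r => by simp [AddMonoidHom.mem_range]).symm
  obtain ⟨y, hy, hys⟩ : ∃ y, del L y ≠ 0 ∧ del L y ≠ del L v := by
    by_contra! hh
    have hsub : im ⊆ {0, del L v} := fun r hr => by
      obtain ⟨w, -, rfl⟩ := Finset.mem_image.mp hr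
      by_cases e : del L w = 0
      · simp [e]
      · simp [hh w e]
    have hc := (Finset.card_le_card hsub).trans Finset.card_le_two
    have hc1 : 2 ≤ im.card := Finset.one_lt_card.mpr ⟨0, map_zero (del L) ▸ hmem 0, _, hmem v, Ne.symm hv0⟩
    rcases I.card_cases with e | e | e <;> omega
  obtain ⟨x, hx0, hxq⟩ : ∃ x, del L x ≠ 0 ∧ qf (del L x) = false := by
    rcases Bool.eq_false_or_eq_true (qf (del L v)) with e₁ | e₁
    swap; · exact ⟨v, hv0, e₁⟩
    rcases Bool.eq_false_or_eq_true (qf (del L y)) with e₂ | e₂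
    swap; · exact ⟨y, hy, e₂⟩
    refine ⟨v + y, fun e => ?_, ?_⟩
    · rw [map_add] at e; exact hys (eq_of_add e).symm
    · rw [map_add, I.qf_add_del, e₁, e₂]; rfl
  refine ⟨del L x, x, rfl, hx0, hxq, fun w hw => ?_⟩
  by_contra! hcon
  obtain ⟨h0, hs⟩ := hcon
  have hall : ∀ z, del L z = 0 ∨ del L z = del L x ∨ del L z = del L w ∨ del L z = del L x + del L w := by
    intro z
    by_contra! hh
    have hsub : ({0, del L x, del L w, del L x + del L w, del L z} : Finset V8) ⊆ im := by
      intro r hr
      simp only [Finset.mem_insert, Finset.mem_singleton] at hr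
      rcases hr with rfl | rfl | rfl | rfl | rfl
      · exact map_zero (del L) ▸ hmem 0
      · exact hmem x
      · exact hmem w
      · exact map_add (del L) x w ▸ hmem _
      · exact hmem z
    have hc5 : ({0, del L x, del L w, del L x + del L w, del L z} : Finset V8).card = 5 := by
      have n1 : del L x + del L w ≠ 0 := fun e => hs (eq_of_add e).symm
      have n2 : del L x + del L w ≠ del L x := fun e => h0 (by simpa using e)
      have n3 : del L x + del L w ≠ del L w := fun e => hx0 (by simpa using e)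
      rw [Finset.card_insert_of_notMem, Finset.card_insert_of_notMem, Finset.card_insert_of_notMem,
        Finset.card_insert_of_notMem, Finset.card_singleton]
      all_goals simp only [Finset.mem_insert, Finset.mem_singleton, not_or]
      · exact hh.2.2.2.symm
      · exact ⟨n3.symm, hh.2.2.1.symm⟩
      · exact ⟨Ne.symm hs, n2.symm, hh.2.1.symm⟩
      · exact ⟨hx0.symm, Ne.symm h0, n1.symm, hh.1.symm⟩
    have := Finset.card_le_card hsub
    unfold Small at h
    omega
  obtain ⟨z, hz⟩ := exists_bf _ hx0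
  rw [bf_comm, I.symm z x] at hz
  have a1 : bf x (del L x) = false := by rw [← I.qf_del, hxq]
  have a2 : bf x (del L w) = false := by rw [I.symm x w]; exact hw
  rcases hall z with e | e | e | e <;> rw [e] at hz
  · rw [bf_zero_right] at hz; exact Bool.false_ne_true hz
  · rw [a1] at hz; exact Bool.false_ne_true hz
  · rw [a2] at hz; exact Bool.false_ne_true hz
  · rw [bf_xor_right, a1, a2] at hz; exact absurd hz (by decide)

end Inv

/-- A symmetric matrix of size four. -/
def sym4 (m : Fin 10 → ZMod 2) (i j : Fin 4) : ZMod 2 :=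
  ![![m 0, m 1, m 2, m 3], ![m 1, m 4, m 5, m 6], ![m 2, m 5, m 7, m 8], ![m 3, m 6, m 8, m 9]] i j

/-- Multiplication by a matrix of size four. -/
def mul4 (B : Fin 4 → Fin 4 → ZMod 2) (c : Fin 4 → ZMod 2) (j : Fin 4) : ZMod 2 :=
  c 0 * B 0 j + c 1 * B 1 j + c 2 * B 2 j + c 3 * B 3 j

set_option synthInstance.maxSize 2048 in
theorem sym4_check : ∀ m : Fin 10 → ZMod 2, (∀ c, (∀ j, mul4 (sym4 m) c j = 0) → c = 0) →
    (∀ j, sym4 m j j = 0) ∨ ∃ c : Fin 4 → ZMod 2, (∀ j, mul4 (sym4 m) c j = sym4 m j j) ∧
      c 0 * sym4 m 0 0 + c 1 * sym4 m 1 1 + c 2 * sym4 m 2 2 + c 3 * sym4 m 3 3 = 0 := by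
  decide +kernel

theorem pol_zero_right (a : V8) : pol a 0 = 0 := by rw [pol, cocycle_zero_left, cocycle_zero_right, add_zero]

theorem pol_sum {n : ℕ} (a : V8) (c : Fin n → ZMod 2) (f : Fin n → V8) :
    pol a (∑ i, c i • f i) = ∑ i, c i * pol a (f i) := by
  classical
  suffices h : ∀ s : Finset (Fin n), pol a (∑ i ∈ s, c i • f i) = ∑ i ∈ s, c i * pol a (f i) from h _
  intro s
  induction s using Finset.induction_on with
  | empty => simp [pol_zero_right]
  | insert i s hi ih =>
    rw [Finset.sum_insert hi, Finset.sum_insert hi, pol_comm, pol_add_left, pol_comm _ a, pol_comm _ a, ih]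
    rcases zmod_cases (c i) with e | e <;> rw [e] <;> simp [pol_zero_right]

theorem sqForm_sum {n : ℕ} (c : Fin n → ZMod 2) (f : Fin n → V8) (hf : ∀ i j, pol (f i) (f j) = 0) :
    sqForm e8 (∑ i, c i • f i) = ∑ i, c i * sqForm e8 (f i) := by
  classical
  suffices h : ∀ s : Finset (Fin n), sqForm e8 (∑ i ∈ s, c i • f i) = ∑ i ∈ s, c i * sqForm e8 (f i) ∧
      ∀ j, pol (f j) (∑ i ∈ s, c i • f i) = 0 from (h _).1
  intro s
  induction s using Finset.induction_on with
  | empty => simp [sq_zero, pol_zero_right]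
  | insert i s hi ih =>
    rcases zmod_cases (c i) with e | e <;> simp only [Finset.sum_insert hi, e, zero_smul, one_smul, zero_mul,
      one_mul, zero_add]
    · exact ih
    · refine ⟨by rw [sq_add, ih.1, ih.2, add_zero], fun j => ?_⟩
      rw [pol_comm, pol_add_left, hf i j, pol_comm, ih.2, add_zero]

namespace Inv

variable {L : Lin} (I : Inv L)
include I

/-- A big involution has a singular point whose perpendicular space has totally singular image. -/
theorem big_vector (h : ¬ Small L) :
    ∃ s x, del L x = s ∧ s ≠ 0 ∧ qf s = false ∧ ∀ w, bf w s = false → qf (del L w) = false := by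
  classical
  have h16 : Nat.card (del L).range = 16 := by
    rcases I.card_cases with e | e | e
    · exact absurd (e.le.trans (by norm_num)) h
    · exact absurd e.le h
    · exact e
  let f : V8 →ₗ[ZMod 2] V8 := (del L).toZModLinearMap 2
  have hfr : Module.finrank (ZMod 2) (LinearMap.range f) = 4 := by
    have h1 := Module.natCard_eq_pow_finrank (K := ZMod 2) (V := LinearMap.range f)
    rw [Nat.card_zmod, show Nat.card (LinearMap.range f) = Nat.card (del L).range from rfl, h16] at h1
    exact Nat.pow_right_injective le_rfl (h1.symm.trans (by norm_num))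
  let b := Module.finBasisOfFinrankEq (ZMod 2) (LinearMap.range f) hfr
  choose xs hxs using fun i => LinearMap.mem_range.mp (b i).2
  set ev : Fin 4 → V8 := fun i => del L (xs i) with hev
  have hevb : ∀ i, (b i : V8) = ev i := fun i => (hxs i).symm
  have hspan : ∀ y, ∃ c : Fin 4 → ZMod 2, del L y = ∑ i, c i • ev i := fun y => by
    refine ⟨fun i => b.repr ⟨del L y, y, rfl⟩ i, ?_⟩
    have := congrArg Subtype.val (b.sum_repr ⟨del L y, y, rfl⟩)
    rw [Submodule.coe_sum] at this
    simp only [Submodule.coe_smul, hevb] at this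
    exact this.symm
  have hindep : ∀ c : Fin 4 → ZMod 2, ∑ i, c i • ev i = 0 → c = 0 := fun c hc => funext fun i => by
    refine Fintype.linearIndependent_iff.mp b.linearIndependent c (Subtype.ext ?_) i
    rw [Submodule.coe_sum]
    simpa only [Submodule.coe_smul, hevb, Submodule.coe_zero] using hc
  have hsy : ∀ x y, pol x (del L y) = pol y (del L x) := fun x y => by
    have e := I.symm x y
    rw [bf, bf] at e
    revert e
    generalize pol x (del L y) = p
    generalize pol y (del L x) = q
    revert p q; decide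
  have hq : ∀ y, sqForm e8 (del L y) = pol y (del L y) := fun y => by
    have e := I.qf_del y
    rw [qf, bf] at e
    revert e
    generalize sqForm e8 (del L y) = p
    generalize pol y (del L y) = q
    revert p q; decide
  have hiso : ∀ i j, pol (ev i) (ev j) = 0 := fun i j => bf_false.mp (I.iso _ _)
  let B : Fin 4 → Fin 4 → ZMod 2 := fun i j => pol (xs i) (ev j)
  let m : Fin 10 → ZMod 2 := ![B 0 0, B 0 1, B 0 2, B 0 3, B 1 1, B 1 2, B 1 3, B 2 2, B 2 3, B 3 3]
  have hm : ∀ i j, sym4 m i j = B i j := fun i j => by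
    fin_cases i <;> fin_cases j <;> first | rfl | exact hsy _ _
  have hmul : ∀ (c : Fin 4 → ZMod 2) j, mul4 (sym4 m) c j = pol (xs j) (∑ i, c i • ev i) := fun c j => by
    rw [pol_sum, Fin.sum_univ_four, mul4, hm, hm, hm, hm]
    simp only [B, ev, hsy (xs j)]
  have hnd : ∀ c, (∀ j, mul4 (sym4 m) c j = 0) → c = 0 := fun c hc => hindep c (by
    by_contra hne
    obtain ⟨w, hw⟩ := exists_bf _ hne
    have hw' : pol (∑ i, c i • ev i) w = 0 := by
      have e0 : ∑ i, c i • ev i = del L (∑ i, c i • xs i) := by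
        simp only [ev]
        exact (map_sum f (fun i => c i • xs i) Finset.univ).symm ▸ Finset.sum_congr rfl fun i _ =>
          (map_smul f (c i) (xs i)).symm
      obtain ⟨d, hd⟩ := hspan w
      rw [pol_comm, e0, hsy w, hd, pol_sum]
      refine Finset.sum_eq_zero fun j _ => ?_
      rw [show pol (∑ i, c i • xs i) (ev j) = pol (xs j) (∑ i, c i • ev i) by rw [e0]; exact hsy _ _,
        ← hmul, hc j, mul_zero]
    rw [bf_false.mpr hw'] at hw
    exact Bool.false_ne_true hw)
  rcases sym4_check m hnd with hd | ⟨c, hc, hcd⟩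
  · have hall : ∀ y, qf (del L y) = false := fun y => by
      obtain ⟨d, hy⟩ := hspan y
      rw [qf_false, hy, sqForm_sum _ _ hiso]
      refine Finset.sum_eq_zero fun j _ => ?_
      rw [show sqForm e8 (ev j) = B j j from hq _, ← hm, hd, mul_zero]
    refine ⟨ev 0, xs 0, rfl, fun e => ?_, hall _, fun w _ => hall w⟩
    have := congrFun (hindep (Pi.single 0 1) (by simp [Fin.sum_univ_four, e])) 0
    simp at this
  · by_cases hd : ∀ j, sym4 m j j = 0
    · have hall : ∀ y, qf (del L y) = false := fun y => by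
        obtain ⟨d, hy⟩ := hspan y
        rw [qf_false, hy, sqForm_sum _ _ hiso]
        refine Finset.sum_eq_zero fun j _ => ?_
        rw [show sqForm e8 (ev j) = B j j from hq _, ← hm, hd, mul_zero]
      refine ⟨ev 0, xs 0, rfl, fun e => ?_, hall _, fun w _ => hall w⟩
      have := congrFun (hindep (Pi.single 0 1) (by simp [Fin.sum_univ_four, e])) 0
      simp at this
    have e0 : del L (∑ i, c i • xs i) = ∑ i, c i • ev i := by
      show f (∑ i, c i • xs i) = _
      simp only [map_sum, map_smul]
      rfl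
    refine ⟨_, ∑ i, c i • xs i, rfl, fun e => hd fun j => ?_, ?_, fun w hw => ?_⟩
    · rw [← hc j, hmul, ← e0, e, pol_zero_right]
    · rw [qf_false, e0, sqForm_sum _ _ hiso, Fin.sum_univ_four]
      simp only [show ∀ j, sqForm e8 (ev j) = sym4 m j j from fun j => (hq _).trans (hm j j).symm]
      exact hcd
    · obtain ⟨d, hy⟩ := hspan w
      have h1 : pol w (del L (∑ i, c i • xs i)) = 0 := bf_false.mp hw
      rw [hsy, hy, pol_sum] at h1
      rw [qf_false, hy, sqForm_sum _ _ hiso, ← h1]
      refine Finset.sum_congr rfl fun j _ => ?_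
      rw [show sqForm e8 (ev j) = sym4 m j j from (hq _).trans (hm j j).symm, ← hc, hmul, ← e0]
      exact congrArg (d j * ·) (hsy (xs j) (∑ i, c i • xs i))

end Inv

/-- The span of three vectors. -/
def InSpan (s a b v : V8) : Prop :=
  ∃ i j k : Bool, v = cond i s 0 + cond j a 0 + cond k b 0

theorem map_cond (L : Lin) (i : Bool) (v : V8) : L (cond i v 0) = cond i (L v) 0 := by
  cases i <;> simp

theorem InSpan.map {s a b v : V8} (L : Lin) (h : InSpan s a b v) : InSpan (L s) (L a) (L b) (L v) := by
  obtain ⟨i, j, k, rfl⟩ := h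
  exact ⟨i, j, k, by simp [map_cond]⟩

theorem InSpan.unmap {s a b v : V8} (L : Lin) (h : InSpan (L s) (L a) (L b) (L v)) : InSpan s a b v := by
  simpa using h.map L.symm

theorem bf_cond (i : Bool) (v w : V8) : bf (cond i v 0) w = (i && bf v w) := by
  cases i <;> simp [bf_zero_left]

theorem bf_cond' (i : Bool) (v w : V8) : bf w (cond i v 0) = (i && bf w v) := by
  rw [bf_comm, bf_cond, bf_comm]

theorem InSpan.bf_zero {s a b v w : V8} (h : InSpan s a b v) (h1 : bf s w = false) (h2 : bf a w = false)
    (h3 : bf b w = false) : bf v w = false := by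
  obtain ⟨i, j, k, rfl⟩ := h
  simp [bf_xor_left, bf_cond, h1, h2, h3]

theorem InSpan.qf_zero {s a b v : V8} (h : InSpan s a b v) (C : Cfg false s a b) : qf v = false := by
  obtain ⟨i, j, k, rfl⟩ := h
  cases i <;> cases j <;> cases k <;>
    simp [qf_add, CoOneType.qf_zero, bf_xor_left, bf_zero_left, bf_zero_right, C.qs, C.qa, C.qb, C.sa, C.sb, C.ab]

set_option synthInstance.maxSize 8192 in
theorem max_check : ∀ i : Fin 256, bf s0 (dec8 i) = false → bf (a0 false) (dec8 i) = false →
    bf (b0 false) (dec8 i) = false → ∀ j : Fin 256, bf s0 (dec8 j) = false → bf (a0 false) (dec8 j) = false →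
    bf (b0 false) (dec8 j) = false →
    ((qf (dec8 j) = false ∧ bf (dec8 i) (dec8 j) = false) →
      InSpan s0 (a0 false) (b0 false) (dec8 j) ∨ InSpan s0 (a0 false) (b0 false) (dec8 i) ∨
        InSpan s0 (a0 false) (b0 false) (dec8 i + dec8 j)) ∧
    ¬ (qf (dec8 i) = true ∧ qf (dec8 j) = true ∧ bf (dec8 i) (dec8 j) = true) := by
  unfold InSpan
  decide +kernel

/-- Maximality of totally singular spaces of dimension four. -/
theorem Cfg.maximal {s a b v w : V8} (C : Cfg false s a b) (v1 : bf s v = false) (v2 : bf a v = false)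
    (v3 : bf b v = false) (w1 : bf s w = false) (w2 : bf a w = false) (w3 : bf b w = false) :
    (qf w = false → bf v w = false → ¬ InSpan s a b w → InSpan s a b v ∨ InSpan s a b (v + w)) ∧
    ¬ (qf v = true ∧ qf w = true ∧ bf v w = true) := by
  obtain ⟨L, hL, rfl, rfl, rfl⟩ := C.move_std
  obtain ⟨v, rfl⟩ := L.surjective v
  obtain ⟨w, rfl⟩ := L.surjective w
  obtain ⟨i, rfl⟩ := dec8_surj v
  obtain ⟨j, rfl⟩ := dec8_surj w
  simp only [iso_bf hL.1, iso_qf hL.1] at v1 v2 v3 w1 w2 w3 ⊢
  obtain ⟨h1, h2⟩ := max_check i v1 v2 v3 j w1 w2 w3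
  refine ⟨fun q e hn => ?_, h2⟩
  rcases h1 ⟨q, e⟩ with h | h | h
  · exact absurd (h.map L) hn
  · exact Or.inl (h.map L)
  · exact Or.inr (map_add L _ _ ▸ h.map L)

/-- Two vectors perpendicular to a totally singular space of dimension four lie in it. -/
theorem Cfg.perp_four {s a b h v w : V8} (C : Cfg false s a b) (h1 : bf s h = false) (h2 : bf a h = false)
    (h3 : bf b h = false) (hq : qf h = false) (hn : ¬ InSpan s a b h)
    (v1 : bf s v = false) (v2 : bf a v = false) (v3 : bf b v = false) (v4 : bf v h = false)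
    (w1 : bf s w = false) (w2 : bf a w = false) (w3 : bf b w = false) (w4 : bf w h = false) :
    qf v = false ∧ qf w = false ∧ bf v w = false := by
  have key : ∀ {v : V8}, bf s v = false → bf a v = false → bf b v = false → bf v h = false →
      ∃ i, InSpan s a b (v + cond i h 0) := by
    intro v v1 v2 v3 v4
    rcases (C.maximal v1 v2 v3 h1 h2 h3).1 hq v4 hn with e | e
    · exact ⟨false, by simpa using e⟩
    · exact ⟨true, e⟩
  obtain ⟨i, hi⟩ := key v1 v2 v3 v4
  obtain ⟨j, hj⟩ := key w1 w2 w3 w4
  have hb : ∀ {r : V8}, InSpan s a b r → bf r h = false := fun hr => hr.bf_zero h1 h2 h3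
  have hzero : ∀ {r r' : V8}, InSpan s a b r → InSpan s a b r' → bf r r' = false := fun hr hr' => by
    refine hr.bf_zero ?_ ?_ ?_ <;> rw [bf_comm] <;> refine hr'.bf_zero ?_ ?_ ?_ <;>
      simp [bf_self, C.sa, C.sb, C.ab, bf_comm a s, bf_comm b s, bf_comm b a]
  set r := v + cond i h 0 with hr
  set r' := w + cond j h 0 with hr'
  have ev : v = r + cond i h 0 := by rw [hr, add_assoc, add_self, add_zero]
  have ew : w = r' + cond j h 0 := by rw [hr', add_assoc, add_self, add_zero]
  have q1 : ∀ (e : Bool), qf (cond e h 0) = false := fun e => by cases e <;> simp [CoOneType.qf_zero, hq]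
  refine ⟨?_, ?_, ?_⟩
  · rw [ev, qf_add, hi.qf_zero C, q1, bf_comm, bf_cond, bf_comm h, hb hi]; simp
  · rw [ew, qf_add, hj.qf_zero C, q1, bf_comm, bf_cond, bf_comm h, hb hj]; simp
  · rw [ev, ew]
    simp [bf_xor_left, bf_xor_right, bf_cond, bf_cond', bf_self, hzero hi hj, hb hi, bf_comm h r', hb hj]

/-- The triple of a big involution. -/
theorem Inv.triple {L : Lin} (I : Inv L) (h : ¬ Small L) {s u : V8} (hs : ∃ x, del L x = s) (hs0 : s ≠ 0)
    (hqs : qf s = false) (hH : ∀ w, bf w s = false → qf (del L w) = false) (hu : bf u s = true) :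
    ∃ h1 h2, Cfg false s h1 h2 ∧ bf s (del L u) = false ∧ bf h1 (del L u) = false ∧ bf h2 (del L u) = false ∧
      (∀ r, InSpan s h1 h2 r → ∃ w, bf w s = false ∧ del L w = r) ∧
      (∀ w, bf w s = false → InSpan s h1 h2 (del L w)) ∧ ¬ InSpan s h1 h2 (del L u) := by
  classical
  obtain ⟨x, hx⟩ := hs
  have h16 : Nat.card (del L).range = 16 := by
    rcases I.card_cases with e | e | e
    · exact absurd (e.le.trans (by norm_num)) h
    · exact absurd e.le h
    · exact e
  set H : Finset V8 := (Finset.univ.filter fun w => bf w s = false).image (del L) with hH'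
  have hmem : ∀ {r}, r ∈ H ↔ ∃ w, bf w s = false ∧ del L w = r := fun {r} => by simp [hH']
  have hsH : s ∈ H := hmem.mpr ⟨x, by rw [← hx, ← I.qf_del, hx, hqs], hx⟩
  have hsfix : L s = s := hx ▸ I.fix x
  have hbH : del L u ∉ H := by
    intro hb
    obtain ⟨w, hw, e⟩ := hmem.mp hb
    refine h (I.fixed_pair hsfix (x := u + w) ?_ ?_)
    · rw [← del_eq_zero, map_add, e, add_self]
    · rw [bf_xor_left, hu, hw]; rfl
  have hadd : ∀ {r r'}, r ∈ H → r' ∈ H → r + r' ∈ H := by
    intro r r' hr hr'
    obtain ⟨w, hw, rfl⟩ := hmem.mp hr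
    obtain ⟨w', hw', rfl⟩ := hmem.mp hr'
    exact hmem.mpr ⟨w + w', by rw [bf_xor_left, hw, hw']; rfl, map_add _ _ _⟩
  have hcard : H.card = 8 := by
    have hd : Disjoint H (H.image (del L u + ·)) := by
      rw [Finset.disjoint_left]
      intro r hr hr'
      obtain ⟨r', hr'', rfl⟩ := Finset.mem_image.mp hr'
      exact hbH (by simpa [add_assoc, add_self] using hadd hr hr'')
    have hun : Finset.univ.image (del L) = H ∪ H.image (del L u + ·) := by
      ext r
      simp only [Finset.mem_image, Finset.mem_univ, true_and, Finset.mem_union]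
      constructor
      · rintro ⟨w, rfl⟩
        rcases Bool.eq_false_or_eq_true (bf w s) with e | e
        · refine Or.inr ⟨del L (u + w), hmem.mpr ⟨_, by rw [bf_xor_left, hu, e]; rfl, rfl⟩, ?_⟩
          rw [map_add, add_cancel]
        · exact Or.inl (hmem.mpr ⟨w, e, rfl⟩)
      · rintro (hr | ⟨r', hr', rfl⟩)
        · obtain ⟨w, -, e⟩ := hmem.mp hr; exact ⟨w, e⟩
        · obtain ⟨w, -, rfl⟩ := hmem.mp hr'; exact ⟨u + w, map_add _ _ _⟩
    have hc : (Finset.univ.image (del L)).card = 16 := by
      haveI := Fintype.ofFinite (del L).range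
      rw [← h16, Nat.card_eq_fintype_card]
      exact (Fintype.card_of_subtype _ fun r => by simp [AddMonoidHom.mem_range]).symm
    rw [hun, Finset.card_union_of_disjoint hd, Finset.card_image_of_injective _ (add_right_injective _)] at hc
    omega
  have h0 : (0 : V8) ∈ H := hmem.mpr ⟨0, bf_zero_left s, map_zero _⟩
  obtain ⟨h1, hh1, hn1⟩ : ∃ h1 ∈ H, h1 ∉ ({0, s} : Finset V8) :=
    Finset.exists_mem_notMem_of_card_lt_card (by rw [hcard]; exact lt_of_le_of_lt Finset.card_le_two (by norm_num))
  obtain ⟨h2, hh2, hn2⟩ : ∃ h2 ∈ H, h2 ∉ ({0, s, h1, s + h1} : Finset V8) :=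
    Finset.exists_mem_notMem_of_card_lt_card (by rw [hcard]; exact lt_of_le_of_lt Finset.card_le_four (by norm_num))
  simp only [Finset.mem_insert, Finset.mem_singleton, not_or] at hn1 hn2
  have hq : ∀ {r}, r ∈ H → qf r = false := fun hr => by
    obtain ⟨w, hw, rfl⟩ := hmem.mp hr; exact hH w hw
  have hi : ∀ {r r'}, r ∈ H → r' ∈ H → bf r r' = false := fun hr hr' => by
    obtain ⟨w, -, rfl⟩ := hmem.mp hr
    obtain ⟨w', -, rfl⟩ := hmem.mp hr'
    exact I.iso w w'
  have C : Cfg false s h1 h2 := ⟨hs0, hqs, hq hh1, hq hh2, hi hsH hh1, hi hsH hh2, hi hh1 hh2,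
    hn1.1, hn1.2, hn2.1, hn2.2.1, hn2.2.2.1, hn2.2.2.2⟩
  have hsub : ∀ {r}, InSpan s h1 h2 r → r ∈ H := by
    rintro r ⟨i, j, k, rfl⟩
    refine hadd (hadd ?_ ?_) ?_
    · cases i <;> assumption
    · cases j <;> assumption
    · cases k <;> assumption
  have heq : H = Finset.univ.image (fun p : Bool × Bool × Bool => cond p.1 s 0 + cond p.2.1 h1 0 + cond p.2.2 h2 0) := by
    refine (Finset.eq_of_subset_of_card_le ?_ ?_).symm
    · intro r hr
      obtain ⟨⟨i, j, k⟩, -, rfl⟩ := Finset.mem_image.mp hr
      exact hsub ⟨i, j, k, rfl⟩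
    · rw [hcard, Finset.card_image_of_injective]
      · simp
      · rintro ⟨i, j, k⟩ ⟨i', j', k'⟩ e
        dsimp only at e
        have li := Fintype.linearIndependent_iff.mp (li_three C.s0 C.a0 C.b0 C.as' C.bs C.ba C.bas)
          ![cond i 1 0 + cond i' 1 0, cond j 1 0 + cond j' 1 0, cond k 1 0 + cond k' 1 0] (by
            have hc : ∀ (e e' : Bool) (v : V8), (cond e (1 : ZMod 2) 0 + cond e' 1 0) • v = cond e v 0 + cond e' v 0 :=
              fun e e' v => by cases e <;> cases e' <;> simp [add_smul]
            simp only [Fin.sum_univ_three, Matrix.cons_val_zero, Matrix.cons_val_one, Matrix.cons_val_two,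
              Matrix.tail_cons, Matrix.head_cons, hc]
            rw [show ∀ a b c d e f : V8, a + b + (c + d) + (e + f) = (a + c + e) + (b + d + f) from
              fun a b c d e f => by abel, e, add_self])
        have hz : ∀ e e' : Bool, cond e (1 : ZMod 2) 0 + cond e' 1 0 = 0 → e = e' := by decide
        exact Prod.ext (hz i i' (by simpa using li 0))
          (Prod.ext (hz j j' (by simpa using li 1)) (hz k k' (by simpa using li 2)))
  have hsp : ∀ {r}, r ∈ H → InSpan s h1 h2 r := fun hr => by
    rw [heq] at hr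
    obtain ⟨⟨i, j, k⟩, -, rfl⟩ := Finset.mem_image.mp hr
    exact ⟨i, j, k, rfl⟩
  have hb : ∀ {r}, r ∈ H → bf r (del L u) = false := fun hr => by
    obtain ⟨w, -, rfl⟩ := hmem.mp hr; exact I.iso w u
  exact ⟨h1, h2, C, hb hsH, hb hh1, hb hh2, fun r hr => hmem.mp (hsub hr),
    fun w hw => hsp (hmem.mpr ⟨w, hw, rfl⟩), fun hr => hbH (hsub hr)⟩

end CfsgLib.CoOneType
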