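import Cfsg.Agent.Lib.Extraspecial.Pair
import Cfsg.Agent.Lib.CoOneType.Linear

/-!
Involution centralisers `2^(1+8)_+ . Ω^+(8,2)`: coordinates on the extraspecial group.
-/

set_option autoImplicit false

namespace CfsgLib.CoOneType

open CfsgLib.Extraspecial

variable {G : Type*} [Group G] [Finite G]

/-- Addition of vectors. -/
def xr (a b : V8) : V8 := a + b

/-- Application of a linear map. -/
def app (L : Lin) (v : V8) : V8 := L v

theorem xr_self (a : V8) : xr a a = 0 := add_self a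

theorem xr_comm (a b : V8) : xr a b = xr b a := add_comm a b

theorem xr_assoc (a b c : V8) : xr (xr a b) c = xr a (xr b c) := add_assoc a b c

theorem xr_zero (a : V8) : xr a 0 = a := add_zero a

theorem zero_xr (a : V8) : xr 0 a = a := zero_add a

theorem xr_eq_zero {a b : V8} : xr a b = 0 ↔ a = b := ⟨eq_of_add, fun h => h ▸ add_self a⟩

theorem xr_cancel (a b : V8) : xr a (xr a b) = b := add_cancel a b

theorem bf_xr_left (a b c : V8) : bf (xr a b) c = (bf a c ^^ bf b c) := bf_xor_left a b c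

theorem bf_xr_right (a b c : V8) : bf a (xr b c) = (bf a b ^^ bf a c) := bf_xor_right a b c

theorem qf_xr (a b : V8) : qf (xr a b) = (qf a ^^ qf b ^^ bf a b) := qf_add a b

theorem app_xr (L : Lin) (a b : V8) : app L (xr a b) = xr (app L a) (app L b) := map_add L a b

theorem app_zero (L : Lin) : app L 0 = 0 := map_zero L

theorem app_qf {L : Lin} (h : Good L) (a : V8) : qf (app L a) = qf a := iso_qf h.1 a

theorem app_bf {L : Lin} (h : Good L) (a b : V8) : bf (app L a) (app L b) = bf a b := iso_bf h.1 a b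

/-- The extraspecial group with coordinates and the action of the centraliser. -/
structure Co (z : G) (Q : Subgroup G) (v : G → V8) : Prop where
  st : Setting Q z
  card : Nat.card Q = 512
  mul : ∀ a ∈ Q, ∀ b ∈ Q, v (a * b) = xr (v a) (v b)
  zero : ∀ a ∈ Q, (v a = 0 ↔ a = 1 ∨ a = z)
  sq : ∀ a ∈ Q, (qf (v a) = false ↔ a * a = 1)
  comm : ∀ a ∈ Q, ∀ b ∈ Q, (bf (v a) (v b) = false ↔ a * b = b * a)
  surj : ∀ w : V8, ∃ a ∈ Q, v a = w
  real : ∀ L : Lin, Good L → ∃ c, c * z = z * c ∧ ∀ a ∈ Q, v (c * a * c⁻¹) = app L (v a)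
  par : ∀ c, c * z = z * c → ∃ L : Lin, Good L ∧ ∀ a ∈ Q, v (c * a * c⁻¹) = app L (v a)
  ker : ∀ c, c * z = z * c → (∀ a ∈ Q, v (c * a * c⁻¹) = v a) → c ∈ Q
  nwc : ∃ g : G, g * z * g⁻¹ ∈ Q ∧ g * z * g⁻¹ ≠ z

/-- Equality modulo a vector. -/
def Eqm (s a b : V8) : Prop := a = b ∨ a = xr b s

theorem Eqm.refl (s a : V8) : Eqm s a a := Or.inl rfl

theorem Eqm.symm {s a b : V8} (h : Eqm s a b) : Eqm s b a := by
  rcases h with rfl | rfl
  · exact Or.inl rfl
  · exact Or.inr (by rw [xr_assoc, xr_self, xr_zero])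

theorem Eqm.trans {s a b c : V8} (h : Eqm s a b) (h' : Eqm s b c) : Eqm s a c := by
  rcases h with rfl | rfl
  · exact h'
  rcases h' with rfl | rfl
  · exact Or.inr rfl
  · exact Or.inl (by rw [xr_assoc, xr_self, xr_zero])

theorem Eqm.bf_eq {s a b w : V8} (h : Eqm s a b) (hw : bf w s = false) : bf w a = bf w b := by
  rcases h with rfl | rfl
  · rfl
  · rw [bf_xr_right, hw, Bool.xor_false]

theorem Eqm.qf_eq {s a b : V8} (h : Eqm s a b) (hs : qf s = false) (hb : bf b s = false) :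
    qf a = qf b := by
  rcases h with rfl | rfl
  · rfl
  · rw [qf_xr, hs, hb, Bool.xor_false, Bool.xor_false]

theorem Eqm.map {s a b : V8} (L : Lin) (h : Eqm s a b) : Eqm (app L s) (app L a) (app L b) := by
  rcases h with rfl | rfl
  · exact Or.inl rfl
  · exact Or.inr (app_xr L b s)

theorem eqm_zero {s a : V8} : Eqm s a 0 ↔ a = 0 ∨ a = s := by
  unfold Eqm
  rw [zero_xr]

theorem Eqm.xr {s a b a' b' : V8} (h : Eqm s a b) (h' : Eqm s a' b') :
    Eqm s (xr a a') (xr b b') := by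
  haveI : Std.Associative CoOneType.xr := ⟨xr_assoc⟩
  haveI : Std.Commutative CoOneType.xr := ⟨xr_comm⟩
  rcases h with rfl | rfl <;> rcases h' with rfl | rfl
  · exact Or.inl rfl
  · exact Or.inr (by ac_rfl)
  · exact Or.inr (by ac_rfl)
  · refine Or.inl ?_
    calc CoOneType.xr (CoOneType.xr b s) (CoOneType.xr b' s)
        = CoOneType.xr (CoOneType.xr b b') (CoOneType.xr s s) := by ac_rfl
      _ = _ := by rw [xr_self, xr_zero]

namespace Co

variable {z : G} {Q : Subgroup G} {v : G → V8} (H : Co z Q v)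
include H

theorem z_mem : z ∈ Q := H.st.z_mem

theorem v_one : v 1 = 0 := (H.zero 1 (one_mem Q)).mpr (Or.inl rfl)

theorem v_z : v z = 0 := (H.zero z H.z_mem).mpr (Or.inr rfl)

theorem v_inv {a : G} (ha : a ∈ Q) : v a⁻¹ = v a := by
  have h := H.mul a ha a⁻¹ (inv_mem ha)
  rw [mul_inv_cancel, H.v_one] at h
  exact (xr_eq_zero.mp h.symm).symm

theorem conj_mem {c a : G} (hc : c * z = z * c) (ha : a ∈ Q) : c * a * c⁻¹ ∈ Q :=
  (Subgroup.mem_normalizer_iff.mp (H.st.cz (Subgroup.mem_centralizer_singleton_iff.mpr hc)) a).mp ha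

theorem commute_z {a : G} (ha : a ∈ Q) : a * z = z * a := H.st.z_comm ha

theorem eq_or {a b : G} (ha : a ∈ Q) (hb : b ∈ Q) (h : v a = v b) : a = b ∨ a = z * b := by
  have h1 := H.mul a ha b⁻¹ (inv_mem hb)
  rw [H.v_inv hb, h, xr_self] at h1
  rcases (H.zero _ (mul_mem ha (inv_mem hb))).mp h1 with e | e
  · exact Or.inl (mul_inv_eq_one.mp e)
  · exact Or.inr (mul_inv_eq_iff_eq_mul.mp e)

theorem v_inner {p a : G} (hp : p ∈ Q) (ha : a ∈ Q) : v (p * a * p⁻¹) = v a := by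
  rw [H.mul _ (mul_mem hp ha) _ (inv_mem hp), H.mul _ hp _ ha, H.v_inv hp, xr_comm (v p) (v a),
    xr_assoc, xr_self, xr_zero]

theorem v_conj_inv {c a : G} (hc : c * z = z * c) (ha : a ∈ Q) {L : Lin}
    (hL : ∀ a ∈ Q, v (c * a * c⁻¹) = app L (v a)) : app L (v (c⁻¹ * a * c)) = v a := by
  have hc' : c⁻¹ * z = z * c⁻¹ := (show Commute c z from hc).inv_left.eq
  have h := H.conj_mem hc' ha
  rw [inv_inv] at h
  rw [← hL _ h, show c * (c⁻¹ * a * c) * c⁻¹ = a by group]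

theorem conj_qf {c a : G} (hc : c * z = z * c) (ha : a ∈ Q) : qf (v (c * a * c⁻¹)) = qf (v a) := by
  obtain ⟨L, hL, hLv⟩ := H.par c hc
  rw [hLv a ha]; exact app_qf hL _

theorem conj_bf {c a b : G} (hc : c * z = z * c) (ha : a ∈ Q) (hb : b ∈ Q) :
    bf (v (c * a * c⁻¹)) (v (c * b * c⁻¹)) = bf (v a) (v b) := by
  obtain ⟨L, hL, hLv⟩ := H.par c hc
  rw [hLv a ha, hLv b hb]; exact app_bf hL _ _

theorem singular {a : G} (ha : a ∈ Q) (h2 : a * a = 1) : qf (v a) = false := (H.sq a ha).mpr h2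

theorem ne_zero {a : G} (ha : a ∈ Q) (h1 : a ≠ 1) (hz : a ≠ z) : v a ≠ 0 := fun h =>
  ((H.zero a ha).mp h).elim h1 hz

/-- Conjugation carries any non-central involution of `Q` to any other. -/
theorem trans {a b : G} (ha : a ∈ Q) (ha2 : a * a = 1) (ha1 : a ≠ 1) (haz : a ≠ z)
    (hb : b ∈ Q) (hb2 : b * b = 1) (hb1 : b ≠ 1) (hbz : b ≠ z) :
    ∃ c, c * z = z * c ∧ c * a * c⁻¹ = b := by
  obtain ⟨L, hL, hLa⟩ := move_singular (H.ne_zero ha ha1 haz) (H.singular ha ha2) (H.ne_zero hb hb1 hbz)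
    (H.singular hb hb2)
  obtain ⟨c, hc, hcv⟩ := H.real L hL
  rcases H.eq_or (H.conj_mem hc ha) hb ((hcv a ha).trans hLa) with e | e
  · exact ⟨c, hc, e⟩
  · obtain ⟨p, hp, hpb⟩ := H.st.exists_move hb hb1 hbz
    refine ⟨p * c, ?_, ?_⟩
    · rw [mul_assoc, hc, ← mul_assoc, H.commute_z hp, mul_assoc]
    · rw [show p * c * a * (p * c)⁻¹ = p * (c * a * c⁻¹) * p⁻¹ by group,
        e, show p * (z * b) * p⁻¹ = (p * z * p⁻¹) * (p * b * p⁻¹) by group, hpb, H.commute_z hp,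
        mul_inv_cancel_right, ← mul_assoc, H.st.zz, one_mul]

theorem exists_pair {a : G} (ha : a ∈ Q) (ha2 : a * a = 1) (ha1 : a ≠ 1) (haz : a ≠ z) :
    ∃ g, g * z * g⁻¹ = a ∧ Pair Q z g := by
  obtain ⟨g, hg, hgz⟩ := H.nwc
  have hg2 : g * z * g⁻¹ * (g * z * g⁻¹) = 1 := by
    rw [show g * z * g⁻¹ * (g * z * g⁻¹) = g * (z * z) * g⁻¹ by group, H.st.zz, mul_one, mul_inv_cancel]
  have hg1 : g * z * g⁻¹ ≠ 1 := fun e => H.st.ne_one (conj_eq_one_iff.mp e)
  obtain ⟨c, hc, hca⟩ := H.trans hg hg2 hg1 hgz ha ha2 ha1 haz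
  have e : c * g * z * (c * g)⁻¹ = a := by rw [← hca]; group
  exact ⟨c * g, e, H.st, e.symm ▸ ha, e.symm ▸ haz, by rw [H.card]; norm_num⟩

theorem isConj_z {a : G} (ha : a ∈ Q) (ha2 : a * a = 1) (ha1 : a ≠ 1) (haz : a ≠ z) : IsConj a z := by
  obtain ⟨g, hg, -⟩ := H.exists_pair ha ha2 ha1 haz
  exact (isConj_iff.mpr ⟨g, hg⟩).symm

end Co

end CfsgLib.CoOneType
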