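import Cfsg.Agent.Lib.CoOneType.NotZ

/-!
Counting the involutions of a kind on a pair.
-/

set_option autoImplicit false

namespace CfsgLib.CoOneType

open CfsgLib.Extraspecial CfsgLib.Extraspecial.Pair
open CfsgLib.ConwayFive (dec8 dec8_surj)

/-- Representatives of a configuration modulo the base point. -/
def Rep (k : Bool) (s ρ : V8) : Type :=
  {p : V8 × V8 // Cfg k s p.1 p.2 ∧ bf ρ p.1 = false ∧ bf ρ p.2 = false}

/-- An anchor as a number. -/
def anc : Fin 256 := 2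

theorem anc_spec : bf s0 (dec8 anc) = true := by decide +kernel

/-- The first vector of a representative. -/
def okA (k : Bool) (i : Fin 256) : Bool :=
  (dec8 i != 0) && (dec8 i != s0) && (bf s0 (dec8 i) == false) && (qf (dec8 i) == k) &&
    (bf (dec8 anc) (dec8 i) == false)

/-- The second vector of a representative. -/
def okB (k : Bool) (i j : Fin 256) : Bool :=
  okA k j && (bf (dec8 i) (dec8 j) == k) && (dec8 j != dec8 i) && (dec8 j != s0 + dec8 i)

theorem rep_count : ∀ k : Bool, (∑ i : Fin 256, if okA k i then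
    (Finset.univ.filter fun j => okB k i j = true).card else 0) = cond k 336 630 := by
  decide +kernel

theorem card_rep_std (k : Bool) : Nat.card (Rep k s0 (dec8 anc)) = cond k 336 630 := by
  classical
  have hb : Function.Bijective dec8 := (Fintype.bijective_iff_surjective_and_card dec8).mpr
    ⟨dec8_surj, by rw [Fintype.card_fin, ← Nat.card_eq_fintype_card]; simp⟩
  let e : Fin 256 ≃ V8 := Equiv.ofBijective dec8 hb
  obtain ⟨hs, -⟩ : s0 ≠ 0 ∧ True := ⟨by decide +kernel, trivial⟩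
  have q1 := (std_spec true).1
  have h : ∀ p : Fin 256 × Fin 256, (okA k p.1 && okB k p.1 p.2) = true ↔
      (Cfg k s0 (dec8 p.1) (dec8 p.2) ∧ bf (dec8 anc) (dec8 p.1) = false ∧
        bf (dec8 anc) (dec8 p.2) = false) := by
    intro p
    simp only [okA, okB, Bool.and_eq_true, bne_iff_ne, beq_iff_eq, ne_eq]
    constructor
    · rintro ⟨⟨⟨⟨⟨a1, a2⟩, a3⟩, a4⟩, a5⟩, ⟨⟨⟨⟨⟨⟨⟨b1, b2⟩, b3⟩, b4⟩, b5⟩, c1⟩, c2⟩, c3⟩⟩
      exact ⟨⟨hs, q1, a4, b4, a3, b3, c1, a1, a2, b1, b2, c2, c3⟩, a5, b5⟩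
    · rintro ⟨C, a5, b5⟩
      exact ⟨⟨⟨⟨⟨C.a0, C.as'⟩, C.sa⟩, C.qa⟩, a5⟩, ⟨⟨⟨⟨⟨⟨⟨C.b0, C.bs⟩, C.sb⟩, C.qb⟩, b5⟩, C.ab⟩, C.ba⟩, C.bas⟩⟩
  have e1 : Rep k s0 (dec8 anc) ≃ {p : Fin 256 × Fin 256 // (okA k p.1 && okB k p.1 p.2) = true} :=
    ((e.prodCongr e).subtypeEquiv (fun p => h p)).symm
  rw [Nat.card_congr e1, Nat.card_eq_fintype_card, Fintype.card_subtype, ← rep_count k,
    ← Finset.univ_product_univ, Finset.card_filter, Finset.sum_product]
  refine Finset.sum_congr rfl fun i _ => ?_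
  cases ho : okA k i <;> simp [ho]

theorem exists_rep {s : V8} (hs : s ≠ 0) (hqs : qf s = false) :
    ∃ ρ, bf ρ s = true ∧ ∀ k, Nat.card (Rep k s ρ) = cond k 336 630 := by
  obtain ⟨L, hL, rfl⟩ := move_singular (by decide +kernel : s0 ≠ 0) (std_spec true).1 hs hqs
  refine ⟨L (dec8 anc), by rw [iso_bf hL.1, bf_comm]; exact anc_spec, fun k => ?_⟩
  rw [← card_rep_std k]
  refine (Nat.card_congr ((L.toEquiv.prodCongr L.toEquiv).subtypeEquiv fun p => ?_)).symm
  show _ ↔ Cfg k (L s0) (L p.1) (L p.2) ∧ bf (L (dec8 anc)) (L p.1) = false ∧ bf (L (dec8 anc)) (L p.2) = false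
  rw [iso_bf hL.1, iso_bf hL.1]
  refine and_congr_left' ⟨fun C => C.map hL, fun C => ?_⟩
  have := C.map (good_inv hL)
  simpa [show ∀ w, (L⁻¹ : Lin) (L w) = w from L.symm_apply_apply] using this

theorem rep_eq {s ρ a a' : V8} (hρ : bf ρ s = true) (h : Eqm s a a') (ha : bf ρ a = false)
    (ha' : bf ρ a' = false) : a = a' := by
  rcases h with h | h
  · exact h
  · rw [h, bf_xr_right, ha', hρ] at ha
    exact absurd ha (by simp)

theorem rep_exists {s ρ : V8} (hρ : bf ρ s = true) (a : V8) : ∃ a', Eqm s a' a ∧ bf ρ a' = false := by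
  cases h : bf ρ a
  · exact ⟨a, Eqm.refl _ _, h⟩
  · exact ⟨xr a s, Or.inr rfl, by rw [bf_xr_right, h, hρ]; rfl⟩

variable {G : Type*} [Group G] [Finite G]

theorem orbit_card (K : Subgroup G) (S : Set G) {t : G} (hmem : ∀ c ∈ K, c * t * c⁻¹ ∈ S)
    (hsurj : ∀ r ∈ S, ∃ c ∈ K, c * t * c⁻¹ = r) :
    Nat.card S * Nat.card ↥(K ⊓ Subgroup.centralizer ({t} : Set G)) = Nat.card K := by
  classical
  haveI := Fintype.ofFinite S
  let f : K → S := fun c => ⟨(c : G) * t * (c : G)⁻¹, hmem c c.2⟩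
  have hfib : ∀ r : S, Nat.card {c : K // f c = r} = Nat.card ↥(K ⊓ Subgroup.centralizer ({t} : Set G)) := by
    rintro ⟨r, hr⟩
    obtain ⟨d, hd, rfl⟩ := hsurj r hr
    refine Nat.card_congr
      { toFun := fun c => ⟨d⁻¹ * (c.1 : G), Subgroup.mem_inf.mpr ⟨mul_mem (inv_mem hd) c.1.2,
          Subgroup.mem_centralizer_singleton_iff.mpr ?_⟩⟩
        invFun := fun c => ⟨⟨d * (c : G), mul_mem hd (Subgroup.mem_inf.mp c.2).1⟩, Subtype.ext ?_⟩
        left_inv := fun c => Subtype.ext (Subtype.ext (mul_inv_cancel_left _ _))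
        right_inv := fun c => Subtype.ext (inv_mul_cancel_left _ _) }
    · have e : (c.1 : G) * t * (c.1 : G)⁻¹ = d * t * d⁻¹ := congrArg Subtype.val c.2
      calc d⁻¹ * (c.1 : G) * t = d⁻¹ * ((c.1 : G) * t * (c.1 : G)⁻¹) * (c.1 : G) := by group
        _ = t * (d⁻¹ * (c.1 : G)) := by rw [e]; group
    · show d * (c : G) * t * (d * (c : G))⁻¹ = d * t * d⁻¹
      rw [mul_assoc d, Subgroup.mem_centralizer_singleton_iff.mp (Subgroup.mem_inf.mp c.2).2]
      group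
  rw [← Nat.card_congr (Equiv.sigmaFiberEquiv f), Nat.card_sigma, Finset.sum_congr rfl fun r _ => hfib r,
    Finset.sum_const, smul_eq_mul, Finset.card_univ, Nat.card_eq_fintype_card]

/-- The centraliser of a pair. -/
def cp (z g : G) : Subgroup G :=
  Subgroup.centralizer ({z} : Set G) ⊓ Subgroup.centralizer ({g * z * g⁻¹} : Set G)

theorem mem_cp {z g c : G} : c ∈ cp z g ↔ c * z = z * c ∧ c * (g * z * g⁻¹) = g * z * g⁻¹ * c := by
  rw [cp, Subgroup.mem_inf, Subgroup.mem_centralizer_singleton_iff, Subgroup.mem_centralizer_singleton_iff]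

namespace Fr

variable {z : G} {Q : Subgroup G} {v : G → V8} {g u : G} (F : Fr z Q v g u)
include F

local notation "z'" => g * z * g⁻¹
local notation "Q'" => Subgroup.map (MulEquiv.toMonoidHom (MulAut.conj g)) Q
local notation "sv" => v (g * z * g⁻¹)

theorem card_kd (k : Bool) {ρ : V8} (hρ : bf ρ sv = true) :
    Nat.card {t : G | Kd k z Q v g u t} = Nat.card (Rep k sv ρ) * Nat.card (V z g) := by
  classical
  choose xs hxs hxv using fun p : Rep k sv ρ => F.co.surj p.1.1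
  choose ys hys hyv using fun p : Rep k sv ρ => F.al_surj (w := p.1.2) ((bf_comm _ _).trans p.2.1.sb)
  have hxP : ∀ p, xs p ∈ P Q z g := fun p =>
    F.mem_P_of (hxs p) ((congrArg (fun w => bf w sv) (hxv p)).trans ((bf_comm _ _).trans p.2.1.sa))
  have hkd : ∀ (p : Rep k sv ρ) (e : V z g), Kd k z Q v g u ((e : G) * (xs p * ys p)) := fun p e => by
    have hex : (e : G) * xs p ∈ P Q z g := mul_mem (F.V_le_P e.2) (hxP p)
    rw [← mul_assoc]
    refine F.kd_of_cfg hex (hys p) (p.2.1.shift ?_ (hyv p).symm)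
    rw [F.co.mul _ (F.pr.V_le e.2) _ (hxs p), hxv]
    have := Eqm.xr (F.v_mem_V e.2) (Eqm.refl sv p.1.1)
    rwa [zero_xr] at this
  rw [← Nat.card_prod]
  refine (Nat.card_congr (Equiv.ofBijective (fun p : Rep k sv ρ × V z g =>
    (⟨(p.2 : G) * (xs p.1 * ys p.1), hkd p.1 p.2⟩ : {t : G | Kd k z Q v g u t})) ⟨?_, ?_⟩)).symm
  · rintro ⟨p, e⟩ ⟨p', e'⟩ h
    have h' : (e : G) * (xs p * ys p) = (e' : G) * (xs p' * ys p') := congrArg Subtype.val h
    rw [← mul_assoc, ← mul_assoc] at h'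
    obtain ⟨c1, c2⟩ := F.components (mul_mem (F.V_le_P e'.2) (hxP p')) (hys p')
      (mul_mem (F.V_le_P e.2) (hxP p)) (hys p) h'
    have hmul : ∀ (p : Rep k sv ρ) (e : V z g), Eqm sv (v ((e : G) * xs p)) p.1.1 := fun p e => by
      rw [F.co.mul _ (F.pr.V_le e.2) _ (hxs p), hxv]
      have := Eqm.xr (F.v_mem_V e.2) (Eqm.refl sv p.1.1)
      rwa [zero_xr] at this
    have e1 := rep_eq hρ ((hmul p e).symm.trans (c1.trans (hmul p' e'))) p.2.2.1 p'.2.2.1
    have e2 := rep_eq hρ ((hyv p).trans (c2.trans (hyv p').symm)) p.2.2.2 p'.2.2.2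
    obtain rfl : p = p' := Subtype.ext (Prod.ext e1 e2)
    exact Prod.ext rfl (Subtype.ext (mul_right_cancel (mul_right_cancel h')))
  · rintro ⟨t, ht⟩
    obtain ⟨x, hx, y, hy, rfl, -, C⟩ := id (α := Kd k z Q v g u t) ht
    obtain ⟨a, haE, ha⟩ := rep_exists hρ (v x)
    obtain ⟨b, hbE, hb⟩ := rep_exists hρ (v (al u y))
    let p : Rep k sv ρ := ⟨(a, b), C.shift haE hbE, ha, hb⟩
    have hεx : x * (xs p)⁻¹ ∈ V z g := F.mem_V_of (mul_mem (F.mem_P.mp hx).1 (inv_mem (hxs p))) (by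
      rw [F.co.mul _ (F.mem_P.mp hx).1 _ (inv_mem (hxs p)), F.co.v_inv (hxs p), hxv]
      have := Eqm.xr haE.symm (Eqm.refl sv a)
      rwa [xr_self] at this)
    have hεy : (ys p)⁻¹ * y ∈ V z g := F.al_cancel (hys p) hy ((hyv p).symm.trans hbE)
    have hc1 : Commute ((ys p)⁻¹ * y) (xs p * ys p) :=
      (F.V_central hεy (Or.inl (hxP p))).mul_right (F.V_central hεy (Or.inr (hys p)))
    refine ⟨⟨p, ⟨_, mul_mem hεx hεy⟩⟩, Subtype.ext ?_⟩
    show x * (xs p)⁻¹ * ((ys p)⁻¹ * y) * (xs p * ys p) = x * y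
    rw [mul_assoc (x * (xs p)⁻¹), hc1.eq]
    group

theorem kd_card_stab {k : Bool} {t : G} (h : Kd k z Q v g u t) {ρ : V8} (hρ : bf ρ sv = true) :
    Nat.card (Rep k sv ρ) * Nat.card (V z g) *
      Nat.card ↥(cp z g ⊓ Subgroup.centralizer ({t} : Set G)) = Nat.card (cp z g) := by
  rw [← F.card_kd k hρ]
  refine orbit_card (cp z g) _ (fun c hc => ?_) (fun r hr => ?_)
  · obtain ⟨hcz, hcs⟩ := mem_cp.mp hc
    exact F.co.kd_conj F F hcz (by rw [hcs, mul_inv_cancel_right]) h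
  · obtain ⟨c, hcz, hcs, e⟩ := F.co.kd_orbit F h hr
    exact ⟨c, mem_cp.mpr ⟨hcz, hcs⟩, e⟩

/-- The centralisers of the two kinds in the centraliser of the pair. -/
theorem card_ratio {t t₂ : G} (h : Kd true z Q v g u t) (h₂ : Kd false z Q v g u t₂) :
    8 * Nat.card ↥(cp z g ⊓ Subgroup.centralizer ({t} : Set G)) =
      15 * Nat.card ↥(cp z g ⊓ Subgroup.centralizer ({t₂} : Set G)) := by
  obtain ⟨ρ, hρ, hc⟩ := exists_rep F.sv_ne F.sv_qf
  have e1 := F.kd_card_stab h hρ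
  have e2 := F.kd_card_stab h₂ hρ
  rw [hc] at e1 e2
  simp only [cond_true, cond_false] at e1 e2
  have e3 : Nat.card (V z g) * (42 * (8 * Nat.card ↥(cp z g ⊓ Subgroup.centralizer ({t} : Set G)))) =
      Nat.card (V z g) * (42 * (15 * Nat.card ↥(cp z g ⊓ Subgroup.centralizer ({t₂} : Set G)))) := by
    have := e1.trans e2.symm
    linarith
  exact Nat.eq_of_mul_eq_mul_left (by norm_num) (Nat.eq_of_mul_eq_mul_left Nat.card_pos e3)

end Fr

end CfsgLib.CoOneType
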