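import Cfsg.Agent.Lib.CoOneType.Apart
import Cfsg.Agent.Lib.CoOneType.Build

/-!
Exactly three classes of involutions.
-/

set_option autoImplicit false

namespace CfsgLib.CoOneType

open CfsgLib.Extraspecial CfsgLib.Extraspecial.Pair

variable {G : Type*} [Group G] [Finite G]

theorem Co.three_classes {z : G} {Q : Subgroup G} {v : G → V8} (H : Co z Q v) :
    ∃ a b c : G, orderOf a = 2 ∧ orderOf b = 2 ∧ orderOf c = 2 ∧ ¬ IsConj a b ∧ ¬ IsConj a c ∧
      ¬ IsConj b c ∧ ∀ x : G, orderOf x = 2 → IsConj x a ∨ IsConj x b ∨ IsConj x c := by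
  haveI : Fact (Nat.Prime 2) := ⟨Nat.prime_two⟩
  obtain ⟨g, hg, hgz⟩ := H.nwc
  obtain ⟨u, F⟩ := H.exists_fr (⟨H.st, hg, hgz, by rw [H.card]; norm_num⟩ : Pair Q z g)
  obtain ⟨t, ht⟩ := F.exists_kd true
  obtain ⟨t₂, ht₂⟩ := F.exists_kd false
  have hord : ∀ {k : Bool} {r : G}, Kd k z Q v g u r → orderOf r = 2 := fun h =>
    orderOf_eq_prime (by rw [pow_two]; exact F.kd_sq h) (F.kd_ne_one h)
  refine ⟨z, t, t₂, H.st.ordz, hord ht, hord ht₂, fun e => H.kd_not_isConj F ht e.symm,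
    fun e => H.kd_not_isConj F ht₂ e.symm, F.kd_apart ht ht₂, fun x hx => ?_⟩
  rcases H.classes hx with h | ⟨k, g', u', r, F', hr, hxr⟩
  · exact Or.inl h
  cases k
  · exact Or.inr (Or.inr (hxr.trans (H.kd_isConj F' F hr ht₂)))
  · exact Or.inr (Or.inl (hxr.trans (H.kd_isConj F' F hr ht)))

end CfsgLib.CoOneType
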