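import Cfsg.Agent.Lib.CoOneType.Kind

/-!
An involution with a displacement of sixteen values has a conjugate with at most four.
-/

set_option autoImplicit false

namespace CfsgLib.CoOneType

open CfsgLib.Extraspecial CfsgLib.Extraspecial.Pair

theorem Inv.fixed_mem {L : Lin} (I : Inv L) (h : ¬ Small L) {k : V8} (hk : L k = k) :
    ∃ x, del L x = k := by
  have h16 : Nat.card (del L).range = 16 := by
    rcases I.card_cases with e | e | e
    · exact absurd (e.le.trans (by norm_num)) h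
    · exact absurd e.le h
    · exact e
  have hn : Nat.card {v : V8 // L v = v} = 16 := by
    have h0 := card_eq L
    rw [h16] at h0
    unfold nfix at h0
    omega
  let f : (del L).range → {v : V8 // L v = v} := fun r => ⟨r.1, by
    obtain ⟨x, hx⟩ := r.2
    rw [← hx]; exact I.fix x⟩
  have hf : Function.Bijective f := (Nat.bijective_iff_injective_and_card f).mpr
    ⟨fun a b e => Subtype.ext (congrArg Subtype.val e :), h16.trans hn.symm⟩
  obtain ⟨⟨_, x, rfl⟩, hr⟩ := hf.2 ⟨k, hk⟩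
  exact ⟨x, congrArg Subtype.val hr⟩

theorem del_xr (L : Lin) (w : V8) : del L w = xr (app L w) w := rfl

theorem InSpan.of_eqm {s a b v w : V8} (h : Eqm s v w) (hw : InSpan s a b w) : InSpan s a b v := by
  obtain ⟨i, j, k, rfl⟩ := hw
  rcases h with h | h
  · exact ⟨i, j, k, h⟩
  · refine ⟨!i, j, k, h.trans ?_⟩
    show cond i s 0 + cond j a 0 + cond k b 0 + s = _
    cases i
    · simp only [Bool.not_false, cond_true, cond_false]; abel
    · simp only [Bool.not_true, cond_true, cond_false]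
      rw [show s + cond j a 0 + cond k b 0 + s = cond j a 0 + cond k b 0 + (s + s) by abel, add_self]
      abel

theorem InSpan.zero (s a b : V8) : InSpan s a b 0 := ⟨false, false, false, by simp⟩

theorem InSpan.second (s a b : V8) : InSpan s a b a := ⟨false, true, false, by simp⟩

theorem Small.of_inSpan {L : Lin} (I : Inv L) {s a b : V8} (h : ∀ x, InSpan s a b (del L x)) : Small L := by
  classical
  have h' : ∀ r : (del L).range, InSpan s a b r.1 := fun ⟨_, x, rfl⟩ => h x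
  choose i j k e using h'
  have hle := Nat.card_le_card_of_injective (fun r => (i r, j r, k r)) (fun r r' q => by
    simp only [Prod.mk.injEq] at q
    exact Subtype.ext (by rw [e r, e r', q.1, q.2.1, q.2.2]))
  simp only [Nat.card_prod, Nat.card_eq_fintype_card (α := Bool), Fintype.card_bool] at hle
  rcases I.card_cases with q | q | q <;> unfold Small <;> omega

variable {G : Type*} [Group G] [Finite G]

/-- The linear map of an element of the centraliser. -/
def Act (Q : Subgroup G) (v : G → V8) (c : G) (L : Lin) : Prop :=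
  ∀ a ∈ Q, v (c * a * c⁻¹) = app L (v a)

/-- An element with a conjugate of small displacement. -/
def Red (z : G) (Q : Subgroup G) (v : G → V8) (t : G) : Prop :=
  ∃ t₂ L, IsConj t t₂ ∧ t₂ * z = z * t₂ ∧ Good L ∧ Act Q v t₂ L ∧ Small L

theorem Red.of_isConj {z : G} {Q : Subgroup G} {v : G → V8} {t t' : G} (h : IsConj t t')
    (h' : Red z Q v t') : Red z Q v t := by
  obtain ⟨t₂, L, e, r⟩ := h'
  exact ⟨t₂, L, h.trans e, r⟩

namespace Co

variable {z : G} {Q : Subgroup G} {v : G → V8} (H : Co z Q v)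
include H

theorem inv_act {c : G} {L : Lin} (hc : c * z = z * c) (hL : Good L) (hA : Act Q v c L) (h2 : c * c ∈ Q) :
    Inv L := by
  refine ⟨hL, fun w => ?_⟩
  obtain ⟨q, hq, rfl⟩ := H.surj w
  show app L (app L (v q)) = v q
  rw [← hA q hq, ← hA _ (H.conj_mem hc hq),
    show c * (c * q * c⁻¹) * c⁻¹ = (c * c) * q * (c * c)⁻¹ by group, H.v_inner h2 hq]

theorem v_comm {c q : G} {L : Lin} (hc : c * z = z * c) (hA : Act Q v c L) (hq : q ∈ Q) :
    c * q * c⁻¹ * q⁻¹ ∈ Q ∧ v (c * q * c⁻¹ * q⁻¹) = del L (v q) := by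
  refine ⟨mul_mem (H.conj_mem hc hq) (inv_mem hq), ?_⟩
  rw [H.mul _ (H.conj_mem hc hq) _ (inv_mem hq), H.v_inv hq, hA q hq]
  rfl

end Co

/-- An involution centralising a pair, with its linear map. -/
structure Cent (z : G) (Q : Subgroup G) (v : G → V8) (g t : G) (L : Lin) : Prop where
  sq : t * t = 1
  cz : t * z = z * t
  cs : t * (g * z * g⁻¹) = g * z * g⁻¹ * t
  act : Act Q v t L
  inv : Inv L

namespace Fr

variable {z : G} {Q : Subgroup G} {v : G → V8} {g u : G} (F : Fr z Q v g u)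
include F

local notation "z'" => g * z * g⁻¹
local notation "Q'" => Subgroup.map (MulEquiv.toMonoidHom (MulAut.conj g)) Q
local notation "sv" => v (g * z * g⁻¹)

theorem act_s {c : G} {L : Lin} (hs : c * z' = z' * c) (hA : Act Q v c L) : app L sv = sv := by
  rw [← hA _ F.pr.mem, hs, mul_inv_cancel_right]

theorem map_s {c : G} {L : Lin} (hs : c * z' = z' * c) (hA : Act Q v c L) {a b : V8} (h : Eqm sv a b) :
    Eqm sv (app L a) (app L b) := by
  have := Eqm.map L h
  rwa [F.act_s hs hA] at this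

theorem Q'_norm {c : G} (hz : c * z = z * c) (hs : c * z' = z' * c) {q : G} (hq : q ∈ Q') :
    c * q * c⁻¹ ∈ Q' :=
  (Subgroup.mem_normalizer_iff.mp (Subgroup.mem_inf.mp
    (F.pr.centralizer_V_le (F.pr.mem_centralizer_V.mpr ⟨hz, hs⟩))).2 q).mp hq

theorem P'_act {c y : G} {L : Lin} (hz : c * z = z * c) (hs : c * z' = z' * c) (hA : Act Q v c L)
    (hy : y ∈ P' Q z g) :
    c * y * c⁻¹ ∈ P' Q z g ∧ Eqm sv (v (al u (c * y * c⁻¹))) (app L (v (al u y))) ∧
      c * y * c⁻¹ * y⁻¹ ∈ P' Q z g ∧ Eqm sv (v (al u (c * y * c⁻¹ * y⁻¹))) (del L (v (al u y))) := by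
  obtain ⟨h1, h2⟩ := F.transport F hz (by rw [hs, mul_inv_cancel_right]) hy
  refine ⟨h1, h2 L hA, mul_mem h1 (inv_mem hy), ?_⟩
  exact (F.v_al_mul h1 (inv_mem hy)).trans (Eqm.xr (h2 L hA) (F.al_inv hy))

theorem al_congr {y e : G} (hy : y ∈ P' Q z g) (he : e ∈ V z g) :
    Eqm sv (v (al u (y * e))) (v (al u y)) := by
  have := (F.v_al_mul hy (F.V_le_P' he)).trans (Eqm.xr (Eqm.refl _ _) (F.al_V he))
  rwa [xr_zero] at this

theorem P'_comm_iff {r y : G} (hr : r ∈ P' Q z g) (hy : y ∈ P' Q z g) :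
    r * y = y * r ↔ bf (v (al u r)) (v (al u y)) = false := by
  rw [F.al_commute_iff hr hy, F.co.comm _ (F.mem_P.mp (F.al_mem hr)).1 _ (F.mem_P.mp (F.al_mem hy)).1]

theorem split (w : V8) : bf w sv = false ∨ ∃ w', bf w' sv = false ∧ w = xr (v u) w' := by
  cases e : bf w sv
  · exact Or.inl rfl
  · exact Or.inr ⟨xr (v u) w, by rw [bf_xr_left, F.u_not_perp, e]; rfl, (xr_cancel _ _).symm⟩

/-- The effect of an element of `P'` on the linear map. -/
theorem mul_P' {c y : G} {L M : Lin} (hs : c * z' = z' * c) (hA : Act Q v c L)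
    (hy : y ∈ P' Q z g) (hM : Act Q v (c * y) M) :
    (∀ w, bf w sv = false → Eqm sv (app M w) (app L w)) ∧
      app M (v u) = xr (app L (v (al u y))) (app L (v u)) := by
  have e : ∀ q ∈ Q, app M (v q) = app L (v (y * q * y⁻¹)) := fun q hq => by
    rw [← hM q hq, ← hA _ (F.P'_norm hy hq)]; congr 1; group
  constructor
  · intro w hw
    obtain ⟨q, hq, rfl⟩ := F.co.surj w
    rw [e q hq]
    have := Eqm.map L (F.v_conj_P (F.mem_P_of hq hw) hy)
    rwa [F.act_s hs hA] at this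
  · rw [e u F.uQ, show y * u * y⁻¹ = (al u y)⁻¹ * u by rw [al]; group,
      F.co.mul _ (inv_mem (F.mem_P.mp (F.al_mem hy)).1) _ F.uQ, F.co.v_inv (F.mem_P.mp (F.al_mem hy)).1,
      app_xr]

/-- The element moved by the second swap. -/
theorem swap_mem {t u' : G} (hz : t * z = z * t) (hs : t * z' = z' * t) (hu : u' ∈ Q')
    (h3 : u' * (z * z') * u'⁻¹ = z) : t * u' * t⁻¹ * u'⁻¹ ∈ P' Q z g := by
  refine F.mem_P'.mpr ⟨mul_mem (F.Q'_norm hz hs hu) (inv_mem hu), mul_inv_eq_iff_eq_mul.mp ?_⟩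
  have e : u'⁻¹ * z * u' = z * z' := by
    conv_lhs => arg 1; arg 2; rw [← h3]
    group
  have e2 : t⁻¹ * (z * z') * t = z * z' := by
    rw [mul_assoc t⁻¹, ((show Commute z t from hz.symm).mul_left (show Commute z' t from hs.symm)).eq,
      inv_mul_cancel_left]
  calc t * u' * t⁻¹ * u'⁻¹ * z * (t * u' * t⁻¹ * u'⁻¹)⁻¹
      = t * u' * (t⁻¹ * (u'⁻¹ * z * u') * t) * u'⁻¹ * t⁻¹ := by group
    _ = t * (u' * (z * z') * u'⁻¹) * t⁻¹ := by rw [e, e2]; group
    _ = z := by rw [h3, hz, mul_inv_cancel_right]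

/-- When the vector `b` is singular, it is orthogonal to the vector of the second swap. -/
theorem key {t u' : G} {L : Lin} (D : Cent z Q v g t L) (hbig : ¬ Small L)
    (hH : ∀ w, bf w sv = false → qf (del L w) = false) (hu : u' ∈ Q')
    (h3 : u' * (z * z') * u'⁻¹ = z)
    (hqb : qf (del L (v u)) = false) :
    bf (v (al u (t * u' * t⁻¹ * u'⁻¹))) (del L (v u)) = false := by
  have I := D.inv
  have hLs := F.act_s D.cs D.act
  have hs := I.fixed_mem hbig hLs
  obtain ⟨h1, h2, C, bs, bh1, bh2, hsurj, hmap, hbn⟩ := I.triple hbig hs F.sv_ne F.sv_qf hH F.u_not_perp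
  set b := del L (v u) with hbdef
  have hy := F.swap_mem D.cz D.cs hu h3
  set y := t * u' * t⁻¹ * u'⁻¹ with hydef
  obtain ⟨y', hy', hy'b⟩ := F.al_surj (w := b) ((bf_comm _ _).trans bs)
  have hy2 : y' * y' = 1 := (F.sq_rel hy').1.mpr (by
    rw [← hy'b.qf_eq F.sv_qf (F.P_perp (F.al_mem hy'))]; exact hqb)
  obtain ⟨-, -, hνP, hν⟩ := F.P'_act D.cz D.cs D.act hy'
  have hLb : app L b = b := I.fix _
  have hνV : t * y' * t⁻¹ * y'⁻¹ ∈ V z g := F.al_inj hνP (hν.trans (by
    have h := Eqm.xr (F.map_s D.cs D.act hy'b.symm) hy'b.symm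
    rw [hLb, xr_self] at h
    exact h))
  have hwz : t * y' * z = z * (t * y') :=
    (show Commute t z from D.cz).mul_left (show Commute y' z from (F.mem_P'.mp hy').2)
  have hws : t * y' * z' = z' * (t * y') :=
    (show Commute t z' from D.cs).mul_left (show Commute y' z' from F.P'_comm hy')
  have htt : t⁻¹ = t := inv_eq_of_mul_eq_one_right D.sq
  have hw2 : t * y' * (t * y') = t * y' * t⁻¹ * y'⁻¹ := by
    rw [htt, inv_eq_of_mul_eq_one_right hy2]; group
  obtain ⟨M, hMg, hM⟩ := F.co.par _ hwz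
  have J : Inv M := F.co.inv_act hwz hMg hM (hw2 ▸ F.pr.V_le hνV)
  obtain ⟨hMP, hMu⟩ := F.mul_P' D.cs D.act hy' hM
  have hMd : ∀ w, bf w sv = false → Eqm sv (del M w) (del L w) := fun w hw =>
    Eqm.xr (hMP w hw) (Eqm.refl sv w)
  have hMdu : Eqm sv (del M (v u)) 0 := by
    have h := Eqm.map L hy'b.symm
    rw [hLs, hLb] at h
    have h2 := Eqm.xr (Eqm.xr h (Eqm.refl sv (app L (v u)))) (Eqm.refl sv (v u))
    rw [← hMu, xr_assoc b, ← del_xr, ← del_xr, ← hbdef, xr_self] at h2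
    exact h2
  have hspan : ∀ w, InSpan sv h1 h2 (del M w) := fun w => by
    rcases F.split w with hw | ⟨w', hw', rfl⟩
    · exact InSpan.of_eqm (hMd w hw) (hmap w hw)
    · refine InSpan.of_eqm ?_ (hmap w' hw')
      have := Eqm.xr hMdu (hMd w' hw')
      rwa [zero_xr, show xr (del M (v u)) (del M w') = del M (xr (v u) w') from
        (map_add (del M) _ _).symm] at this
  have hsm : Small M := Small.of_inSpan J hspan
  have hne : ∃ w, M w ≠ w := by
    by_contra! hall
    obtain ⟨w, hw, e⟩ := hsurj h1 (InSpan.second _ _ _)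
    have h := hMd w hw
    rw [show del M w = 0 from del_eq_zero.mpr (hall w), e] at h
    rcases eqm_zero.mp h.symm with h | h
    · exact C.a0 h
    · exact C.as' h
  obtain ⟨s1, x0, hx0, hs10, hqs1, hperp⟩ := J.small_vector hne hsm
  have hs1span : InSpan sv h1 h2 s1 := hx0 ▸ hspan x0
  -- lifts of the image of `L` are centralised
  have hfix : ∀ {x : V8} {p : G}, p ∈ Q → v p = del L x → qf (del L x) = false →
      Commute p (t * y') := by
    intro x p hp hpv hq
    have ht := F.co.fixed_lift D.sq D.cz D.act hp (w := x) (hpv.trans ((del_xr L x).trans (xr_comm _ _)))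
      (hpv ▸ hq)
    have hpP : p ∈ P Q z g := F.mem_P_of hp (by rw [hpv, bf_comm]; exact I.perp hLs x)
    have hc : bf (v p) (v (al u y')) = false := by
      rw [← hy'b.bf_eq (F.P_perp hpP), hpv]; exact I.iso x (v u)
    exact (show Commute p t from ht.symm).mul_right (show Commute p y' from (F.comm_rel hpP hy').1 hc)
  obtain ⟨w1, hw1, e1⟩ := hsurj s1 hs1span
  obtain ⟨e, heQ, hev⟩ := F.co.surj s1
  have he2 : e * e = 1 := (F.co.sq e heQ).mp (hev ▸ hqs1)
  have he1 : e ≠ 1 := fun h => hs10 (by rw [← hev, h, F.co.v_one])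
  have hez : e ≠ z := fun h => hs10 (by rw [← hev, h, F.co.v_z])
  obtain ⟨g₁, hg₁, hp₁⟩ := F.co.exists_pair heQ he2 he1 hez
  obtain ⟨u₁, F₁⟩ := F.co.exists_fr hp₁
  have hsv : v (g₁ * z * g₁⁻¹) = s1 := by rw [hg₁, hev]
  have hwe : t * y' * (g₁ * z * g₁⁻¹) = g₁ * z * g₁⁻¹ * (t * y') := by
    rw [hg₁]; exact (hfix heQ (hev.trans e1.symm) (e1.symm ▸ hqs1)).symm.eq
  obtain ⟨x₁, hx₁, y₁, hy₁, hxy⟩ := F₁.mem_radical hwz hwe (fun p hp => by
    rw [hsv, hM p (F₁.mem_P.mp hp).1]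
    rcases hperp (v p) (hsv ▸ F₁.P_perp hp) with h | h
    · exact Or.inl (del_eq_zero.mp h)
    · exact Or.inr ((app_eq_add_del M _).trans (by rw [h]; rfl)))
  have hort : ∀ {x : V8}, qf (del L x) = false →
      bf (del L x) (v x₁) = false ∧ bf (del L x) (v (al u₁ y₁)) = false := by
    intro x hq
    obtain ⟨p, hp, hpv⟩ := F.co.surj (del L x)
    have hpP : p ∈ P Q z g₁ := F₁.mem_P_of hp (by rw [hpv, hsv, ← e1]; exact I.iso x w1)
    have hc := F₁.conj_P hpP hx₁ hy₁
    rw [← hxy, (hfix hp hpv hq).eq, mul_inv_cancel_right] at hc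
    have hc' := right_eq_mul.mp hc
    rw [← hpv]
    cases hi : bf (v p) (v x₁) <;> cases hj : bf (v p) (v (al u₁ y₁)) <;>
      simp only [hi, hj, cond_true, cond_false, one_mul, mul_one] at hc'
    · exact ⟨rfl, rfl⟩
    · exact absurd hc' F₁.pr.mul_ne_one
    · exact absurd hc' F.pr.s.ne_one
    · rw [← mul_assoc, F.pr.s.zz, one_mul] at hc'
      exact absurd hc' F₁.pr.ne_one'
  obtain ⟨x, hx⟩ := hs
  obtain ⟨w2, hw2', e2⟩ := hsurj h1 (InSpan.second _ _ _)
  obtain ⟨w3, hw3', e3⟩ := hsurj h2 ⟨false, false, true, by simp⟩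
  have os := hort (x := x) (hx.symm ▸ F.sv_qf)
  have o1 := hort (x := w2) (hH w2 hw2')
  have o2 := hort (x := w3) (hH w3 hw3')
  have o3 := hort (x := v u) hqb
  rw [hx] at os; rw [e2] at o1; rw [e3] at o2; rw [← hbdef] at o3
  obtain ⟨q1, q2, q3⟩ := C.perp_four bs bh1 bh2 hqb hbn os.1 o1.1 o2.1 ((bf_comm _ _).trans o3.1)
    os.2 o1.2 o2.2 ((bf_comm _ _).trans o3.2)
  have hww : t * y' * (t * y') = 1 := by
    rw [hxy, F₁.sq_mul hx₁ hy₁, q3, (F₁.co.sq _ (F₁.mem_P.mp hx₁).1).mp q1, (F₁.sq_rel hy₁).1.mpr q2]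
    simp
  have hty : Commute t y' := by
    show t * y' = y' * t
    rw [hw2, mul_inv_eq_one, mul_inv_eq_iff_eq_mul] at hww
    exact hww
  have hy'Q' := (F.mem_P'.mp hy').1
  have huy : Commute y' (t * y) := by
    have h := hty.map (MulAut.conj u')
    rw [MulAut.conj_apply, MulAut.conj_apply] at h
    have ety : u' * t * u'⁻¹ = t * y := by
      rw [hydef, htt, show t * (t * u' * t * u'⁻¹) = (t * t) * u' * t * u'⁻¹ by group, D.sq, one_mul]
    rw [ety] at h
    rcases F.pr.s'.comm_cases hu hy'Q' with e | e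
    · rw [e] at h; exact h.symm
    · rw [e] at h
      have hz' : Commute z' (t * y) :=
        (show Commute z' t from D.cs.symm).mul_right (show Commute z' y from (F.P'_comm hy).symm)
      have := hz'.inv_left.mul_left h.symm
      rwa [inv_mul_cancel_left] at this
  have hyy : Commute y y' := by
    have := (hty.inv_left).mul_left huy.symm
    rwa [inv_mul_cancel_left] at this
  have hb' := (F.P'_comm_iff hy hy').mp hyy.eq
  rwa [← hy'b.bf_eq (F.P_perp (F.al_mem hy))] at hb'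

/-- When the vector of the second swap is a displacement, a conjugate has small displacement. -/
theorem small_of_mem {t u' : G} {L : Lin} (D : Cent z Q v g t L) (hu : u' ∈ Q')
    (h1 : u' * z' * u'⁻¹ = z') (h2 : u' * z * u'⁻¹ = z * z') (h3 : u' * (z * z') * u'⁻¹ = z) {r : V8}
    (hr : bf r sv = false) (he : Eqm sv (del L r) (v (al u (t * u' * t⁻¹ * u'⁻¹)))) : Red z Q v t := by
  have hy := F.swap_mem D.cz D.cs hu h3
  obtain ⟨y', hy', hy'r⟩ := F.al_surj (w := r) hr
  obtain ⟨-, -, hcP, hc⟩ := F.P'_act D.cz D.cs D.act hy'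
  set y := t * u' * t⁻¹ * u'⁻¹ with hydef
  set n := t * y' * t⁻¹ * y'⁻¹ with hndef
  have hny : Eqm sv (v (al u n)) (v (al u y)) := by
    refine hc.trans ?_
    have h := Eqm.xr (F.map_s D.cs D.act hy'r.symm) hy'r.symm
    exact h.trans he
  have hV : n⁻¹ * y ∈ V z g := F.al_cancel hcP hy hny
  set q := u' * y' with hq
  have hqQ : q ∈ Q' := mul_mem hu (F.mem_P'.mp hy').1
  have hqz : q * z * q⁻¹ = z * z' := by
    rw [hq, show u' * y' * z * (u' * y')⁻¹ = u' * (y' * z * y'⁻¹) * u'⁻¹ by group, (F.mem_P'.mp hy').2,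
      mul_inv_cancel_right, h2]
  have hqs : q * z' = z' * q := F.pr.s'.z_comm hqQ
  set k := t * q * t⁻¹ * q⁻¹ with hk
  have hkV : k ∈ V z g := by
    have e : k = y * (u' * n * u'⁻¹) := by rw [hk, hydef, hndef, hq]; group
    have hnQ := (F.mem_P'.mp hcP).1
    have hyn : y * n ∈ V z g := by
      have e' : y * n = n * n * (n⁻¹ * y) := by
        calc y * n = n * ((n⁻¹ * y) * n) := by group
          _ = n * (n * (n⁻¹ * y)) := by rw [(F.V_central hV (Or.inr hcP)).eq]
          _ = _ := by group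
      rw [e']
      refine mul_mem ?_ hV
      rcases F.pr.s'.sq_cases hnQ with e | e <;> rw [e]
      · exact one_mem _
      · exact F.z'_mem_V
    rw [e]
    rcases F.pr.s'.comm_cases hu hnQ with e | e <;> rw [e]
    · exact hyn
    · rw [show y * (z' * n) = (y * z') * n by group, F.P'_comm hy, mul_assoc]
      exact mul_mem F.z'_mem_V hyn
  have hsq : k * (q * k * q⁻¹) = 1 := by
    have h : t * (q * q) * t⁻¹ = q * q := by
      rcases F.pr.s'.sq_cases hqQ with e | e <;> rw [e]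
      · group
      · rw [D.cs, mul_inv_cancel_right]
    calc k * (q * k * q⁻¹) = (t * (q * q) * t⁻¹) * (q * q)⁻¹ := by rw [hk]; group
      _ = 1 := by rw [h, mul_inv_cancel]
  have hkq : q * k * q⁻¹ = k := by
    have := inv_eq_of_mul_eq_one_right hsq
    rw [inv_eq_of_mul_eq_one_right (F.V_sq hkV)] at this
    exact this.symm
  have hk2 : k = 1 ∨ k = z' := by
    rcases F.pr.mem_V.mp hkV with e | e | e | e
    · exact Or.inl e
    · rw [e, hqz] at hkq; exact absurd hkq F.pr.mul_ne_left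
    · exact Or.inr e
    · exfalso
      have hqq : q * z' * q⁻¹ = z' := by rw [hqs, mul_inv_cancel_right]
      rw [e, show q * (z * z') * q⁻¹ = (q * z * q⁻¹) * (q * z' * q⁻¹) by group, hqz, hqq] at hkq
      exact F.pr.ne_one' (mul_eq_left.mp hkq)
  -- the conjugate by `g`
  obtain ⟨p, hp, hpq⟩ := hqQ
  change g * p * g⁻¹ = q at hpq
  set t₂ := g⁻¹ * t * g with ht₂
  have h2z : t₂ * z = z * t₂ := by
    calc t₂ * z = g⁻¹ * (t * z') * g := by rw [ht₂]; group
      _ = g⁻¹ * (z' * t) * g := by rw [D.cs]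
      _ = _ := by rw [ht₂]; group
  obtain ⟨L₂, hL₂, hA₂⟩ := F.co.par t₂ h2z
  have I₂ : Inv L₂ := F.co.inv_act h2z hL₂ hA₂ (by
    rw [ht₂, show g⁻¹ * t * g * (g⁻¹ * t * g) = g⁻¹ * (t * t) * g by group, D.sq]
    simp)
  obtain ⟨w, hw, hwz⟩ := F.pr.mem'
  change g * w * g⁻¹ = z at hwz
  have e1 : app L₂ (v w) = v w := by
    rw [← hA₂ w hw]
    congr 1
    rw [ht₂, show g⁻¹ * t * g * w * (g⁻¹ * t * g)⁻¹ = g⁻¹ * (t * (g * w * g⁻¹) * t⁻¹) * g by group, hwz,
      D.cz, mul_inv_cancel_right, ← hwz]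
    group
  have e2 : app L₂ (v p) = v p := by
    have e : t₂ * p * t₂⁻¹ = g⁻¹ * k * g * p := by
      rw [ht₂, hk, ← hpq]; group
    rw [← hA₂ p hp, e]
    rcases hk2 with e | e <;> rw [e]
    · simp
    · rw [show g⁻¹ * z' * g = z by group, F.co.mul z F.co.z_mem p hp, F.co.v_z, zero_xr]
  have e3 : bf (v p) (v w) = true := by
    by_contra h
    rw [Bool.not_eq_true, F.co.comm p hp w hw] at h
    have hc := (show Commute p w from h).map (MulAut.conj g)
    rw [MulAut.conj_apply, MulAut.conj_apply, hpq, hwz] at hc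
    rw [hc.eq, mul_inv_cancel_right] at hqz
    exact F.pr.mul_ne_left hqz.symm
  exact ⟨t₂, L₂, isConj_iff.mpr ⟨g⁻¹, by rw [ht₂]; group⟩, h2z, hL₂, hA₂, I₂.fixed_pair e1 e2 e3⟩

end Fr

namespace Co

variable {z : G} {Q : Subgroup G} {v : G → V8} (H : Co z Q v)
include H

/-- Every involution of the centraliser has a conjugate with small displacement. -/
theorem reduce {t : G} (ht : t * t = 1) (htz : t * z = z * t) : Red z Q v t := by
  obtain ⟨L, hL, hA⟩ := H.par t htz
  by_cases hbig : Small L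
  · exact ⟨t, L, IsConj.refl t, htz, hL, hA, hbig⟩
  have I : Inv L := H.inv_act htz hL hA (ht ▸ one_mem Q)
  obtain ⟨s, x0, hx0, hs0, hqs, hH⟩ := I.big_vector hbig
  obtain ⟨e, heQ, hev⟩ := H.surj s
  have he2 : e * e = 1 := (H.sq e heQ).mp (hev ▸ hqs)
  have he1 : e ≠ 1 := fun h => hs0 (by rw [← hev, h, H.v_one])
  have hez : e ≠ z := fun h => hs0 (by rw [← hev, h, H.v_z])
  obtain ⟨g, hg, hp⟩ := H.exists_pair heQ he2 he1 hez
  obtain ⟨u, F⟩ := H.exists_fr hp
  set z₁ := g * z * g⁻¹ with hz₁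
  have hsv : v z₁ = s := by rw [hg, hev]
  subst hsv
  have hts : t * z₁ = z₁ * t :=
    hg.symm ▸ H.fixed_lift ht htz hA heQ (w := x0) (hev.trans (hx0.symm.trans
      ((del_xr L x0).trans (xr_comm _ _)))) (hev ▸ hqs)
  have D : Cent z Q v g t L := ⟨ht, htz, hts, hA, I⟩
  obtain ⟨u', hu', s1, s2, s3⟩ := F.pr.exists_swap'
  obtain ⟨h1, h2, C, bs, bh1, bh2, hsurj, hmap, hbn⟩ :=
    I.triple hbig ⟨x0, hx0⟩ F.sv_ne F.sv_qf hH F.u_not_perp
  have hy := F.swap_mem htz hts hu' s3
  set y := t * u' * t⁻¹ * u'⁻¹ with hydef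
  set a := v (al u y) with hadef
  set b := del L (v u) with hbdef
  have sa : bf (v z₁) a = false := (bf_comm _ _).trans (F.P_perp (F.al_mem hy))
  have hperp : ∀ r, InSpan (v z₁) h1 h2 r → bf r a = false := by
    intro r hr
    obtain ⟨w, hw, rfl⟩ := hsurj r hr
    obtain ⟨yw, hyw, hywv⟩ := F.al_surj hw
    obtain ⟨-, -, hnP, hn⟩ := F.P'_act htz hts hA hyw
    have hn' : Eqm (v z₁) (v (al u (t * yw * t⁻¹ * yw⁻¹))) (del L w) := by
      refine hn.trans ?_
      have h := Eqm.xr (F.map_s hts hA hywv.symm) hywv.symm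
      exact h
    have hcomm : Commute y (t * yw * t⁻¹ * yw⁻¹) := by
      obtain ⟨p, hp, hpe⟩ := hu'
      change g * p * g⁻¹ = u' at hpe
      obtain ⟨p', hp', hpe'⟩ := (F.mem_P'.mp hyw).1
      change g * p' * g⁻¹ = yw at hpe'
      have h2z : g⁻¹ * t * g * z = z * (g⁻¹ * t * g) := by
        calc g⁻¹ * t * g * z = g⁻¹ * (t * z₁) * g := by rw [hz₁]; group
          _ = g⁻¹ * (z₁ * t) * g := by rw [hts]
          _ = _ := by rw [hz₁]; group
      obtain ⟨L₂, hL₂, hA₂⟩ := H.par _ h2z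
      have I₂ : Inv L₂ := H.inv_act h2z hL₂ hA₂ (by
        rw [show g⁻¹ * t * g * (g⁻¹ * t * g) = g⁻¹ * (t * t) * g by group, ht]; simp)
      obtain ⟨m1, v1⟩ := H.v_comm h2z hA₂ hp
      obtain ⟨m2, v2⟩ := H.v_comm h2z hA₂ hp'
      have hbf := I₂.iso (v p) (v p')
      rw [← v1, ← v2] at hbf
      have hc := (show Commute _ _ from (H.comm _ m1 _ m2).mp hbf).map (MulAut.conj g)
      rw [MulAut.conj_apply, MulAut.conj_apply] at hc
      convert hc using 1
      · rw [hydef, ← hpe]; group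
      · rw [← hpe']; group
    have := (F.P'_comm_iff hy hnP).mp hcomm.eq
    rw [hn'.bf_eq (F.P_perp (F.al_mem hy))] at this
    rw [bf_comm]; exact this
  have a1 : bf h1 a = false := hperp h1 (InSpan.second _ _ _)
  have a2 : bf h2 a = false := hperp h2 ⟨false, false, true, by simp⟩
  -- the two vectors are orthogonal
  by_cases hred : Red z Q v t
  · exact hred
  have hab : bf a b = false := by
    cases qb : qf b
    · exact F.key D hbig hH hu' s3 qb
    by_contra hc
    rw [Bool.not_eq_false] at hc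
    cases qa : qf a
    swap
    · exact (C.maximal sa a1 a2 bs bh1 bh2).2 ⟨qa, qb, hc⟩
    have ety : u' * t * u'⁻¹ = t * y := by
      rw [hydef, inv_eq_of_mul_eq_one_right ht,
        show t * (t * u' * t * u'⁻¹) = (t * t) * u' * t * u'⁻¹ by group, ht, one_mul]
    have hconj : IsConj t (t * y) := isConj_iff.mpr ⟨u', ety⟩
    have h1z : t * y * z = z * (t * y) :=
      (show Commute t z from htz).mul_left (show Commute y z from (F.mem_P'.mp hy).2)
    have h1s : t * y * z₁ = z₁ * (t * y) :=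
      (show Commute t z₁ from hts).mul_left (show Commute y z₁ from F.P'_comm hy)
    obtain ⟨M, hMg, hM⟩ := H.par _ h1z
    have h1sq : t * y * (t * y) = 1 := by
      rw [← ety, show u' * t * u'⁻¹ * (u' * t * u'⁻¹) = u' * (t * t) * u'⁻¹ by group, ht, mul_one,
        mul_inv_cancel]
    have J : Inv M := H.inv_act h1z hMg hM (h1sq ▸ one_mem Q)
    have D' : Cent z Q v g (t * y) M := ⟨h1sq, h1z, h1s, hM, J⟩
    have hMbig : ¬ Small M := fun h =>
      hred (Red.of_isConj hconj ⟨_, M, IsConj.refl _, h1z, hMg, hM, h⟩)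
    obtain ⟨hMP, hMu⟩ := F.mul_P' hts hA hy hM
    have hH' : ∀ w, bf w (v z₁) = false → qf (del M w) = false := fun w hw =>
      (InSpan.of_eqm (Eqm.xr (hMP w hw) (Eqm.refl _ w)) (hmap w hw)).qf_zero C
    have hLa : Eqm (v z₁) (app L a) a := by
      obtain ⟨-, hc', -, -⟩ := F.P'_act htz hts hA hy
      refine hc'.symm.trans ?_
      rw [show t * y * t⁻¹ = y⁻¹ by
        calc t * y * t⁻¹ = (t * t) * u' * t⁻¹ * u'⁻¹ * t⁻¹ := by rw [hydef]; group
          _ = u' * t * u'⁻¹ * t⁻¹ := by rw [ht, one_mul, inv_eq_of_mul_eq_one_right ht]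
          _ = _ := by rw [hydef]; group]
      exact F.al_inv hy
    have hdu : Eqm (v z₁) (del M (v u)) (xr a b) := by
      have := Eqm.xr (Eqm.xr hLa (Eqm.refl (v z₁) (app L (v u)))) (Eqm.refl (v z₁) (v u))
      rw [← hMu, xr_assoc a, ← del_xr, ← del_xr] at this
      exact this
    have hqb' : qf (del M (v u)) = false := by
      rw [hdu.qf_eq F.sv_qf (by rw [bf_xr_left, bf_comm a, bf_comm b, sa, bs]; rfl), qf_xr, qa, qb, hc]
      rfl
    have hk := F.key D' hMbig hH' hu' s3 hqb'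
    have hal : Eqm (v z₁) (v (al u (t * y * u' * (t * y)⁻¹ * u'⁻¹))) a := by
      rw [show t * y * u' * (t * y)⁻¹ * u'⁻¹ = u' * y * u'⁻¹ by rw [← ety, hydef]; group]
      rcases F.pr.s'.comm_cases hu' (F.mem_P'.mp hy).1 with e | e <;> rw [e]
      · exact Eqm.refl _ _
      · rw [← F.P'_comm hy]; exact F.al_congr hy F.z'_mem_V
    have hP' := F.swap_mem h1z h1s hu' s3
    rw [hdu.bf_eq (F.P_perp (F.al_mem hP')), bf_comm,
      hal.bf_eq (by rw [bf_xr_left, bf_comm a, bf_comm b, sa, bs]; rfl), bf_xr_left, bf_self,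
      bf_comm b, hc] at hk
    exact absurd hk (by simp)
  have hcases : InSpan (v z₁) h1 h2 a ∨ InSpan (v z₁) h1 h2 (a + b) := by
    cases qb : qf b
    · exact (C.maximal sa a1 a2 bs bh1 bh2).1 qb hab hbn
    by_cases hd : InSpan (v z₁) h1 h2 a
    · exact Or.inl hd
    cases qa : qf a
    · exfalso
      rcases (C.maximal bs bh1 bh2 sa a1 a2).1 qa ((bf_comm _ _).trans hab) hd with h | h
      · exact hbn h
      · have := h.qf_zero C
        rw [qf_add, qb, qa, bf_comm, hab] at this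
        exact absurd this (by decide)
    by_cases hd2 : InSpan (v z₁) h1 h2 (a + b)
    · exact Or.inr hd2
    exfalso
    rcases (C.maximal sa a1 a2 (w := a + b) (by rw [bf_xor_right, sa, bs]; rfl)
      (by rw [bf_xor_right, a1, bh1]; rfl) (by rw [bf_xor_right, a2, bh2]; rfl)).1
      (by rw [qf_add, qa, qb, hab]; rfl) (by rw [bf_xor_right, bf_self, hab]; rfl) hd2 with h | h
    · exact hd h
    · rw [add_cancel] at h; exact hbn h
  rcases hcases with h | h
  · obtain ⟨r, hr, hre⟩ := hsurj _ h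
    exact F.small_of_mem D hu' s1 s2 s3 hr (Or.inl hre)
  -- replace `t` by its conjugate under `u`
  set x := t * u * t⁻¹ * u⁻¹ with hxdef
  obtain ⟨hxQ, hxv⟩ := H.v_comm htz hA F.uQ
  have hxP : x ∈ P Q z g := F.mem_P_of hxQ (by rw [hxv, bf_comm]; exact bs)
  have etx : u * t * u⁻¹ = t * x := by
    rw [hxdef, inv_eq_of_mul_eq_one_right ht,
      show t * (t * u * t * u⁻¹) = (t * t) * u * t * u⁻¹ by group, ht, one_mul]
  have hA' : Act Q v (t * x) L := fun q hq => by
    rw [show t * x * q * (t * x)⁻¹ = t * (x * q * x⁻¹) * t⁻¹ by group,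
      hA _ (mul_mem (mul_mem hxQ hq) (inv_mem hxQ)), H.v_inner hxQ hq]
  have h1z : t * x * z = z * (t * x) :=
    (show Commute t z from htz).mul_left (show Commute x z from H.commute_z hxQ)
  have h1s : t * x * z₁ = z₁ * (t * x) :=
    (show Commute t z₁ from hts).mul_left (show Commute x z₁ from (F.mem_P.mp hxP).2)
  have D' : Cent z Q v g (t * x) L := ⟨by
    rw [← etx, show u * t * u⁻¹ * (u * t * u⁻¹) = u * (t * t) * u⁻¹ by group, ht, mul_one,
      mul_inv_cancel], h1z, h1s, hA', I⟩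
  obtain ⟨r₁, hr₁, hre₁, hrV⟩ := F.al_surj_key hu' s1 s2 (inv_mem hxP)
  rw [H.v_inv hxQ, hxv] at hre₁
  rw [inv_inv] at hrV
  set m := x * u' * x⁻¹ * u'⁻¹ with hm
  have hmP : m ∈ P' Q z g := by
    have := mul_mem hr₁ (F.V_le_P' hrV)
    rwa [mul_inv_cancel_left] at this
  have hmv : Eqm (v z₁) (v (al u m)) b := by
    have := (F.al_congr hr₁ hrV).trans hre₁.symm
    rwa [mul_inv_cancel_left] at this
  obtain ⟨hmt, hmtv, -, -⟩ := F.P'_act htz hts hA hmP
  have ey : t * x * u' * (t * x)⁻¹ * u'⁻¹ = t * m * t⁻¹ * y := by rw [hm, hydef]; group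
  have hav : Eqm (v z₁) (v (al u (t * x * u' * (t * x)⁻¹ * u'⁻¹))) (xr b a) := by
    rw [ey]
    refine (F.v_al_mul hmt hy).trans (Eqm.xr (hmtv.trans ?_) (Eqm.refl _ _))
    have := Eqm.map L hmv
    rwa [F.act_s hts hA, show app L b = b from I.fix _] at this
  obtain ⟨r, hr, hre⟩ := hsurj _ h
  exact Red.of_isConj (isConj_iff.mpr ⟨u, etx⟩)
    (F.small_of_mem D' hu' s1 s2 s3 hr (Eqm.trans (Or.inl (hre.trans (add_comm a b))) hav.symm))

end Co

end CfsgLib.CoOneType
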