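import Cfsg.Agent.Lib.ConwayFive.Model
import Cfsg.Agent.Lib.Classical.WittExtension

/-!
The plus type orthogonal space of dimension eight over the field with two elements: moving
configurations of vectors by isometries of even fixed dimension.
-/

set_option autoImplicit false

namespace CfsgLib.CoOneType

open CfsgLib.Extraspecial
open CfsgLib.ConwayFive (e8 pol sq_add dec8 dec8_surj toFun8 toFun8_form)

/-- A vector. -/
abbrev V8 : Type := Coord 4

/-- The quadratic form. -/
def qf (v : V8) : Bool := decide (sqForm e8 v = 1)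

/-- The bilinear form. -/
def bf (a b : V8) : Bool := decide (pol a b = 1)

/-- A linear map. -/
abbrev Lin : Type := V8 ≃ₗ[ZMod 2] V8

/-- The number of fixed vectors. -/
noncomputable def nfix (L : Lin) : ℕ := Nat.card {v : V8 // L v = v}

/-- An isometry with fixed space of even dimension. -/
def Good (L : Lin) : Prop := L ∈ isoGrp e8 ∧ ∃ k, Even k ∧ nfix L = 2 ^ k

theorem zmod_cases : ∀ a : ZMod 2, a = 0 ∨ a = 1 := by decide

theorem add_self (a : V8) : a + a = 0 := neg_eq_two a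

theorem add_cancel (a b : V8) : a + (a + b) = b := by rw [← add_assoc, add_self, zero_add]

theorem eq_of_add {a b : V8} (h : a + b = 0) : a = b := by rw [← add_cancel a b, h, add_zero]

theorem pol_comm (a b : V8) : pol a b = pol b a := by rw [pol, pol, add_comm]

theorem pol_add_left (a b c : V8) : pol (a + b) c = pol a c + pol b c := by
  simp only [pol, cocycle_add_left, cocycle_add_right]; ring

theorem pol_self (a : V8) : pol a a = 0 := CharTwo.add_self_eq_zero _

theorem sq_zero : sqForm e8 (0 : V8) = 0 := cocycle_zero_left _ _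

theorem bf_comm (a b : V8) : bf a b = bf b a := by rw [bf, bf, pol_comm]

theorem bf_self (a : V8) : bf a a = false := by simp [bf, pol_self]

theorem bf_xor_left (a b c : V8) : bf (a + b) c = (bf a c ^^ bf b c) := by
  simp only [bf, pol_add_left]
  rcases zmod_cases (pol a c) with h | h <;> rcases zmod_cases (pol b c) with h' | h' <;>
    rw [h, h'] <;> decide

theorem bf_xor_right (a b c : V8) : bf a (b + c) = (bf a b ^^ bf a c) := by
  rw [bf_comm, bf_xor_left, bf_comm b, bf_comm c]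

theorem bf_zero_left (a : V8) : bf 0 a = false := by simp [bf, pol, cocycle_zero_left, cocycle_zero_right]

theorem bf_zero_right (a : V8) : bf a 0 = false := by rw [bf_comm, bf_zero_left]

theorem qf_zero : qf 0 = false := by simp [qf, sq_zero]

theorem qf_add (a b : V8) : qf (a + b) = (qf a ^^ qf b ^^ bf a b) := by
  simp only [qf, bf, sq_add]
  rcases zmod_cases (sqForm e8 a) with h | h <;> rcases zmod_cases (sqForm e8 b) with h' | h' <;>
    rcases zmod_cases (pol a b) with h'' | h'' <;> rw [h, h', h''] <;> decide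

theorem qf_iff {a b : V8} : qf a = qf b ↔ sqForm e8 a = sqForm e8 b := by
  simp only [qf]
  rcases zmod_cases (sqForm e8 a) with h | h <;> rcases zmod_cases (sqForm e8 b) with h' | h' <;>
    rw [h, h'] <;> decide

theorem qf_false {a : V8} : qf a = false ↔ sqForm e8 a = 0 := by
  simp only [qf]
  rcases zmod_cases (sqForm e8 a) with h | h <;> rw [h] <;> decide

theorem bf_false {a b : V8} : bf a b = false ↔ pol a b = 0 := by
  simp only [bf]
  rcases zmod_cases (pol a b) with h | h <;> rw [h] <;> decide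

theorem exists_bf (a : V8) (ha : a ≠ 0) : ∃ b, bf a b = true := by
  have h : ∀ k : Fin 256, k = 0 ∨ ∃ j : Fin 256, pol (dec8 k) (dec8 j) = 1 := by decide +kernel
  obtain ⟨k, rfl⟩ := dec8_surj a
  rcases h k with rfl | ⟨j, hj⟩
  · exact absurd (by decide +kernel : dec8 0 = 0) ha
  · exact ⟨dec8 j, by simp [bf, hj]⟩

theorem eq_of_bf {a b : V8} (h : ∀ c, bf a c = bf b c) : a = b := by
  refine eq_of_add (not_not.mp fun hne => ?_)
  obtain ⟨c, hc⟩ := exists_bf _ hne
  rw [bf_xor_left, h, Bool.xor_self] at hc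
  exact Bool.false_ne_true hc

theorem iso_qf {L : Lin} (h : L ∈ isoGrp e8) (v : V8) : qf (L v) = qf v := qf_iff.mpr (h v)

theorem iso_bf {L : Lin} (h : L ∈ isoGrp e8) (a b : V8) : bf (L a) (L b) = bf a b := by
  have e := qf_add (L a) (L b)
  rw [← map_add, iso_qf h, qf_add, iso_qf h, iso_qf h] at e
  revert e
  cases qf a <;> cases qf b <;> cases bf a b <;> cases bf (L a) (L b) <;> simp

attribute [irreducible] qf bf

theorem exists_parity : ∃ d : isoGrp e8 →* ℤˣ,
    (∀ φ : isoGrp e8, d φ = 1 ↔ Good φ.1) ∧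
    ∀ a, qf a = true → ∃ r : isoGrp e8, d r = -1 ∧ ∀ x, r.1 x = x + (cond (bf a x) a 0) := by
  obtain ⟨B, hB, hBn⟩ := CfsgLib.Orth.exists_quadForm_plus (F := ZMod 2) 4
  let Φ : isoGrp e8 ≃* CfsgLib.Orth.Grp B :=
    isoGrpEquiv e8 ⇑B toFun8 (fun w => by rw [hB]; exact toFun8_form w)
  have hΦ : ∀ (ψ : isoGrp e8) (u : Fin 4 ⊕ Fin 4 → ZMod 2),
      CfsgLib.Orth.ap (Φ ψ) u = toFun8 (ψ.1 (toFun8.symm u)) := by
    intro ψ u
    show (LinearMap.toMatrix' _).mulVec u = _
    rw [← Matrix.toLin'_apply, Matrix.toLin'_toMatrix']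
    rfl
  refine ⟨(CfsgLib.Orth.dickson hBn).comp Φ.toMonoidHom, fun φ => ?_, fun a ha => ?_⟩
  · set k := Module.finrank (ZMod 2) (CfsgLib.Orth.fixSpace (Φ φ)) with hk
    have hn : nfix φ.1 = 2 ^ k := by
      have h1 : Nat.card (CfsgLib.Orth.fixSpace (Φ φ)) = 2 ^ k := by
        rw [Module.natCard_eq_pow_finrank (K := ZMod 2), Nat.card_zmod]
      rw [← h1]
      exact Nat.card_congr (toFun8.toEquiv.subtypeEquiv fun v => by
        show φ.1 v = v ↔ toFun8 v ∈ CfsgLib.Orth.fixSpace (Φ φ)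
        rw [CfsgLib.Orth.mem_fixSpace, hΦ, LinearEquiv.symm_apply_apply, toFun8.injective.eq_iff])
    show (-1 : ℤˣ) ^ (Module.finrank (ZMod 2) (Fin 4 ⊕ Fin 4 → ZMod 2) + k) = 1 ↔ _
    rw [show Module.finrank (ZMod 2) (Fin 4 ⊕ Fin 4 → ZMod 2) = 8 by simp]
    constructor
    · intro h
      refine ⟨φ.2, k, ?_, hn⟩
      by_contra ho
      rw [Nat.not_even_iff_odd] at ho
      rw [((by decide : Even 8).add_odd ho).neg_one_pow] at h
      exact absurd h (by decide)
    · rintro ⟨-, j, hj, hj'⟩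
      rw [hn] at hj'
      rw [Nat.pow_right_injective le_rfl hj']
      exact ((by decide : Even 8).add hj).neg_one_pow
  · have hBa : B (toFun8 a) = 1 := by
      rw [hB, toFun8_form]
      simpa [qf] using ha
    obtain ⟨r, hr⟩ := CfsgLib.Orth.exists_refl hBn (v := toFun8 a) (by rw [hBa]; decide)
    obtain ⟨ψ, rfl⟩ := Φ.surjective r
    refine ⟨ψ, CfsgLib.Orth.dickson_refl hBn hr, fun x => toFun8.injective ?_⟩
    have h := hr.2 (toFun8 x)
    rw [hΦ, toFun8.symm_apply_apply, hBa, inv_one, one_mul] at h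
    have hp : QuadraticMap.polar (⇑B) (toFun8 a) (toFun8 x) = pol a x := by
      rw [QuadraticMap.polar, ← map_add, hB, toFun8_form, toFun8_form, toFun8_form, sq_add]
      ring
    rw [h, hp, map_add]
    rcases zmod_cases (pol a x) with e | e <;> rw [bf, e]
    · simp
    · simp [ZModModule.sub_eq_add]

theorem good_one : Good (1 : Lin) := by
  obtain ⟨d, hd, -⟩ := exists_parity
  exact (hd 1).mp (map_one d)

theorem good_mul {L M : Lin} (hL : Good L) (hM : Good M) : Good (L * M) := by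
  obtain ⟨d, hd, -⟩ := exists_parity
  have h := (hd (⟨L, hL.1⟩ * ⟨M, hM.1⟩)).mp (by
    rw [map_mul, (hd ⟨L, hL.1⟩).mpr hL, (hd ⟨M, hM.1⟩).mpr hM, one_mul])
  exact h

theorem good_inv {L : Lin} (hL : Good L) : Good L⁻¹ := by
  obtain ⟨d, hd, -⟩ := exists_parity
  exact (hd (⟨L, hL.1⟩⁻¹)).mp (by rw [map_inv, (hd ⟨L, hL.1⟩).mpr hL, inv_one])

theorem good_or_refl {L : Lin} (hL : L ∈ isoGrp e8) {a : V8} (ha : qf a = true) :
    Good L ∨ ∃ R : Lin, R ∈ isoGrp e8 ∧ (∀ x, R x = x + cond (bf a x) a 0) ∧ Good (R * L) := by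
  obtain ⟨d, hd, hr⟩ := exists_parity
  rcases Int.units_eq_one_or (d (⟨L, hL⟩ : isoGrp e8)) with h | h
  · exact Or.inl ((hd (⟨L, hL⟩ : isoGrp e8)).mp h)
  · obtain ⟨r, hr1, hr2⟩ := hr a ha
    exact Or.inr ⟨r.1, r.2, hr2, (hd (r * (⟨L, hL⟩ : isoGrp e8))).mp (by rw [map_mul, hr1, h, neg_mul_neg, one_mul])⟩

/-- The quadratic form, as a map of forms. -/
theorem exists_quad : ∃ B : QuadraticForm (ZMod 2) V8,
    (∀ v, B v = sqForm e8 v) ∧ (QuadraticMap.polarBilin B).Nondegenerate := by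
  obtain ⟨B, hB, -⟩ := CfsgLib.Orth.exists_quadForm_plus (F := ZMod 2) 4
  refine ⟨B.comp (toFun8 : V8 ≃ₗ[ZMod 2] _).toLinearMap, fun v => ?_, ?_⟩
  · show B (toFun8 v) = _
    rw [hB, toFun8_form]
  · have hp : ∀ a b : V8, QuadraticMap.polarBilin (B.comp (toFun8 : V8 ≃ₗ[ZMod 2] _).toLinearMap) a b
        = pol a b := fun a b => by
      show B (toFun8 (a + b)) - B (toFun8 a) - B (toFun8 b) = _
      rw [hB, toFun8_form, toFun8_form, toFun8_form, sq_add]
      ring
    have hl : ∀ a : V8, (∀ b, pol a b = 0) → a = 0 := fun a h => by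
      by_contra ha
      obtain ⟨b, hb⟩ := exists_bf a ha
      rw [bf_false.mpr (h b)] at hb
      exact Bool.false_ne_true hb
    exact ⟨fun a h => hl a fun b => by rw [← hp]; exact h b,
      fun a h => hl a fun b => by rw [pol_comm, ← hp]; exact h b⟩

theorem sum_forms {n : ℕ} (f : Fin n → V8) (c : Fin n → ZMod 2) :
    sqForm e8 (∑ i, c i • f i) = ∑ i, ∑ j, c i * c j * cocycle e8 (f i) (f j) := by
  have hl : ∀ (s : Finset (Fin n)) (g : Fin n → V8) (w : V8),
      cocycle e8 (∑ i ∈ s, g i) w = ∑ i ∈ s, cocycle e8 (g i) w := by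
    intro s g w
    classical
    induction s using Finset.induction_on with
    | empty => simp [cocycle_zero_left]
    | insert i s hi ih => rw [Finset.sum_insert hi, Finset.sum_insert hi, cocycle_add_left, ih]
  have hr : ∀ (s : Finset (Fin n)) (g : Fin n → V8) (w : V8),
      cocycle e8 w (∑ i ∈ s, g i) = ∑ i ∈ s, cocycle e8 w (g i) := by
    intro s g w
    classical
    induction s using Finset.induction_on with
    | empty => simp [cocycle_zero_right]
    | insert i s hi ih => rw [Finset.sum_insert hi, Finset.sum_insert hi, cocycle_add_right, ih]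
  have hs : ∀ (a : ZMod 2) (v w : V8), cocycle e8 (a • v) w = a * cocycle e8 v w ∧
      cocycle e8 w (a • v) = a * cocycle e8 w v := fun a v w => by
    rcases zmod_cases a with rfl | rfl <;> simp [cocycle_zero_left, cocycle_zero_right]
  rw [sqForm, hl]
  refine Finset.sum_congr rfl fun i _ => ?_
  rw [hr]
  refine Finset.sum_congr rfl fun j _ => ?_
  rw [(hs _ _ _).1, (hs _ _ _).2, mul_assoc]

theorem sq_congr {n : ℕ} (f g : Fin n → V8) (hq : ∀ i, qf (f i) = qf (g i))
    (hb : ∀ i j, bf (f i) (f j) = bf (g i) (g j)) (c : Fin n → ZMod 2) :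
    sqForm e8 (∑ i, c i • f i) = sqForm e8 (∑ i, c i • g i) := by
  have hz : ∀ a b : ZMod 2, decide (a = 1) = decide (b = 1) → a = b := by decide
  suffices h : ∀ s : Finset (Fin n), sqForm e8 (∑ i ∈ s, c i • f i) = sqForm e8 (∑ i ∈ s, c i • g i) ∧
      ∀ j, pol (∑ i ∈ s, c i • f i) (f j) = pol (∑ i ∈ s, c i • g i) (g j) from (h Finset.univ).1
  intro s
  classical
  induction s using Finset.induction_on with
  | empty => simp [sq_zero, pol, cocycle_zero_left, cocycle_zero_right]
  | insert i s hi ih =>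
    have hp : ∀ j, pol (f i) (f j) = pol (g i) (g j) := fun j => hz _ _ (by have := hb i j; rwa [bf, bf] at this)
    rcases zmod_cases (c i) with e | e <;> simp only [Finset.sum_insert hi, e, zero_smul, one_smul, zero_add]
    · exact ih
    · refine ⟨?_, fun j => by rw [pol_add_left, pol_add_left, ih.2, hp]⟩
      rw [sq_add, sq_add, ih.1, qf_iff.mp (hq i), pol_comm, ih.2 i, pol_comm]

/-- A configuration of independent vectors is moved to any other with the same forms, evenly. -/
theorem move {n : ℕ} (f g : Fin n → V8) (hf : LinearIndependent (ZMod 2) f)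
    (hg : LinearIndependent (ZMod 2) g) (hq : ∀ i, qf (f i) = qf (g i))
    (hb : ∀ i j, bf (f i) (f j) = bf (g i) (g j))
    (hfree : (∃ a, qf a = true ∧ ∀ i, bf a (g i) = false) ∨ ∃ a, qf a = true ∧ ∀ i, bf a (f i) = false) :
    ∃ L, Good L ∧ ∀ i, L (f i) = g i := by
  obtain ⟨B, hB, hBn⟩ := exists_quad
  let φ : Submodule.span (ZMod 2) (Set.range f) ≃ₗ[ZMod 2] Submodule.span (ZMod 2) (Set.range g) :=
    (Module.Basis.span hf).equiv (Module.Basis.span hg) (Equiv.refl _)
  have hφ : ∀ i, (φ (Module.Basis.span hf i) : V8) = g i := fun i => by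
    show (((Module.Basis.span hf).equiv (Module.Basis.span hg) (Equiv.refl _)) _ : V8) = g i
    rw [Module.Basis.equiv_apply, Equiv.refl_apply, Module.Basis.span_apply]
  have hsum : ∀ x, sqForm e8 (φ x : V8) = sqForm e8 (x : V8) := fun x => by
    have e1 : (x : V8) = ∑ i, (Module.Basis.span hf).repr x i • f i := by
      conv_lhs => rw [← (Module.Basis.span hf).sum_repr x]
      rw [Submodule.coe_sum]
      exact Finset.sum_congr rfl fun i _ => by rw [Submodule.coe_smul, Module.Basis.span_apply]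
    have e2 : (φ x : V8) = ∑ i, (Module.Basis.span hf).repr x i • g i := by
      conv_lhs => rw [← (Module.Basis.span hf).sum_repr x]
      rw [map_sum, Submodule.coe_sum]
      exact Finset.sum_congr rfl fun i _ => by rw [map_smul, Submodule.coe_smul, hφ]
    rw [e1, e2]
    exact (sq_congr f g hq hb _).symm
  obtain ⟨L, hL, hLf⟩ := CfsgLib.Classical.Witt.witt_quadratic B hBn _ _ φ (fun x => by
    rw [hB, hB]; exact hsum x)
  have hLi : L ∈ isoGrp e8 := fun v => by rw [← hB, hL, hB]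
  have hLg : ∀ i, L (f i) = g i := fun i => by
    have := hLf (Module.Basis.span hf i)
    rwa [hφ, Module.Basis.span_apply] at this
  obtain ⟨a, ha, hag⟩ : ∃ a, qf a = true ∧ ∀ i, bf a (g i) = false := by
    rcases hfree with h | ⟨a, ha, haf⟩
    · exact h
    · exact ⟨L a, (iso_qf hLi a).trans ha, fun i => by rw [← hLg, iso_bf hLi, haf]⟩
  rcases good_or_refl hLi ha with h | ⟨R, hR, hRx, h⟩
  · exact ⟨L, h, hLg⟩
  · exact ⟨R * L, h, fun i => by
      show R (L (f i)) = g i
      rw [hLg, hRx, hag]; simp⟩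

theorem li_one {a : V8} (ha : a ≠ 0) : LinearIndependent (ZMod 2) ![a] := by
  rw [Fintype.linearIndependent_iff]
  intro c hc i
  fin_cases i
  rcases zmod_cases (c 0) with h | h
  · exact h
  · simp [h] at hc; exact absurd hc ha

theorem li_two {a b : V8} (ha : a ≠ 0) (hb : b ≠ 0) (hab : a ≠ b) :
    LinearIndependent (ZMod 2) ![a, b] := by
  rw [Fintype.linearIndependent_iff]
  intro c hc
  simp only [Fin.sum_univ_two, Matrix.cons_val_zero, Matrix.cons_val_one] at hc
  rcases zmod_cases (c 0) with h | h <;> rcases zmod_cases (c 1) with h' | h' <;>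
    rw [h, h'] at hc <;> simp at hc
  · intro i; fin_cases i <;> assumption
  · exact absurd hc hb
  · exact absurd hc ha
  · exact absurd (eq_of_add hc) hab

theorem li_three {a b c : V8} (ha : a ≠ 0) (hb : b ≠ 0) (hc : c ≠ 0) (hba : b ≠ a) (hca : c ≠ a)
    (hcb : c ≠ b) (hcab : c ≠ a + b) : LinearIndependent (ZMod 2) ![a, b, c] := by
  rw [Fintype.linearIndependent_iff]
  intro k hk
  simp only [Fin.sum_univ_three, Matrix.cons_val_zero, Matrix.cons_val_one, Matrix.cons_val_two,
    Matrix.tail_cons, Matrix.head_cons] at hk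
  rcases zmod_cases (k 0) with h | h <;> rcases zmod_cases (k 1) with h' | h' <;>
    rcases zmod_cases (k 2) with h'' | h'' <;> rw [h, h', h''] at hk <;> simp at hk
  · intro i; fin_cases i <;> assumption
  · exact absurd hk hc
  · exact absurd hk hb
  · exact absurd (eq_of_add hk).symm hcb
  · exact absurd hk ha
  · exact absurd (eq_of_add hk).symm hca
  · exact absurd (eq_of_add hk).symm hba
  · exact absurd (eq_of_add hk).symm hcab

/-- The base point. -/
def s0 : V8 := dec8 1

/-- The first standard vector of a kind. -/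
def a0 (k : Bool) : V8 := cond k (dec8 4) (dec8 16)

/-- The second standard vector of a kind. -/
def b0 (k : Bool) : V8 := cond k (dec8 8) (dec8 68)

/-- An anisotropic vector orthogonal to a standard configuration. -/
def f0 (k : Bool) : V8 := cond k (dec8 64) (dec8 4)

theorem std_spec : ∀ k : Bool, qf s0 = false ∧ qf (a0 k) = k ∧ qf (b0 k) = k ∧ bf s0 (a0 k) = false ∧
    bf s0 (b0 k) = false ∧ bf (a0 k) (b0 k) = k ∧ qf (f0 k) = true ∧ bf (f0 k) s0 = false ∧
    bf (f0 k) (a0 k) = false ∧ bf (f0 k) (b0 k) = false := by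
  decide +kernel

theorem std_li (k : Bool) : LinearIndependent (ZMod 2) ![s0, a0 k, b0 k] := by
  have h : ∀ k : Bool, s0 ≠ 0 ∧ a0 k ≠ 0 ∧ b0 k ≠ 0 ∧ a0 k ≠ s0 ∧ b0 k ≠ s0 ∧ b0 k ≠ a0 k ∧
      b0 k ≠ s0 + a0 k := by decide +kernel
  obtain ⟨h1, h2, h3, h4, h5, h6, h7⟩ := h k
  exact li_three h1 h2 h3 h4 h5 h6 h7

theorem std_free (k : Bool) : ∃ a, qf a = true ∧ ∀ i, bf a (![s0, a0 k, b0 k] i) = false := by
  obtain ⟨-, -, -, -, -, -, h1, h2, h3, h4⟩ := std_spec k
  exact ⟨f0 k, h1, fun i => by fin_cases i <;> assumption⟩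

/-- A configuration of a kind: a singular point and two vectors orthogonal to it, independent. -/
structure Cfg (k : Bool) (s a b : V8) : Prop where
  s0 : s ≠ 0
  qs : qf s = false
  qa : qf a = k
  qb : qf b = k
  sa : bf s a = false
  sb : bf s b = false
  ab : bf a b = k
  a0 : a ≠ 0
  as' : a ≠ s
  b0 : b ≠ 0
  bs : b ≠ s
  ba : b ≠ a
  bas : b ≠ s + a

theorem Cfg.move_std {k : Bool} {s a b : V8} (h : Cfg k s a b) :
    ∃ L, Good L ∧ L CoOneType.s0 = s ∧ L (CoOneType.a0 k) = a ∧ L (CoOneType.b0 k) = b := by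
  obtain ⟨q1, q2, q3, q4, q5, q6, -⟩ := std_spec k
  obtain ⟨L, hL, hL'⟩ := move ![CoOneType.s0, CoOneType.a0 k, CoOneType.b0 k] ![s, a, b] (std_li k)
    (li_three h.s0 h.a0 h.b0 h.as' h.bs h.ba h.bas)
    (fun i => by fin_cases i <;> simp [q1, q2, q3, h.qs, h.qa, h.qb])
    (fun i j => by
      fin_cases i <;> fin_cases j <;>
        simp [bf_self, q4, q5, q6, h.sa, h.sb, h.ab, bf_comm (CoOneType.a0 k) CoOneType.s0,
          bf_comm (CoOneType.b0 k) CoOneType.s0, bf_comm (CoOneType.b0 k) (CoOneType.a0 k), bf_comm a s,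
          bf_comm b s, bf_comm b a])
    (Or.inr (std_free k))
  exact ⟨L, hL, hL' 0, hL' 1, hL' 2⟩

theorem Cfg.move {k : Bool} {s a b s' a' b' : V8} (h : Cfg k s a b) (h' : Cfg k s' a' b') :
    ∃ L, Good L ∧ L s = s' ∧ L a = a' ∧ L b = b' := by
  obtain ⟨L, hL, e1, e2, e3⟩ := h.move_std
  obtain ⟨M, hM, f1, f2, f3⟩ := h'.move_std
  refine ⟨M * L⁻¹, good_mul hM (good_inv hL), ?_, ?_, ?_⟩ <;> show M (L.symm _) = _
  · rw [← e1, L.symm_apply_apply, f1]
  · rw [← e2, L.symm_apply_apply, f2]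
  · rw [← e3, L.symm_apply_apply, f3]

theorem move_singular {a b : V8} (ha : a ≠ 0) (hqa : qf a = false) (hb : b ≠ 0) (hqb : qf b = false) :
    ∃ L, Good L ∧ L a = b := by
  have key : ∀ {c : V8}, c ≠ 0 → qf c = false → ∃ L, Good L ∧ L s0 = c := by
    intro c hc hqc
    obtain ⟨q1, -, -, -, -, -, q7, q8, -⟩ := std_spec true
    have hs : s0 ≠ 0 := by decide +kernel
    obtain ⟨L, hL, hL'⟩ := CoOneType.move ![s0] ![c] (li_one hs) (li_one hc)
      (fun i => by fin_cases i; simp [q1, hqc]) (fun i j => by fin_cases i; fin_cases j; simp [bf_self])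
      (Or.inr ⟨_, q7, fun i => by fin_cases i; exact q8⟩)
    exact ⟨L, hL, hL' 0⟩
  obtain ⟨L, hL, e⟩ := key ha hqa
  obtain ⟨M, hM, f⟩ := key hb hqb
  refine ⟨M * L⁻¹, good_mul hM (good_inv hL), ?_⟩
  show M (L.symm a) = b
  rw [← e, L.symm_apply_apply, f]

theorem move_line {s a a' : V8} (hs : s ≠ 0) (hqs : qf s = false) (ha : a ≠ 0) (has : a ≠ s)
    (hqa : qf a = false) (hsa : bf s a = false) (ha' : a' ≠ 0) (ha's : a' ≠ s) (hqa' : qf a' = false)
    (hsa' : bf s a' = false) : ∃ L, Good L ∧ L s = s ∧ L a = a' := by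
  have key : ∀ {c : V8}, c ≠ 0 → c ≠ s → qf c = false → bf s c = false →
      ∃ L, Good L ∧ L s0 = s ∧ L (a0 false) = c := by
    intro c hc hcs hqc hsc
    obtain ⟨q1, q2, -, q4, -, -, q7, q8, q9, -⟩ := std_spec false
    have hne : s0 ≠ 0 ∧ a0 false ≠ 0 ∧ s0 ≠ a0 false := by decide +kernel
    obtain ⟨L, hL, hL'⟩ := CoOneType.move ![s0, a0 false] ![s, c] (li_two hne.1 hne.2.1 hne.2.2)
      (li_two hs hc (Ne.symm hcs))
      (fun i => by fin_cases i <;> simp [q1, q2, hqs, hqc])
      (fun i j => by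
        fin_cases i <;> fin_cases j <;> simp [bf_self, q4, hsc, bf_comm (a0 false) s0, bf_comm c s])
      (Or.inr ⟨_, q7, fun i => by fin_cases i <;> assumption⟩)
    exact ⟨L, hL, hL' 0, hL' 1⟩
  obtain ⟨L, hL, e1, e2⟩ := key ha has hqa hsa
  obtain ⟨M, hM, f1, f2⟩ := key ha' ha's hqa' hsa'
  refine ⟨M * L⁻¹, good_mul hM (good_inv hL), ?_, ?_⟩ <;> show M (L.symm _) = _
  · rw [← e1, L.symm_apply_apply, e1, f1]
  · rw [← e2, L.symm_apply_apply, f2]

end CfsgLib.CoOneType
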